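import Cfsg.Agent.Lib.Geo.NineU.Maximal
import Cfsg.Agent.Lib.Geo.Nine.Coord
import Cfsg.Agent.Lib.Classical.FieldNorm

/-!
# Maximality of the normaliser of an extraspecial group of order 243 in SU9
-/

set_option autoImplicit false
set_option maxHeartbeats 1000000

namespace CfsgLib.Geo.NineU

open Matrix Cfsg.Geo
open scoped commutatorElement
open CfsgLib.Geo.Nine
open CfsgLib.Geo.SympNorm (commute_scalar)
open CfsgLib.Geo.Asch (IsQPow)

variable {F : Type*} [Field F] [Fintype F] {σ : F ≃+* F} {p : ℕ}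

local notation "G9" => GL I9 F
local notation "L9" => GL (Fin 9) F
local notation "A9" => Matrix (Fin 9) (Fin 9) F

omit [Fintype F] in
theorem frameOf_eq (P g : L9) : frameOf P g = (E9 (F := F)).symm (P⁻¹ * g * P) := by
  show glReindex _ (P⁻¹ * g * P⁻¹⁻¹) = _
  rw [inv_inv, MulEquiv.eq_symm_apply]
  refine Units.ext (Matrix.ext fun r s => ?_)
  rw [E9_apply]
  show ((P⁻¹ * g * P : L9) : A9) (e9 (e9.symm r)) (e9 (e9.symm s)) = _
  simp

/-- A similitude of exponent three is an isometry. -/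
theorem mem_U_of_cube (hσ : Fld σ p) {g : L9} (hg : g ∈ Sim σ (Fin 9)) (h3 : g ^ 3 = 1) :
    g ∈ U σ (Fin 9) := by
  obtain ⟨c, hc⟩ := hg
  have hc3 : (c : F) ^ 3 = 1 := by
    have e : ((g * (g * g) : L9) : A9)ᵀ * ((g * (g * g) : L9) : A9).map σ = ((c : F) ^ 3) • 1 := by
      simp only [Units.val_mul, transpose_mul, Matrix.map_mul]
      calc (g : A9)ᵀ * (g : A9)ᵀ * (g : A9)ᵀ * ((g : A9).map σ * ((g : A9).map σ * (g : A9).map σ))
          = (g : A9)ᵀ * ((g : A9)ᵀ * ((g : A9)ᵀ * (g : A9).map σ) * (g : A9).map σ) * (g : A9).map σ := by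
            simp only [mul_assoc]
        _ = _ := by
          simp only [hc, mul_smul_comm, smul_mul_assoc, mul_one, smul_smul]
          congr 1; ring
    rw [← pow_three, h3, Units.val_one, transpose_one, Matrix.map_one σ (map_zero σ) (map_one σ), one_mul] at e
    simpa using (congrFun₂ e 0 0).symm
  have hσc : σ (c : F) = c := by
    have h1 : ((g : A9)ᵀ * (g : A9).map σ)ᵀ.map σ = (g : A9)ᵀ * (g : A9).map σ := by
      ext r s
      simp [Matrix.mul_apply, hσ.qpow.involutive _, mul_comm]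
    rw [hc] at h1
    simpa using congrFun₂ h1 0 0
  have hc1 : (c : F) = 1 := by
    have h := pow_gcd_eq_one.2 ⟨hc3, sigma_fix_pow hσ c.ne_zero hσc⟩
    rwa [show Nat.gcd 3 (p - 1) = 1 from (Nat.prime_three.coprime_iff_not_dvd).2 (by have := hσ.mod3; omega),
      pow_one] at h
  rw [hc1, one_smul] at hc
  exact mem_U.2 hc

/-- A basis adapted to both the group and the form. -/
theorem exists_unitary_basis (hσ : Fld σ p) {l : F} (hl : IsPrimitiveRoot l 3) {R : Subgroup L9} (h : Pre R)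
    (hRU : R ≤ U σ (Fin 9)) :
    ∃ P ∈ U σ (Fin 9), (∀ k, gen9 hl k ∈ R.map (frameOf P).toMonoidHom) ∧
      R.map (frameOf P).toMonoidHom ≤ R9 hl := by
  obtain ⟨P, hgen, hle⟩ := exists_basis hl h
  set K : A9 := ((P : A9).map σ)ᵀ * (P : A9) with hK
  have hdK : K.det ≠ 0 := by
    have hu : IsUnit K := by
      refine IsUnit.mul ?_ P.isUnit
      refine (Matrix.isUnit_transpose _).2 ?_
      exact P.isUnit.map (RingHom.mapMatrix σ.toRingHom)
    exact ((Matrix.isUnit_iff_isUnit_det K).1 hu).ne_zero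
  let k₀ : L9 := Matrix.GeneralLinearGroup.mkOfDetNeZero K hdK
  have hcomm : ∀ k, Commute ((E9 (F := F)).symm k₀) (gen9 hl k) := by
    intro k
    obtain ⟨z, hz, e⟩ := hgen k
    change frameOf P z = gen9 hl k at e
    rw [frameOf_eq] at e
    set y : L9 := P⁻¹ * z * P with hy
    have hyU : y ∈ U σ (Fin 9) := by
      have := E9_mem_U.2 (gen9_mem_U hσ hl k)
      rwa [← e, MulEquiv.apply_symm_apply] at this
    have hzU : ((z : A9).map σ)ᵀ * (z : A9) = 1 := by
      simpa using congrArg (fun M : A9 => Mᵀ) (mem_U.1 (hRU hz))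
    have hyU' : ((y : A9).map σ)ᵀ * (y : A9) = 1 := by
      simpa using congrArg (fun M : A9 => Mᵀ) (mem_U.1 hyU)
    have e1 : (P : A9) * (y : A9) = (z : A9) * (P : A9) := by
      rw [← Units.val_mul, ← Units.val_mul, hy, mul_assoc P⁻¹, mul_inv_cancel_left]
    have e2 : ((y : A9).map σ)ᵀ * K * (y : A9) = K := by
      calc ((y : A9).map σ)ᵀ * K * (y : A9)
          = (((P : A9) * (y : A9)).map σ)ᵀ * ((P : A9) * (y : A9)) := by
            rw [hK, Matrix.map_mul, transpose_mul]; simp only [mul_assoc]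
        _ = ((P : A9).map σ)ᵀ * (((z : A9).map σ)ᵀ * (z : A9)) * (P : A9) := by
            rw [e1, Matrix.map_mul, transpose_mul]; simp only [mul_assoc]
        _ = K := by rw [hzU, mul_one]
    have hc : Commute k₀ y := by
      refine Units.ext ?_
      show K * (y : A9) = (y : A9) * K
      conv_rhs => rw [← e2]
      simp only [← mul_assoc]
      rw [mul_eq_one_comm.1 hyU', one_mul]
    rw [← e]
    exact hc.map (E9 (F := F)).symm.toMonoidHom
  obtain ⟨c, hc⟩ := (mem_scalars_iff _).1 (scalar_of_commute_gens hl hcomm)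
  have hKc : K = (c : F) • (1 : A9) := by
    have := congrArg (Matrix.reindex e9 e9) hc
    rw [← E9_val, MulEquiv.apply_symm_apply] at this
    rw [show K = (k₀ : A9) from rfl, this]
    simp [Matrix.submatrix_smul]
  have hσc : σ (c : F) = c := by
    have h1 : Kᵀ.map σ = K := by
      ext r s
      simp [hK, Matrix.mul_apply, hσ.qpow.involutive _, mul_comm]
    simpa [hKc] using congrFun₂ h1 0 0
  have hF : Fintype.card F = p ^ 2 := by rw [← Nat.card_eq_fintype_card]; exact hσ.card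
  obtain ⟨u, hu⟩ := CfsgLib.Classical.exists_norm_eq hF c.ne_zero (by rw [← hσ.qpow.eq_pow, hσc])
  let s : L9 := CfsgLib.Geo.SympNorm.sc ((u⁻¹ : Fˣ) : F) (u⁻¹).ne_zero
  have hs : s ∈ scalars (Fin 9) F := CfsgLib.Geo.SympNorm.sc_mem _ _
  have hframe : frameOf (s * P) = frameOf P := by
    refine MulEquiv.ext fun g => ?_
    rw [frameOf_eq, frameOf_eq]
    congr 1
    calc (s * P)⁻¹ * g * (s * P) = P⁻¹ * (s⁻¹ * g * s) * P := by group
      _ = _ := by rw [(commute_scalar (inv_mem hs) g).eq, inv_mul_cancel_right]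
  refine ⟨s * P, ?_, by rw [hframe]; exact hgen, by rw [hframe]; exact hle⟩
  rw [mem_U, Units.val_mul, show (s : A9) = ((u⁻¹ : Fˣ) : F) • (1 : A9) from rfl, smul_mul_assoc, one_mul]
  have h1 : (P : A9)ᵀ * (P : A9).map σ = (c : F) • 1 := by
    have := congrArg (fun M : A9 => Mᵀ) hKc
    simpa [hK] using this
  have h2 : ((((u⁻¹ : Fˣ) : F)) • (P : A9)).map σ = σ ((u⁻¹ : Fˣ) : F) • (P : A9).map σ := by ext r t; simp
  rw [h2, transpose_smul, smul_mul_assoc, mul_smul_comm, h1, smul_smul, smul_smul]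
  have h3 : ((u⁻¹ : Fˣ) : F) * σ ((u⁻¹ : Fˣ) : F) * (c : F) = 1 := by
    rw [hσ.qpow.eq_pow, ← pow_succ', Units.val_inv_eq_inv_val, inv_pow, hu, inv_mul_cancel₀ c.ne_zero]
  rw [h3, one_smul]

/-- The normaliser of a unitary extraspecial group of order 243 is maximal in SU9. -/
theorem maximal (hσ : Fld σ p) {R : Subgroup L9} (hR : IsSymplecticTypeGroup 3 R)
    (habs : ActsAbsolutelyIrreducibly (matrixSet R)) (hsim : R ≤ Sim σ (Fin 9))
    (hZ : Nat.card (Subgroup.center R) = 3) :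
    Cfsg.Geo.IsMaximalIn (SUn σ (Fin 9)) (subgroupNormalizer R ⊓ SUn σ (Fin 9)) := by
  classical
  have hF : Fintype.card F = p ^ 2 := by rw [← Nat.card_eq_fintype_card]; exact hσ.card
  obtain ⟨l, hl⟩ := CfsgLib.Geo.Extra27.exists_primitive (F := F) (n := 3) (by
    obtain ⟨k, hk⟩ : ∃ k, p = 3 * k + 2 := ⟨p / 3, by have := hσ.mod3; omega⟩
    rw [hF, hk, show (3 * k + 2) ^ 2 = 3 * (3 * k * k + 4 * k + 1) + 1 by ring, Nat.add_sub_cancel]
    exact Dvd.intro _ rfl) (by norm_num)
  have hexp : Monoid.exponent R = 3 := by rw [hR.exponent_eq]; norm_num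
  haveI : Finite R := inferInstance
  have hD := commutator_le_center hR.pGroup hexp hR.cyclic_of_characteristic hZ
  have hpre : Pre R := by
    refine ⟨fun x hx => ?_, fun x hx y hy => ?_, habs⟩
    · have := Monoid.pow_exponent_eq_one (⟨x, hx⟩ : R)
      rw [hexp] at this
      exact congrArg Subtype.val this
    · refine CfsgLib.Geo.Asch.mem_scalars_of_commute habs fun n hn => ?_
      have hc : ⁅(⟨x, hx⟩ : R), ⟨y, hy⟩⁆ ∈ Subgroup.center R :=
        hD (Subgroup.commutator_mem_commutator (Subgroup.mem_top _) (Subgroup.mem_top _))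
      exact (congrArg Subtype.val (Subgroup.mem_center_iff.1 hc ⟨n, hn⟩)).symm
  have hRU : R ≤ U σ (Fin 9) := fun g hg => mem_U_of_cube hσ (hsim hg) (hpre.cube g hg)
  obtain ⟨P, hP, hgen, hle⟩ := exists_unitary_basis hσ hl hpre hRU
  set φ : L9 ≃* G9 := frameOf P with hφ
  have hcube : ∀ x ∈ R.map φ.toMonoidHom, x ^ 3 = 1 := by
    rintro _ ⟨x, hx, rfl⟩
    rw [← map_pow, hpre.cube x hx, map_one]
  have hN := normalizer_eq hl hgen hle hcube
  have hSU : (SUn σ (Fin 9)).map φ.toMonoidHom = SUn σ I9 := by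
    ext g
    rw [Subgroup.mem_map_equiv]
    have e : φ.symm g = P * (E9 (F := F)) g * P⁻¹ := by
      rw [MulEquiv.symm_apply_eq, hφ, frameOf_eq, MulEquiv.eq_symm_apply]
      group
    rw [e, Subgroup.mem_inf, Subgroup.mem_inf]
    refine and_congr ?_ ?_
    · rw [Subgroup.mul_mem_cancel_right _ (inv_mem hP), Subgroup.mul_mem_cancel_left _ hP, E9_mem_U]
    · have : P * (E9 (F := F)) g * P⁻¹ ∈ specialLinear (Fin 9) F ↔ (E9 (F := F)) g ∈ specialLinear (Fin 9) F := by
        show Matrix.GeneralLinearGroup.det _ = 1 ↔ Matrix.GeneralLinearGroup.det _ = 1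
        rw [map_mul, map_mul, map_inv, mul_comm, inv_mul_cancel_left]
      exact this.trans E9_mem_SL
  have hNmap : (subgroupNormalizer R).map φ.toMonoidHom = N9 hl := by
    rw [← hN]
    ext g
    rw [Subgroup.mem_map_equiv]
    show φ.symm g ∈ Subgroup.normalizer _ ↔ g ∈ Subgroup.normalizer _
    rw [Subgroup.mem_normalizer_iff, Subgroup.mem_normalizer_iff]
    constructor
    · intro hg x
      have := hg (φ.symm x)
      rw [Subgroup.mem_map_equiv, Subgroup.mem_map_equiv, map_mul, map_mul, map_inv]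
      exact this
    · intro hg x
      have := hg (φ x)
      rw [Subgroup.mem_map_equiv, Subgroup.mem_map_equiv, map_mul, map_mul, map_inv,
        MulEquiv.symm_apply_apply] at this
      exact this
  have := CfsgLib.Geo.OrthSub.isMaximalIn_map φ.symm (maximal_std hσ hl)
  convert this using 1
  · rw [← hSU, Subgroup.map_map]
    convert (Subgroup.map_id (SUn σ (Fin 9))).symm
    ext x; simp
  · rw [← hSU, ← hNmap, ← Subgroup.map_inf_eq _ _ _ φ.injective, Subgroup.map_map]
    convert (Subgroup.map_id (subgroupNormalizer R ⊓ SUn σ (Fin 9))).symm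
    ext x; simp

omit [Fintype F] in
/-- The normaliser of a symplectic-type group of order 243 is maximal in SU9. -/
theorem su9_conj8 [Fintype F] (q : ℕ) (hF : Fintype.card F = q ^ 2) :
    ∀ (p : ℕ) (R : Subgroup (Matrix.GeneralLinearGroup (Fin 9) F)), p.Prime → q = p → p % 3 = 2 →
      Cfsg.Geo.IsSymplecticTypeGroup 3 R → Cfsg.Geo.ActsAbsolutelyIrreducibly (Cfsg.Geo.matrixSet R) →
      R ≤ Cfsg.Geo.similarityGroup (Cfsg.hermForm 9 F q) → Nat.card R = 243 →
      Nat.card (Subgroup.center R) = 3 →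
      Cfsg.Geo.IsMaximalIn (Cfsg.GU 9 F q ⊓ Cfsg.Geo.specialLinear (Fin 9) F)
        (Cfsg.Geo.subgroupNormalizer R ⊓ (Cfsg.GU 9 F q ⊓ Cfsg.Geo.specialLinear (Fin 9) F)) := by
  intro p R hp hqp h3 hR habs hsim _ hZ
  subst hqp
  obtain ⟨σ, hq⟩ := CfsgLib.Geo.Asch.exists_isQPow hF
  rw [GU_eq hq]
  exact maximal ⟨hp, h3, hq, by rw [Nat.card_eq_fintype_card]; exact hF⟩ hR habs
    (fun g hg => (similarity_iff hq).1 (hsim hg)) hZ

end CfsgLib.Geo.NineU
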