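import Cfsg.Agent.Lib.Geo.Nine.Base

/-!
# The standard group of order 27 is of symplectic type
-/

set_option autoImplicit false

namespace CfsgLib.Geo.NineU

open Matrix Cfsg.Geo
open CfsgLib.Geo.Extra27 (amat bmat jmat Heis)
open CfsgLib.Geo.SL3.Maximal
open CfsgLib.Geo.Nine

variable {F : Type*} [Field F] {l : F}

local notation "M3" => Matrix (Fin 3) (Fin 3) F
local notation "G3" => GL (Fin 3) F
local notation "V3" => ZMod 3 × ZMod 3

variable (hl : IsPrimitiveRoot l 3)
include hl

/-- The data of the standard group. -/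
theorem h3_data [Finite F] : Monoid.exponent (H3 hl) = 3 ∧ IsSymplecticTypeGroup 3 (H3 hl) ∧
    ActsAbsolutelyIrreducibly (matrixSet (H3 hl)) ∧ Nat.card (Subgroup.center (H3 hl)) = 3 ∧
    ∀ x ∈ H3 hl, x ^ 3 = 1 := by
  classical
  haveI : Fact (Nat.Prime 3) := ⟨Nat.prime_three⟩
  have h27 := card_H3 hl
  have hpow : ∀ x ∈ H3 hl, x ^ 3 = 1 := by
    intro x hx
    obtain ⟨v, hv⟩ := exists_rel (h := std hl) hx
    have h3v := v3_three
    have hr := hv.pow 3
    rw [h3v] at hr
    obtain ⟨c, hc, e⟩ := exists_scalar_wd hl hv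
    obtain ⟨d, hd⟩ := (mem_scalars_iff c).1 hc
    have hd3 : (d : F) ^ 3 = 1 := by
      have h1 := (std hl).det_eq_one _ hx
      rwa [e, Units.val_mul, det_mul, det_wd, mul_one, hd, det_smul, det_one, mul_one, Fintype.card_fin] at h1
    have hw : ∀ u : V3, wd hl u ^ 3 = 1 := by
      intro u
      have h3 := hl.pow_eq_one
      have hA : (amat l : M3) ^ 3 = 1 := by
        rw [amat, diagonal_pow, ← diagonal_one]
        congr 1
        funext i; fin_cases i <;> simp [h3, show (l ^ 2) ^ 3 = 1 by rw [← pow_mul, mul_comm, pow_mul, h3, one_pow]]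
      have hB : (bmat : M3) ^ 3 = 1 := by
        rw [pow_three]
        ext r s; fin_cases r <;> fin_cases s <;> simp [bmat, Matrix.mul_apply, Fin.sum_univ_three]
      set i := (-u.1).val
      set j := u.2.val
      set X : M3 := amat l ^ j with hX
      set Y : M3 := bmat ^ i with hY
      have hr := (rel_b (h := std hl)).pow i
      have e := comm_pair (std hl) (pow_mem (std hl).aR j) hr ((rel_a (h := std hl)).pow j)
      simp only [Units.val_pow_eq_pow_val] at e
      change (Y : M3) * X = SL3.Maximal.lp l _ • (X * Y) at e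
      generalize pair (i • ((2, 0) : V3)) (j • ((0, 1) : V3)) = k at e
      have hk : SL3.Maximal.lp l k ^ 3 = 1 := by rw [SL3.Maximal.lp, ← pow_mul, mul_comm, pow_mul, h3, one_pow]
      refine Units.ext ?_
      rw [Units.val_pow_eq_pow_val]
      show (((aG hl) ^ j * (bG hl) ^ i : G3) : M3) ^ 3 = 1
      rw [Units.val_mul, Units.val_pow_eq_pow_val, Units.val_pow_eq_pow_val]
      show (X * Y) ^ 3 = 1
      have e' : ∀ Z : M3, Y * (X * Z) = SL3.Maximal.lp l k • (X * (Y * Z)) := fun Z => by
        rw [← mul_assoc, e, smul_mul_assoc, mul_assoc]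
      rw [pow_three]
      simp only [mul_assoc, e', mul_smul_comm, smul_smul]
      rw [show SL3.Maximal.lp l k * (SL3.Maximal.lp l k * SL3.Maximal.lp l k) = 1 by rw [← hk]; ring, one_smul,
        show X * (X * (X * (Y * (Y * Y)))) = X ^ 3 * Y ^ 3 by simp only [pow_three, mul_assoc], hX, hY, ← pow_mul,
        mul_comm j, pow_mul, hA, one_pow, ← pow_mul, mul_comm i, pow_mul, hB, one_pow, one_mul]
    rw [e, ((SympNorm.commute_scalar hc _)).mul_pow, hw, mul_one]
    refine Units.ext ?_
    rw [Units.val_pow_eq_pow_val, hd, smul_pow, hd3, one_pow, one_smul, Units.val_one]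
  have hexp : Monoid.exponent (H3 hl) = 3 := by
    refine (Nat.dvd_prime Nat.prime_three).1 (Monoid.exponent_dvd_of_forall_pow_eq_one
      fun x => Subtype.ext (hpow x x.2)) |>.resolve_left fun h1 => ?_
    haveI : Subsingleton (H3 hl) := Monoid.exp_eq_one_iff.1 h1
    rw [Nat.card_of_subsingleton (1 : H3 hl)] at h27
    omega
  have hna : ¬ IsMulCommutative (H3 hl) := fun hc => by
    have e := congrArg (fun x : H3 hl => ((x : G3) : M3)) (hc.1.1 ⟨_, (std hl).aR⟩ ⟨_, (std hl).bR⟩)
    simp only [Subgroup.coe_mul, Units.val_mul] at e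
    change (aG hl : M3) * (bG hl : M3) = (bG hl : M3) * (aG hl : M3) at e
    rw [comm_ab hl] at e
    have hne : (bG hl : M3) * (aG hl : M3) ≠ 0 := (bG hl * aG hl).ne_zero
    exact hl.ne_one (by norm_num) (smul_left_injective F hne (e.trans (one_smul _ _).symm))
  have hcen : ∀ z : H3 hl, z ∈ Subgroup.center (H3 hl) ↔ (z : G3) ∈ scalars (Fin 3) F := by
    refine fun z => ⟨fun hz => ?_, fun hz => Subgroup.mem_center_iff.2 fun x =>
      Subtype.ext (SympNorm.commute_scalar hz (x : G3)).symm.eq⟩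
    refine Rel.scalar (h := std hl) ⟨?_, ?_⟩ <;>
      simp only [Prod.fst_zero, Prod.snd_zero, SL3.Maximal.lp_zero, one_smul, ← Units.val_mul]
    · exact congrArg Units.val
        (congrArg Subtype.val (Subgroup.mem_center_iff.1 hz ⟨_, (std hl).aR⟩)).symm
    · exact congrArg Units.val
        (congrArg Subtype.val (Subgroup.mem_center_iff.1 hz ⟨_, (std hl).bR⟩)).symm
  have hZ : Nat.card (Subgroup.center (H3 hl)) = 3 := by
    have hpG : IsPGroup 3 (H3 hl) := IsPGroup.of_card (n := 3) h27
    haveI : Nontrivial (H3 hl) := Finite.one_lt_card_iff_nontrivial.1 (by omega)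
    obtain ⟨i, hi, hcard⟩ := (Nat.dvd_prime_pow Nat.prime_three).1
      (show Nat.card (Subgroup.center (H3 hl)) ∣ 3 ^ 3 by
        have := Subgroup.card_subgroup_dvd_card (Subgroup.center (H3 hl))
        rwa [h27] at this)
    have h1 := Finite.one_lt_card_iff_nontrivial.2 hpG.center_nontrivial
    have hle : Nat.card (Subgroup.center (H3 hl)) ≤ Nat.card (rootsOfUnity 3 F) := by
      refine Nat.card_le_card_of_injective (fun z => ⟨Units.mk0 (((z : H3 hl) : G3) 0 0) ?_, ?_⟩) ?_
      · obtain ⟨d, hd⟩ := (mem_scalars_iff _).1 ((hcen z).1 z.2)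
        simp [hd]
      · obtain ⟨d, hd⟩ := (mem_scalars_iff _).1 ((hcen z).1 z.2)
        rw [mem_rootsOfUnity, Units.ext_iff, Units.val_pow_eq_pow_val, Units.val_mk0]
        have h1 := (std hl).det_eq_one _ (z : H3 hl).2
        rw [hd, det_smul, det_one, mul_one, Fintype.card_fin] at h1
        simpa [hd] using h1
      · intro z z' e
        obtain ⟨d, hd⟩ := (mem_scalars_iff _).1 ((hcen z).1 z.2)
        obtain ⟨d', hd'⟩ := (mem_scalars_iff _).1 ((hcen z').1 z'.2)
        have e' := congrArg (fun u => ((u : Fˣ) : F)) (congrArg Subtype.val e)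
        simp [hd, hd'] at e'
        exact Subtype.ext (Subtype.ext (Units.ext (by rw [hd, hd', e'])))
    have hr : Nat.card (rootsOfUnity 3 F) ≤ 3 := by
      exact card_rootsOfUnity F 3
    rw [hcard] at h1 hle ⊢
    interval_cases i <;> first | rfl | omega | (norm_num at h1 hle ⊢)
  have hsym : IsSymplecticTypeGroup 3 (H3 hl) := by
    refine ⟨Nat.prime_three, IsPGroup.of_card (n := 3) h27, fun A hA hAc => ?_, by rw [hexp]; norm_num⟩
    have hsc : A.map (H3 hl).subtype ≤ scalars (Fin 3) F := by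
      refine le_scalars_of_invariant (h := std hl) (h3_ne hl) (fun x ⟨y, _, e⟩ => e ▸ y.2) ?_ ?_
      · rintro _ ⟨x, hx, rfl⟩ _ ⟨y, hy, rfl⟩
        have := congrArg Subtype.val (hAc.1.1 ⟨x, hx⟩ ⟨y, hy⟩)
        exact congrArg Subtype.val this
      · rintro _ ⟨x, hx, rfl⟩
        let φ : MulAut (H3 hl) := Subgroup.normalizerMonoidHom (H3 hl) ⟨fEl (std hl) (h3_ne hl), (fG_mem hl).1⟩
        have : φ x ∈ A := by
          rw [← Subgroup.characteristic_iff_map_eq.1 hA φ]
          exact Subgroup.mem_map_of_mem _ hx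
        exact ⟨φ x, this, rfl⟩
    have hAle : A ≤ Subgroup.center (H3 hl) := fun x hx => (hcen x).2 (hsc ⟨x, hx, rfl⟩)
    haveI : IsCyclic (Subgroup.center (H3 hl)) := isCyclic_of_prime_card (p := 3) hZ
    exact isCyclic_of_injective (Subgroup.inclusion hAle) (Subgroup.inclusion_injective hAle)
  exact ⟨hexp, hsym, (std hl).absIrred (h3_ne hl), hZ, hpow⟩

end CfsgLib.Geo.NineU
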