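import Cfsg.Agent.Lib.Geo.NineU.Forms
import Cfsg.Agent.Lib.Known.AutPSU.Faithful
import Cfsg.Agent.Lib.Geo.Asch.SUTools

/-!
# Normalised subgroups and the special unitary group
-/

set_option autoImplicit false

namespace CfsgLib.Geo.NineU

open Matrix Cfsg.Geo
open CfsgLib.Geo.Asch (IsQPow SUg)
open scoped commutatorElement

variable {F : Type*} [Field F] [Fintype F] {σ : F ≃+* F} {q n : ℕ}

omit [Fintype F] in
theorem similarity_iff (hq : IsQPow σ q) {g : GL (Fin n) F} :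
    g ∈ similarityGroup (Cfsg.hermForm n F q) ↔ g ∈ Sim σ (Fin n) := by
  constructor
  · rintro ⟨c, hc⟩
    refine ⟨c, ?_⟩
    ext i j
    have h := hc (Pi.single i 1) (Pi.single j 1)
    rw [CfsgLib.Geo.Asch.hermForm_eq hq, CfsgLib.Geo.Asch.hermForm_eq hq] at h
    rw [Matrix.mul_apply, Matrix.smul_apply, Matrix.one_apply]
    simpa [Pi.single_apply, eq_comm] using h
  · rintro ⟨c, hc⟩
    refine ⟨c, fun u v => ?_⟩
    have hs := congrArg (fun M : Matrix (Fin n) (Fin n) F => u ⬝ᵥ M *ᵥ (σ ∘ v)) hc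
    simp only [smul_mulVec, one_mulVec, dotProduct_smul, smul_eq_mul] at hs
    rw [CfsgLib.Geo.Asch.hermForm_eq hq, CfsgLib.Geo.Asch.hermForm_eq hq]
    rw [← mulVec_mulVec, dotProduct_mulVec, vecMul_transpose] at hs
    have hmap : (g : Matrix (Fin n) (Fin n) F).map σ *ᵥ (σ ∘ v) = σ ∘ ((g : Matrix (Fin n) (Fin n) F) *ᵥ v) := by
      funext i; simp [mulVec, dotProduct, map_sum]
    rw [hmap] at hs
    exact hs

theorem GU_eq (hq : IsQPow σ q) : Cfsg.GU n F q = U σ (Fin n) :=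
  SetLike.ext fun _ => ⟨fun h => CfsgLib.Geo.Asch.mul_eq_one_of_mem_GU hq h,
    fun h => CfsgLib.Geo.Asch.mem_GU_of_mul hq h⟩

theorem SUg_eq (hq : IsQPow σ q) : SUg n F q = SUn σ (Fin n) := by
  rw [SUg, GU_eq hq]

theorem scalar_of_commute_SU (hq : IsQPow σ q) (hF : Fintype.card F = q ^ 2) (hn : 3 ≤ n) {r : GL (Fin n) F}
    (hr : ∀ g ∈ SUn σ (Fin n), Commute g r) : r ∈ scalars (Fin n) F := by
  obtain ⟨c, hc⟩ := CfsgLib.Geo.Asch.scalar_of_commute_transvections hq hF hn (k := (r : Matrix (Fin n) (Fin n) F))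
    fun φ u hφ h => congrArg Units.val (hr _ (SUg_eq hq ▸ h)).eq
  have hc0 : c ≠ 0 := fun e => by
    haveI : Nonempty (Fin n) := ⟨⟨0, by omega⟩⟩
    exact r.ne_zero (by rw [hc, e, zero_smul])
  exact (mem_scalars_iff r).2 ⟨Units.mk0 c hc0, hc⟩

/-- The matrices of the special unitary group as a group. -/
noncomputable def suIso (hq : IsQPow σ q) : Cfsg.SU n F q ≃* SUn σ (Fin n) :=
  (MulEquiv.ofBijective
    ((Matrix.SpecialLinearGroup.toGL.comp (Cfsg.SU n F q).subtype).codRestrict (SUg n F q) fun x =>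
      ⟨fun u v => x.2 u v, Units.ext x.1.2⟩)
    ⟨fun a b e => Subtype.ext (Matrix.SpecialLinearGroup.toGL_injective (congrArg Subtype.val e)),
      fun g => ⟨⟨⟨_, congrArg Units.val (show Matrix.GeneralLinearGroup.det (g : GL (Fin n) F) = 1 from g.2.2)⟩,
        fun u v => g.2.1 u v⟩, Subtype.ext (Units.ext rfl)⟩⟩).trans (MulEquiv.subgroupCongr (SUg_eq hq))

theorem commutator_SUn (hq : IsQPow σ q) (hF : Fintype.card F = q ^ 2) (hn : 3 ≤ n) (hex : n = 3 → q ≠ 2) :
    commutator ↥(SUn σ (Fin n)) = ⊤ := by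
  let e := suIso (n := n) hq
  have h := congrArg (Subgroup.map e.toMonoidHom) (CfsgLib.Known.AutPSU.commutator_SU (q := q) hF hn hex)
  rw [commutator_def, Subgroup.map_commutator, Subgroup.map_top_of_surjective e.toMonoidHom e.surjective] at h
  rw [commutator_def]
  exact h

theorem SUn_le_commutator (hq : IsQPow σ q) (hF : Fintype.card F = q ^ 2) (hn : 3 ≤ n) (hex : n = 3 → q ≠ 2) :
    SUn σ (Fin n) ≤ ⁅SUn σ (Fin n), SUn σ (Fin n)⁆ := by
  intro x hx
  have h : (⟨x, hx⟩ : SUn σ (Fin n)) ∈ commutator ↥(SUn σ (Fin n)) := by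
    rw [commutator_SUn hq hF hn hex]; exact Subgroup.mem_top _
  have := Subgroup.mem_map_of_mem (SUn σ (Fin n)).subtype h
  rwa [Subgroup.map_subtype_commutator] at this

/-- A subgroup normalised by the special unitary group containing a similitude which is not scalar. -/
theorem su_le_of_normalized (hq : IsQPow σ q) (hF : Fintype.card F = q ^ 2) (hn : 3 ≤ n) (hex : n = 3 → q ≠ 2)
    {K : Subgroup (GL (Fin n) F)} (hK : ∀ g ∈ SUn σ (Fin n), ∀ y ∈ K, g * y * g⁻¹ ∈ K) {r : GL (Fin n) F}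
    (hr : r ∈ K) (hrS : r ∈ Sim σ (Fin n)) (hns : r ∉ scalars (Fin n) F) : SUn σ (Fin n) ≤ K := by
  classical
  set S := SUn σ (Fin n) with hS
  have hperf := SUn_le_commutator hq hF hn hex
  obtain ⟨g, hg, hgr⟩ : ∃ g ∈ S, g * r * g⁻¹ * r⁻¹ ∉ scalars (Fin n) F := by
    by_contra hall
    push Not at hall
    let f : S →* GL (Fin n) F := MonoidHom.mk' (fun g => (g : GL (Fin n) F) * r * (g : GL (Fin n) F)⁻¹ * r⁻¹)
      fun a b => by
        have hc := CfsgLib.Geo.SympNorm.commute_scalar (hall _ b.2) (a : GL (Fin n) F)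
        calc ((a * b : S) : GL (Fin n) F) * r * ((a * b : S) : GL (Fin n) F)⁻¹ * r⁻¹
            = a * ((b : GL (Fin n) F) * r * (b : GL (Fin n) F)⁻¹ * r⁻¹) * (r * (a : GL (Fin n) F)⁻¹ * r⁻¹) := by
              rw [Subgroup.coe_mul]; group
          _ = ((b : GL (Fin n) F) * r * (b : GL (Fin n) F)⁻¹ * r⁻¹) * (a * r * (a : GL (Fin n) F)⁻¹ * r⁻¹) := by
              rw [← hc.eq]; group
          _ = _ := (CfsgLib.Geo.SympNorm.commute_scalar (hall _ b.2) _).eq
    have htriv : ∀ g : S, f g = 1 := by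
      intro g
      have h1 : g ∈ commutator ↥S := (commutator_SUn (σ := σ) hq hF hn hex).symm ▸ Subgroup.mem_top g
      have hle : commutator ↥S ≤ f.ker := by
        rw [commutator_def, Subgroup.commutator_le]
        intro a _ b _
        rw [MonoidHom.mem_ker, map_commutatorElement, commutatorElement_eq_one_iff_mul_comm]
        exact (CfsgLib.Geo.SympNorm.commute_scalar (hall _ a.2) _).eq
      exact hle h1
    refine hns (scalar_of_commute_SU hq hF hn fun g hg => ?_)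
    exact mul_inv_eq_iff_eq_mul.1 (mul_inv_eq_one.1 (htriv ⟨g, hg⟩))
  set y := g * r * g⁻¹ * r⁻¹ with hy
  have hyK : y ∈ K := mul_mem (hK g hg r hr) (inv_mem hr)
  have hyS : y ∈ S := by
    rw [hy, show g * r * g⁻¹ * r⁻¹ = g * (r * g⁻¹ * r⁻¹) by group]
    exact mul_mem hg (Sim_conj_SU σ _ hrS (inv_mem hg))
  haveI hsimp : IsSimpleGroup (Cfsg.PSU n F q) := CfsgLib.Classical.Herm.isSimpleGroup_PSU' hF n hn hex
  let e := suIso (n := n) hq
  haveI : IsSimpleGroup (↥S ⧸ Subgroup.center ↥S) := by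
    let e' : Cfsg.PSU n F q ≃* ↥S ⧸ Subgroup.center ↥S :=
      QuotientGroup.congr _ _ e (CfsgLib.Classical.Herm.map_center_of_equiv e)
    haveI : Nontrivial (↥S ⧸ Subgroup.center ↥S) := e'.symm.toEquiv.nontrivial
    exact IsSimpleGroup.isSimpleGroup_of_surjective e'.toMonoidHom e'.surjective
  let N : Subgroup ↥S := K.subgroupOf S
  haveI : N.Normal := ⟨fun z hz g => hK g g.2 z hz⟩
  let π := QuotientGroup.mk' (Subgroup.center ↥S)
  haveI : (N.map π).Normal := Subgroup.Normal.map inferInstance π (QuotientGroup.mk'_surjective _)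
  have hcen : ∀ z : ↥S, z ∈ Subgroup.center ↥S → (z : GL (Fin n) F) ∈ scalars (Fin n) F := fun z hz =>
    scalar_of_commute_SU hq hF hn fun g hg => congrArg Subtype.val (Subgroup.mem_center_iff.1 hz ⟨g, hg⟩)
  rcases IsSimpleGroup.eq_bot_or_eq_top_of_normal (N.map π) inferInstance with h | h
  · exfalso
    have h1 : π ⟨y, hyS⟩ ∈ N.map π := Subgroup.mem_map_of_mem π (Subgroup.mem_subgroupOf.2 hyK)
    rw [h, Subgroup.mem_bot, QuotientGroup.mk'_apply, QuotientGroup.eq_one_iff] at h1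
    exact hgr (hcen _ h1)
  · intro x hx
    refine Subgroup.commutator_le.2 (fun a ha b hb => ?_) (hperf hx)
    have dec : ∀ a : ↥S, ∃ k : ↥S, (k : GL (Fin n) F) ∈ K ∧ ∃ z : GL (Fin n) F, z ∈ scalars (Fin n) F ∧
        (a : GL (Fin n) F) = k * z := fun a => by
      obtain ⟨k, hk, e⟩ := h.ge (Subgroup.mem_top (π a))
      rw [QuotientGroup.mk'_apply, QuotientGroup.mk'_apply, QuotientGroup.eq] at e
      exact ⟨k, hk, _, hcen _ e, by simp⟩
    obtain ⟨k, hk, z, hz, ea⟩ := dec ⟨a, ha⟩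
    obtain ⟨k', hk', z', hz', eb⟩ := dec ⟨b, hb⟩
    simp only at ea eb
    have cj : ∀ {c : GL (Fin n) F}, c ∈ scalars (Fin n) F → ∀ w, c * w * c⁻¹ = w := fun hc w => by
      rw [(CfsgLib.Geo.SympNorm.commute_scalar hc w).eq, mul_inv_cancel_right]
    have e2 : ⁅a, b⁆ = ⁅(k : GL (Fin n) F), (k' : GL (Fin n) F)⁆ := by
      rw [ea, eb, commutatorElement_def, commutatorElement_def]
      calc (k : GL (Fin n) F) * z * (k' * z') * ((k : GL (Fin n) F) * z)⁻¹ * ((k' : GL (Fin n) F) * z')⁻¹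
          = k * (z * (k' * z') * z⁻¹) * (k : GL (Fin n) F)⁻¹ * ((k' : GL (Fin n) F) * z')⁻¹ := by group
        _ = k * k' * (z' * (k : GL (Fin n) F)⁻¹ * z'⁻¹) * (k' : GL (Fin n) F)⁻¹ := by rw [cj hz]; group
        _ = _ := by rw [cj hz']
    rw [e2, commutatorElement_def]
    exact mul_mem (mul_mem (mul_mem hk hk') (inv_mem hk)) (inv_mem hk')

end CfsgLib.Geo.NineU
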