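import Cfsg.Agent.Lib.Geo.Nine.Sylow
import Cfsg.Agent.Lib.Geo.NineU.HData
import Cfsg.Agent.Lib.Geo.NineU.SUFacts
import Cfsg.Agent.S5777

/-!
# The normaliser of the group of order 27 among the unitary similitudes
-/

set_option autoImplicit false
set_option maxHeartbeats 1000000

namespace CfsgLib.Geo.NineU

open Matrix Cfsg.Geo
open scoped commutatorElement
open CfsgLib.Geo.Extra27 (amat bmat jmat Heis)
open CfsgLib.Geo.SL3.Maximal
open CfsgLib.Geo.Nine
open CfsgLib.Geo.Asch (IsQPow SUg)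
open CfsgLib.Geo.SympNorm (commute_scalar)

variable {F : Type*} [Field F] {l : F} {σ : F ≃+* F} {p : ℕ}

local notation "M3" => Matrix (Fin 3) (Fin 3) F
local notation "G3" => GL (Fin 3) F

/-- A group whose non-trivial subgroups share an element does not act faithfully on fewer points than its order. -/
theorem no_small_action {G : Type*} [Group G] [Finite G] {n : ℕ} (hn : n < Nat.card G) {z : G} (hz : z ≠ 1)
    (hsub : ∀ x : G, x ≠ 1 → z ∈ Subgroup.zpowers x) (φ : G →* Equiv.Perm (Fin n)) (hφ : Function.Injective φ) :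
    False := by
  classical
  letI : MulAction G (Fin n) := MulAction.compHom (Fin n) φ
  have hfix : ∀ i : Fin n, φ z i = i := by
    intro i
    obtain ⟨a, b, hab, e⟩ : ∃ a b : G, a ≠ b ∧ φ a i = φ b i := by
      by_contra! hall
      have := Nat.card_le_card_of_injective (fun g => φ g i) fun a b e => by
        by_contra hab
        exact hall a b hab e
      rw [Nat.card_fin] at this
      omega
    have hx : a⁻¹ * b ≠ 1 := fun h => hab (inv_mul_eq_one.1 h)
    obtain ⟨k, hk⟩ := Subgroup.mem_zpowers_iff.1 (hsub _ hx)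
    have hf : φ (a⁻¹ * b) i = i := by
      rw [map_mul, map_inv, Equiv.Perm.mul_apply, ← e]
      exact (φ a).symm_apply_apply i
    rw [← hk, map_zpow]
    exact Equiv.Perm.zpow_apply_eq_self_of_apply_eq_self hf k
  exact hz (hφ (by rw [map_one]; exact Equiv.ext hfix))

variable (hl : IsPrimitiveRoot l 3)
include hl
variable [Fintype F]

theorem card_Q8 : Nat.card (Q8 hl) = 8 := by
  classical
  have hpow : IsPGroup 2 (Q8 hl) := fun q => ⟨2, chQ_injective hl (by
    rw [map_pow, map_one]; exact chQ_pow hl q)⟩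
  haveI : Fact (Nat.Prime 2) := ⟨Nat.prime_two⟩
  obtain ⟨k, hk⟩ := hpow.exists_card_eq
  have h8 : 8 ≤ Nat.card (Q8 hl) := by
    let Φ : Fin 4 × Fin 2 → Q8 hl := fun x =>
      ⟨fG hl, fG_Q8 hl⟩ ^ (x.1 : ℕ) * ⟨gG hl, gG_Q8 hl⟩ ^ (x.2 : ℕ)
    have key : ∀ x y : Fin 4 × Fin 2, cf ^ (x.1 : ℕ) * cg ^ (x.2 : ℕ) = cf ^ (y.1 : ℕ) * cg ^ (y.2 : ℕ) → x = y := by
      clear * -; decide +kernel
    have hinj : Function.Injective Φ := fun x y e => key x y (by
      have h := congrArg (chQ hl) e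
      simpa only [Φ, map_mul, map_pow, (chQ_vals hl).1, (chQ_vals hl).2.1] using h)
    simpa using Nat.card_le_card_of_injective Φ hinj
  have hle : Nat.card (Q8 hl) ≤ 8 := by
    have four : ∀ A : SL23, A ^ 4 = 1 → ∃ x : Fin 4 × Fin 2, cf ^ (x.1 : ℕ) * cg ^ (x.2 : ℕ) = A := by
      intro A hA
      obtain ⟨i, j, e⟩ := sl23_cases
        (P := fun A => A ^ 4 = 1 → ∃ i : Fin 4, ∃ j : Fin 4, cf ^ (i : ℕ) * cg ^ (j : ℕ) = A) sl23_four_aux A hA
      have key : ∀ i j : Fin 4, ∃ x : Fin 4 × Fin 2,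
          cf ^ (x.1 : ℕ) * cg ^ (x.2 : ℕ) = cf ^ (i : ℕ) * cg ^ (j : ℕ) := by clear * -; decide +kernel
      exact e ▸ key i j
    have hs : Function.Surjective (fun x : Fin 4 × Fin 2 =>
        (⟨fG hl, fG_Q8 hl⟩ : Q8 hl) ^ (x.1 : ℕ) * ⟨gG hl, gG_Q8 hl⟩ ^ (x.2 : ℕ)) := fun q => by
      obtain ⟨x, hx⟩ := four _ (chQ_pow hl q)
      exact ⟨x, chQ_injective hl (by simp only [map_mul, map_pow, (chQ_vals hl).1, (chQ_vals hl).2.1, hx])⟩
    simpa using Nat.card_le_card_of_surjective _ hs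
  omega

theorem jG_ne_one : jG hl ≠ 1 := fun e => jEl_not_scalar (std hl) (by rw [show jEl (std hl) = 1 from e]; exact one_mem _)

theorem jG_mem_zpowers {x : Q8 hl} (hx : x ≠ 1) : (⟨jG hl, jG_Q8 hl⟩ : Q8 hl) ∈ Subgroup.zpowers x := by
  have four : ∀ i j : Fin 4, cf ^ (i : ℕ) * cg ^ (j : ℕ) = 1 ∨ cf ^ (i : ℕ) * cg ^ (j : ℕ) = cf * cf ∨
      (cf ^ (i : ℕ) * cg ^ (j : ℕ)) * (cf ^ (i : ℕ) * cg ^ (j : ℕ)) = cf * cf := by
    clear * -; decide +kernel
  obtain ⟨i, j, e⟩ := sl23_cases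
    (P := fun A => A ^ 4 = 1 → ∃ i : Fin 4, ∃ j : Fin 4, cf ^ (i : ℕ) * cg ^ (j : ℕ) = A) sl23_four_aux _
    (chQ_pow hl x)
  have hj := (chQ_vals hl).2.2
  rcases four i j with h | h | h <;> rw [e] at h
  · exact absurd (chQ_injective hl (h.trans (map_one _).symm)) hx
  · exact Subgroup.mem_zpowers_iff.2 ⟨1, chQ_injective hl (by rw [zpow_one, hj, h])⟩
  · exact Subgroup.mem_zpowers_iff.2 ⟨2, chQ_injective hl (by rw [zpow_two, map_mul, hj, h])⟩

variable (hσ : Fld σ p)
include hσ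

theorem card_F : Fintype.card F = p ^ 2 := by rw [← Nat.card_eq_fintype_card]; exact hσ.card

theorem h3_le_SU : H3 hl ≤ SUn σ (Fin 3) := fun x hx =>
  Subgroup.mem_inf.2 ⟨(show H3 hl ≤ U σ (Fin 3) by
    rw [H3, Subgroup.closure_le]; rintro y (rfl | rfl)
    exacts [aG_mem_U hσ hl, bG_mem_U hσ hl]) hx, le_specialLinear (std hl) hx⟩

theorem q8_le_SU : Q8 hl ≤ SUn σ (Fin 3) := fun x hx =>
  Subgroup.mem_inf.2 ⟨(show Q8 hl ≤ U σ (Fin 3) by
    rw [Q8, Subgroup.closure_le]; rintro y (rfl | rfl)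
    exacts [fG_mem_U hσ hl, gG_mem_U hσ hl]) hx, (Q8_le hl hx).2⟩

/-- The part of the normaliser in the special unitary group has order divisible by 216. -/
theorem dvd_card_NS : 216 ∣ Nat.card (subgroupNormalizer (H3 hl) ⊓ SUn σ (Fin 3) : Subgroup G3) := by
  have h1 : H3 hl ≤ subgroupNormalizer (H3 hl) ⊓ SUn σ (Fin 3) := le_inf (h3_le hl) (h3_le_SU hl hσ)
  have h2 : Q8 hl ≤ subgroupNormalizer (H3 hl) ⊓ SUn σ (Fin 3) :=
    le_inf ((Q8_le hl).trans inf_le_left) (q8_le_SU hl hσ)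
  have a := Subgroup.card_dvd_of_le h1
  have b := Subgroup.card_dvd_of_le h2
  rw [card_H3 hl] at a
  rw [card_Q8 hl] at b
  exact (show Nat.Coprime 27 8 by norm_num).mul_dvd_of_dvd_of_dvd a b

theorem card_SU_three : Nat.card (SUn σ (Fin 3)) = Arith.ordSU p := by
  rw [← SUg_eq hσ.qpow]; exact card_SUg (card_F hl hσ)

/-- For the field of four elements the normaliser contains all similitudes. -/
theorem sim_le_normalizer_two (h2 : p = 2) : Sim σ (Fin 3) ≤ subgroupNormalizer (H3 hl) := by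
  subst h2
  have hNS : SUn σ (Fin 3) ≤ subgroupNormalizer (H3 hl) := by
    have h := Subgroup.eq_of_le_of_card_ge
      (inf_le_right : subgroupNormalizer (H3 hl) ⊓ SUn σ (Fin 3) ≤ SUn σ (Fin 3)) (by
        rw [card_SU_three hl hσ, show Arith.ordSU 2 = 216 by norm_num [Arith.ordSU]]
        exact Nat.le_of_dvd Nat.card_pos (dvd_card_NS hl hσ))
    exact h.ge.trans inf_le_left
  have hσc : ∀ c : F, c ≠ 0 → σ c = c → c = 1 := fun c hc h => by
    rw [hσ.qpow.eq_pow, pow_two] at h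
    exact mul_left_cancel₀ hc (h.trans (mul_one c).symm)
  rintro g ⟨c, hc⟩
  have hcs : σ (c : F) = c := by
    have h1 := congrFun₂ hc 0 0
    simp [Matrix.mul_apply, Fin.sum_univ_three] at h1
    have h2 := congrArg σ h1
    simp only [map_add, map_mul, hσ.qpow.involutive] at h2
    rw [← h2, ← h1]; ring
  rw [hσc _ c.ne_zero hcs, one_smul] at hc
  have hgU : g ∈ U σ (Fin 3) := hc
  have hd3 : (g : M3).det ^ 3 = 1 := by
    have h1 := congrArg Matrix.det hc
    rw [det_mul, det_transpose, det_one, ← RingEquiv.coe_toRingHom, ← RingHom.mapMatrix_apply, ← RingHom.map_det,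
      RingEquiv.coe_toRingHom, hσ.qpow.eq_pow, ← pow_succ'] at h1
    exact h1
  obtain ⟨k, -, hk⟩ := Extra27.eq_pow_of_cube hl hd3
  have hdd : ((dG hl : G3) : M3).det = l ^ 2 := by
    show (dmat l).det = _
    rw [dmat, det_diagonal, Fin.prod_univ_three]
    simp [pow_two]
  have hm : g * dG hl ^ k ∈ SUn σ (Fin 3) := by
    refine Subgroup.mem_inf.2 ⟨mul_mem hgU (pow_mem (dG_mem_U hσ hl) k), MonoidHom.mem_ker.2 (Units.ext ?_)⟩
    rw [Matrix.GeneralLinearGroup.val_det_apply, Units.val_mul, Units.val_pow_eq_pow_val, det_mul, det_pow, hdd, ← hk,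
      ← mul_pow, ← pow_succ', hl.pow_eq_one, one_pow, Units.val_one]
  exact (mul_mem_cancel_right (pow_mem (dG_mem hl) k)).1 (hNS hm)

theorem three_le_p (h2 : p ≠ 2) : 5 ≤ p := by
  have h := hσ.mod3
  have h' := hσ.prime.two_le
  by_contra hlt
  interval_cases p <;> simp_all

/-- Maximality for large primes. -/
theorem ns_maximal (h11 : 11 ≤ p) :
    Cfsg.Geo.IsMaximalIn (SUn σ (Fin 3)) (subgroupNormalizer (H3 hl) ⊓ SUn σ (Fin 3)) := by
  obtain ⟨hexp, hsym, hirr, hZ, -⟩ := h3_data hl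
  have hsim : H3 hl ≤ similarityGroup (Cfsg.hermForm 3 F p) := fun x hx =>
    (similarity_iff hσ.qpow).2 (U_le_Sim _ _ (h3_le_SU hl hσ hx).1)
  have h := (Cfsg.Agent.S5777.result p (card_F hl hσ) (by omega)).2.2.2.2.2.2 p (H3 hl) hσ.prime rfl hσ.mod3 h11 hsym
    hirr hsim (card_H3 hl) hZ
  rw [show Cfsg.GU 3 F p ⊓ specialLinear (Fin 3) F = SUn σ (Fin 3) from SUg_eq hσ.qpow] at h
  exact h

/-- In the group over the field with 25 elements a twisted overgroup is everything. -/
theorem five_case (h5 : p = 5) {L : Subgroup G3} (hNL : subgroupNormalizer (H3 hl) ⊓ SUn σ (Fin 3) ≤ L)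
    (hLS : L ≤ SUn σ (Fin 3)) (hd : ∀ x ∈ L, dG hl * x * (dG hl)⁻¹ ∈ L)
    (hne : ¬ L ≤ subgroupNormalizer (H3 hl)) : L = SUn σ (Fin 3) := by
  classical
  subst h5
  by_contra hLne
  haveI : Fact (Nat.Prime 3) := ⟨Nat.prime_three⟩
  have hF := card_F hl hσ
  have hq := hσ.qpow
  have h3 := h3_ne hl
  have hSg := SUg_eq (n := 3) hq
  obtain ⟨M, hM⟩ := Set.Finite.exists_maximal (s := {M : Subgroup G3 | L ≤ M ∧ M < SUn σ (Fin 3)})
    (Set.toFinite _) ⟨L, le_rfl, lt_of_le_of_ne hLS hLne⟩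
  have hMmax : IsMaximalIn (SUg 3 F 5) M := by
    rw [hSg]
    refine ⟨hM.1.2, fun K hK hKS => ?_⟩
    by_cases hKe : K = SUn σ (Fin 3)
    · exact Or.inr hKe
    · exact Or.inl (le_antisymm (hM.2 ⟨hM.1.1.trans hK, lt_of_le_of_ne hKS hKe⟩ hK) hK)
  have hLM : L ≤ M := hM.1.1
  have hMS : M ≤ SUn σ (Fin 3) := hM.1.2.le
  have hHL : H3 hl ≤ L := (le_inf (h3_le hl) (h3_le_SU hl hσ)).trans hNL
  have hirr : ∀ U : Submodule F (Fin 3 → F), (∀ g ∈ H3 hl, ∀ w ∈ U, (g : M3) *ᵥ w ∈ U) → U = ⊥ ∨ U = ⊤ :=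
    fun U hU => irreducible_heis (std hl) h3 U hU
  have hcardS : Nat.card (SUn σ (Fin 3)) = 378000 := by
    rw [card_SU_three hl hσ]; norm_num [Arith.ordSU]
  obtain ⟨P, n, hn, hcore, hle, ee⟩ : ∃ (P : Subgroup G3) (n : ℕ), (n = 6 ∨ n = 7) ∧ IsResidualCore M P ∧
      M ≤ specialLinear (Fin 3) F ∧
      Nonempty ((P ⧸ (scalars (Fin 3) F).subgroupOf P) ≃* alternatingGroup (Fin n)) := by
    cases shapeU (fun H hH hS' => Cfsg.Agent.S5779.result 5 hF (by norm_num) H hH hS') hq hF (by norm_num) hMmax with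
    | iso w hw hww hM' => exact (not_fixes_line hirr hw (((hHL.trans hLM).trans hM'.le).trans inf_le_left)).elim
    | point B' hB' hM' =>
      exact (not_fixes_line hirr (CfsgLib.Geo.Asch.mulVec_ne_zero B' (by simp))
        (((hHL.trans hLM).trans hM'.le).trans inf_le_left)).elim
    | lines h5' => exact absurd rfl h5'
    | field _ h5' => exact absurd rfl h5'
    | sub F₁ r' P' hr' hro' hc' hrat' hM' =>
      obtain ⟨t', -, -, hqt'⟩ := sub_sqrt hF hro' hc'
      exact (base_prime (by norm_num) hr' hqt').elim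
    | orth _ h7 => omega
    | hess _ _ _ h11 => omega
    | psl hc => exact absurd rfl hc.2.1
    | six _ _ hc => omega
    | five P n hn _ hcore hle e => exact ⟨P, n, hn, hcore, hle, e⟩
  set Z := (scalars (Fin 3) F).subgroupOf M with hZdef
  have hcardQ : Nat.card (M ⧸ Z) ∣ Nat.card (MulAut (alternatingGroup (Fin n))) := card_dvd_mulAut hcore ee
  have hQ8M : Q8 hl ≤ M :=
    ((le_inf ((Q8_le hl).trans inf_le_left) (q8_le_SU hl hσ)).trans hNL).trans hLM
  have hn6 : n = 6 := by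
    refine hn.resolve_right fun h7 => ?_
    subst h7
    obtain ⟨e7⟩ := ee
    haveI := socle_normal hcore
    let φ : Q8 hl →* Equiv.Perm (Fin 7) :=
      ((MulEquiv.ofBijective _ (CfsgLib.ClassSizes.AlternatingAut.conjNormal_bijective (α := Fin 7) (by simp)
        (by simp))).symm.toMonoidHom.comp
        ((MulAut.congr ((socleEquiv hcore).symm.trans e7)).toMonoidHom.comp MulAut.conjNormal)).comp
        ((QuotientGroup.mk' Z).comp (Subgroup.inclusion hQ8M))
    refine no_small_action (n := 7) (by rw [card_Q8 hl]; norm_num) (z := (⟨jG hl, jG_Q8 hl⟩ : Q8 hl))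
      (fun e => jG_ne_one hl (congrArg Subtype.val e)) (fun x hx => jG_mem_zpowers hl hx) φ ?_
    refine (injective_iff_map_eq_one φ).2 fun x hx => ?_
    simp only [φ, MonoidHom.comp_apply, MulEquiv.coe_toMonoidHom, map_eq_one_iff _ (MulEquiv.injective _)] at hx
    have hk : (QuotientGroup.mk' Z (Subgroup.inclusion hQ8M x)) = 1 := by
      refine Subgroup.mem_bot.1 (centralizer_socle hcore ▸ Subgroup.mem_centralizer_iff.2 fun a ha => ?_)
      have h1 := congrArg Subtype.val (MulEquiv.congr_fun hx ⟨a, ha⟩)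
      rw [MulAut.conjNormal_apply] at h1
      exact (mul_inv_eq_iff_eq_mul.1 h1).symm
    rw [QuotientGroup.mk'_apply, QuotientGroup.eq_one_iff, hZdef, Subgroup.mem_subgroupOf] at hk
    refine chQ_injective hl ?_
    rw [map_one]
    exact chi_of_inR hl (inR_scalar hl (show (x : G3) ∈ scalars (Fin 3) F from hk))
  subst hn6
  -- orders
  have hmul := mulAut_dvd (n := 6) (Or.inl rfl)
  rw [card_alt_six] at hmul
  have hM2160 : Nat.card M ∣ 2160 := by
    have h1 := card_dvd_three_mul hle (hcardQ.trans hmul)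
    have h2 : Nat.card M ∣ 378000 := hcardS ▸ Subgroup.card_dvd_of_le hMS
    exact (Nat.dvd_gcd h1 h2).trans (by norm_num)
  set NS := subgroupNormalizer (H3 hl) ⊓ SUn σ (Fin 3) with hNSdef
  have hNS216 : Nat.card NS = 216 := by
    have h1 : Nat.card NS ∣ 648 :=
      (Subgroup.card_dvd_of_le (inf_le_inf_left (subgroupNormalizer (H3 hl)) inf_le_right)).trans
        (card_dvd_648 (std hl) (card_H3 hl))
    have h2 : Nat.card NS ∣ 378000 := hcardS ▸ Subgroup.card_dvd_of_le inf_le_right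
    exact Nat.dvd_antisymm ((Nat.dvd_gcd h1 h2).trans (by norm_num)) (dvd_card_NS hl hσ)
  obtain ⟨k, hk⟩ := hNS216 ▸ Subgroup.card_dvd_of_le hNL
  have hk10 : k ∣ 10 := by
    have := (Subgroup.card_dvd_of_le hLM).trans hM2160
    rw [hk] at this
    exact (Nat.mul_dvd_mul_iff_left (by norm_num)).1 (show 216 * k ∣ 216 * 10 from this)
  have hkmod : k % 3 = 1 := by
    have h9 : ¬ 3 ∣ k := fun h3k => by
      have := h3k.trans hk10
      norm_num at this
    have hfac : (Nat.card L).factorization 3 = 3 := by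
      rw [hk, Nat.factorization_mul (by norm_num) (fun e => h9 (by rw [e]; exact dvd_zero 3)), Finsupp.add_apply,
        Nat.factorization_eq_zero_of_not_dvd h9, add_zero, show (216 : ℕ) = 3 ^ 3 * 8 by norm_num,
        Nat.factorization_mul (by norm_num) (by norm_num), Finsupp.add_apply,
        Nat.Prime.factorization_pow Nat.prime_three,
        Nat.factorization_eq_zero_of_not_dvd (show ¬ 3 ∣ 8 by norm_num), add_zero, Finsupp.single_eq_same]
    let S : Sylow 3 L := Sylow.ofCard ((H3 hl).subgroupOf L) (by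
      rw [Nat.card_congr (Subgroup.subgroupOfEquivOfLe hHL).toEquiv, card_H3 hl, hfac]; rfl)
    have hnorm : Subgroup.normalizer (((H3 hl).subgroupOf L : Subgroup L) : Set L) = NS.subgroupOf L := by
      ext x
      rw [Subgroup.mem_normalizer_iff, Subgroup.mem_subgroupOf, hNSdef, Subgroup.mem_inf,
        show ((x : G3) ∈ SUn σ (Fin 3)) = True from eq_true (hLS x.2), and_true]
      refine Iff.trans ?_ Subgroup.mem_normalizer_iff.symm
      constructor
      · intro h y
        by_cases hy : y ∈ L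
        · exact (h ⟨y, hy⟩)
        · refine ⟨fun h' => absurd (hHL h') hy, fun h' => absurd ?_ hy⟩
          simpa [mul_assoc] using mul_mem (mul_mem (inv_mem x.2) (hHL h')) x.2
      · exact fun h y => h y
    have hcong := card_sylow_modEq_one 3 L
    rw [S.card_eq_index_normalizer] at hcong
    change (Subgroup.normalizer (((H3 hl).subgroupOf L : Subgroup L) : Set L)).index ≡ 1 [MOD 3] at hcong
    rw [hnorm] at hcong
    have hidx : (NS.subgroupOf L).index = k := by
      have h1 := (NS.subgroupOf L).card_mul_index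
      rw [Nat.card_congr (Subgroup.subgroupOfEquivOfLe hNL).toEquiv, hNS216, hk] at h1
      exact Nat.eq_of_mul_eq_mul_left (by norm_num) h1
    rw [hidx] at hcong
    exact hcong
  have hkcases : k = 1 ∨ k = 10 := by
    have := Nat.le_of_dvd (by norm_num) hk10
    interval_cases k <;> simp_all
  rcases hkcases with rfl | rfl
  · exact hne fun x hx => ((Subgroup.eq_of_le_of_card_ge hNL (by rw [hk, hNS216])).ge hx).1
  have hLeq : L = M := Subgroup.eq_of_le_of_card_ge hLM (by
    rw [hk]; exact (Nat.le_of_dvd (by norm_num) hM2160).trans (by norm_num))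
  subst hLeq
  -- the core is normalised by the twist
  set d := dG hl with hddef
  have hQbound : Nat.card (L ⧸ Z) ∣ 720 := by
    have h1 := Subgroup.card_eq_card_quotient_mul_card_subgroup Z
    have h3Z : 3 ∣ Nat.card Z := by
      have hz : ∀ z : L, (z : G3) = Matrix.GeneralLinearGroup.mkOfDetNeZero (l • (1 : M3)) (by
          rw [det_smul, det_one, mul_one]; exact pow_ne_zero _ (hl.ne_zero (by norm_num))) → z ∈ Z ∧ orderOf z = 3 := by
        intro z hz
        refine ⟨Subgroup.mem_subgroupOf.2 ((mem_scalars_iff _).2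
          ⟨Units.mk0 l (hl.ne_zero (by norm_num)), by rw [hz]; rfl⟩), ?_⟩
        refine orderOf_eq_prime (Subtype.ext (Units.ext ?_)) fun e => ?_
        · rw [Subgroup.coe_pow, hz, Units.val_pow_eq_pow_val, OneMemClass.coe_one, Units.val_one]
          show (l • (1 : M3)) ^ 3 = 1
          rw [smul_pow, one_pow, hl.pow_eq_one, one_smul]
        · have h1 := congrArg (fun z : L => ((z : G3) : M3) 0 0) e
          rw [hz] at h1
          simp at h1
          exact hl.ne_one (by norm_num) h1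
      have hmem := hHL (scal_mem hl (Matrix.GeneralLinearGroup.mkOfDetNeZero (l • (1 : M3)) (by
          rw [det_smul, det_one, mul_one]; exact pow_ne_zero _ (hl.ne_zero (by norm_num)))) rfl)
      obtain ⟨hzZ, hzo⟩ := hz ⟨_, hmem⟩ rfl
      have h' := orderOf_dvd_natCard (⟨_, hzZ⟩ : Z)
      rw [Subgroup.orderOf_mk, hzo] at h'
      exact h'
    obtain ⟨c, hc⟩ := h3Z
    rw [hc, hk] at h1
    refine Dvd.intro c (?_ : Nat.card (L ⧸ Z) * c = 720)
    have h1' : 216 * 10 = Nat.card (L ⧸ Z) * (3 * c) := h1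
    linarith [h1', show Nat.card (L ⧸ Z) * (3 * c) = 3 * (Nat.card (L ⧸ Z) * c) by ring]
  haveI := socle_normal hcore
  obtain ⟨e6⟩ := ee
  have hsoc : Nat.card (socle hcore) = 360 := by
    rw [← Nat.card_congr (socleEquiv hcore).toEquiv, Nat.card_congr e6.toEquiv, card_alt_six]
  have habel : ∀ a b : (L ⧸ Z) ⧸ socle hcore, a * b = b * a := fun a b => by
    refine comm_of_card_dvd_four ?_ a b
    have h1 := Subgroup.card_eq_card_quotient_mul_card_subgroup (socle hcore)
    have h2 : Nat.card ((L ⧸ Z) ⧸ socle hcore) * 360 ∣ 2 * 360 := by rw [← hsoc, ← h1, hsoc]; exact hQbound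
    exact (Nat.dvd_of_mul_dvd_mul_right (by norm_num) h2).trans (by norm_num)
  have hd3 : d ^ 3 = 1 := Units.ext (by
    rw [Units.val_pow_eq_pow_val, Units.val_one]
    show dmat l ^ 3 = 1
    rw [dmat, diagonal_pow, ← diagonal_one]
    congr 1; funext i; fin_cases i <;> simp [hl.pow_eq_one])
  have hPnorm : ∀ x ∈ P, d * x * d⁻¹ ∈ P := by
    set P' := P.map (MulAut.conj d).toMonoidHom with hP'
    have hP'L : P' ≤ L := by rintro _ ⟨x, hx, rfl⟩; exact hd x (hcore.le hx)
    have hperf : ⁅P', P'⁆ = P' := by rw [hP', ← Subgroup.map_commutator, hcore.perfect]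
    let χ : L →* (L ⧸ Z) ⧸ socle hcore := (QuotientGroup.mk' _).comp (QuotientGroup.mk' Z)
    have hker : ∀ z : L, χ z = 1 → ∃ y ∈ P, ∃ c ∈ scalars (Fin 3) F, (z : G3) = y * c := fun z hz => by
      rw [MonoidHom.comp_apply, QuotientGroup.mk'_apply, QuotientGroup.eq_one_iff] at hz
      obtain ⟨y, hy⟩ := hz
      simp only [MonoidHom.comp_apply, QuotientGroup.mk'_apply, QuotientGroup.eq] at hy
      exact ⟨y, y.2, _, Subgroup.mem_subgroupOf.1 hy, by simp⟩
    have cj : ∀ {c : G3}, c ∈ scalars (Fin 3) F → ∀ w, c * w * c⁻¹ = w := fun hc w => by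
      rw [(commute_scalar hc w).eq, mul_inv_cancel_right]
    have hprod : ∀ z ∈ P', ∃ y ∈ P, ∃ c ∈ scalars (Fin 3) F, z = y * c := by
      intro z hz
      have hle : ⁅P', P'⁆ ≤ (χ.ker).map L.subtype := Subgroup.commutator_le.2 fun a ha b hb =>
        ⟨⁅(⟨a, hP'L ha⟩ : L), (⟨b, hP'L hb⟩ : L)⁆, by
          rw [SetLike.mem_coe, MonoidHom.mem_ker, map_commutatorElement, commutatorElement_eq_one_iff_mul_comm]
          exact habel _ _, rfl⟩
      obtain ⟨z', hz', rfl⟩ := hle (hperf.ge hz)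
      exact hker z' hz'
    have hle : P' ≤ P := by
      refine hperf.ge.trans (Subgroup.commutator_le.2 fun a ha b hb => ?_)
      obtain ⟨y, hy, c, hc, rfl⟩ := hprod a ha
      obtain ⟨y', hy', c', hc', rfl⟩ := hprod b hb
      have e : ⁅y * c, y' * c'⁆ = y * y' * y⁻¹ * y'⁻¹ := by
        rw [commutatorElement_def]
        calc y * c * (y' * c') * (y * c)⁻¹ * (y' * c')⁻¹ = y * (c * (y' * c') * c⁻¹) * y⁻¹ * (y' * c')⁻¹ := by group
          _ = y * y' * (c' * y⁻¹ * c'⁻¹) * y'⁻¹ := by rw [cj hc]; group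
          _ = _ := by rw [cj hc']
      rw [e]
      exact mul_mem (mul_mem (mul_mem hy hy') (inv_mem hy)) (inv_mem hy')
    intro x hx
    exact hle ⟨x, hx, rfl⟩
  -- the induced automorphism is inner
  let W := ↥P ⧸ (scalars (Fin 3) F).subgroupOf P
  haveI : IsSimpleGroup W := hcore.simple
  have hdN : d ∈ Subgroup.normalizer (P : Set G3) := Subgroup.mem_normalizer_iff.2 fun x => by
    refine ⟨hPnorm x, fun h => ?_⟩
    have e : d⁻¹ = d ^ 2 := inv_eq_of_mul_eq_one_right (by rw [← pow_succ', hd3])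
    have h2 := hPnorm _ (hPnorm _ h)
    convert h2 using 1
    calc x = d ^ 3 * x * (d ^ 3)⁻¹ := by rw [hd3]; group
      _ = _ := by simp only [pow_succ, pow_zero, one_mul]; group
  let ψ : Subgroup.normalizer (P : Set G3) →* MulAut W :=
    { toFun := fun g => QuotientGroup.congr _ _ (P.normalizerMonoidHom g) (by
        ext x
        constructor
        · rintro ⟨y, hy, rfl⟩
          exact (scalars_normal (ι := Fin 3) (F := F)).conj_mem _ hy _
        · intro hx
          refine ⟨(P.normalizerMonoidHom g).symm x, ?_, MulEquiv.apply_symm_apply _ _⟩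
          have h1 : (((P.normalizerMonoidHom g).symm x : P) : G3) = (g : G3)⁻¹ * x * g := by
            obtain ⟨y, rfl⟩ := (P.normalizerMonoidHom g).surjective x
            rw [MulEquiv.symm_apply_apply]
            show (y : G3) = (g : G3)⁻¹ * ((g : G3) * y * (g : G3)⁻¹) * g
            group
          show (((P.normalizerMonoidHom g).symm x : P) : G3) ∈ scalars (Fin 3) F
          rw [h1]
          simpa using (scalars_normal (ι := Fin 3) (F := F)).conj_mem _ hx (g : G3)⁻¹)
      map_one' := MulEquiv.ext fun w => by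
        obtain ⟨y, rfl⟩ := QuotientGroup.mk'_surjective _ w
        simp
      map_mul' := fun a b => MulEquiv.ext fun w => by
        obtain ⟨y, rfl⟩ := QuotientGroup.mk'_surjective _ w
        simp }
  let inn : W →* MulAut W := MulAut.conj
  have hinj : Function.Injective inn := by
    rw [← MonoidHom.ker_eq_bot_iff]
    refine (IsSimpleGroup.eq_bot_or_eq_top_of_normal inn.ker inferInstance).resolve_right fun h => ?_
    refine hcore.nonabelian ⟨⟨fun a b => ?_⟩⟩
    have h1 := MulEquiv.congr_fun (MonoidHom.mem_ker.1 (h.ge (Subgroup.mem_top a))) b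
    simp [inn] at h1
    exact mul_inv_eq_iff_eq_mul.1 h1
  haveI : inn.range.Normal := ⟨by
    rintro _ ⟨w, rfl⟩ θ
    exact ⟨θ w, MulEquiv.ext fun z => by simp [inn, MulAut.conj_apply]⟩⟩
  have hW : Nat.card W = 360 := by rw [Nat.card_congr e6.toEquiv, card_alt_six]
  have hq4 : Nat.card (MulAut W ⧸ inn.range) ∣ 4 := by
    have h1 := Subgroup.card_eq_card_quotient_mul_card_subgroup inn.range
    rw [← Nat.card_congr (MonoidHom.ofInjective hinj).toEquiv, hW] at h1
    have h2 : Nat.card (MulAut W ⧸ inn.range) * 360 ∣ 4 * 360 := by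
      rw [← h1, Nat.card_congr (MulAut.congr e6).toEquiv]; exact hmul
    exact Nat.dvd_of_mul_dvd_mul_right (by norm_num) h2
  have hinner : ψ ⟨d, hdN⟩ ∈ inn.range := by
    rw [← QuotientGroup.eq_one_iff, ← orderOf_eq_one_iff]
    refine Nat.eq_one_of_dvd_coprimes (show Nat.Coprime 3 4 by norm_num) (orderOf_dvd_of_pow_eq_one ?_)
      ((orderOf_dvd_natCard _).trans hq4)
    rw [← QuotientGroup.mk_pow, ← map_pow, show (⟨d, hdN⟩ : Subgroup.normalizer (P : Set G3)) ^ 3 = 1 from
      Subtype.ext hd3, map_one, QuotientGroup.mk_one]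
  obtain ⟨w, hw⟩ := hinner
  obtain ⟨x, rfl⟩ := QuotientGroup.mk'_surjective _ w
  set c := (x : G3)⁻¹ * d with hc
  have hcomm : ∀ y ∈ P, c * y * c⁻¹ * y⁻¹ ∈ scalars (Fin 3) F := by
    intro y hy
    have h1 := MulEquiv.congr_fun hw (QuotientGroup.mk' _ ⟨y, hy⟩)
    simp only [inn, MulAut.conj_apply] at h1
    change ((x * ⟨y, hy⟩ * x⁻¹ : P) : W) = ((P.normalizerMonoidHom ⟨d, hdN⟩ ⟨y, hy⟩ : P) : W) at h1
    rw [QuotientGroup.eq, Subgroup.mem_subgroupOf] at h1
    have h2 := (scalars_normal (ι := Fin 3) (F := F)).conj_mem _ h1 y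
    change y * (((x : G3) * y * (x : G3)⁻¹)⁻¹ * (d * y * d⁻¹)) * y⁻¹ ∈ _ at h2
    have h3 := (scalars_normal (ι := Fin 3) (F := F)).conj_mem _ h2 (x : G3)⁻¹
    have h4 : ((x : G3) * y * (x : G3)⁻¹)⁻¹ * (d * y * d⁻¹) ∈ scalars (Fin 3) F := h1
    have h5 := (scalars_normal (ι := Fin 3) (F := F)).conj_mem _ h4 ((x : G3)⁻¹ * ((x : G3) * y * (x : G3)⁻¹))
    convert h5 using 1
    rw [hc]; group
  have hcU : c ∈ U σ (Fin 3) := mul_mem (inv_mem (hLS (hcore.le x.2)).1) (dG_mem_U hσ hl)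
  let f : P →* scalars (Fin 3) F := MonoidHom.mk' (fun y => ⟨c * y * c⁻¹ * (y : G3)⁻¹, hcomm y y.2⟩) fun a b =>
    Subtype.ext (by
      show c * ((a * b : P) : G3) * c⁻¹ * ((a * b : P) : G3)⁻¹ = c * a * c⁻¹ * (a : G3)⁻¹ * (c * b * c⁻¹ * (b : G3)⁻¹)
      calc c * ((a * b : P) : G3) * c⁻¹ * ((a * b : P) : G3)⁻¹
          = c * a * c⁻¹ * (c * b * c⁻¹ * (b : G3)⁻¹) * (a : G3)⁻¹ := by rw [Subgroup.coe_mul]; group
        _ = c * a * c⁻¹ * ((c * b * c⁻¹ * (b : G3)⁻¹) * (a : G3)⁻¹) := by group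
        _ = _ := by rw [(commute_scalar (hcomm b b.2) (a : G3)⁻¹).eq]; group)
  have hfc : ∀ y : P, f y = 1 := by
    intro y
    have hle : commutator P ≤ f.ker := by
      rw [commutator_def, Subgroup.commutator_le]
      intro a _ b _
      rw [MonoidHom.mem_ker, map_commutatorElement, commutatorElement_eq_one_iff_mul_comm]
      exact Subtype.ext (commute_scalar (f a).2 _).eq
    refine hle ?_
    have h1 : (y : G3) ∈ (commutator P).map P.subtype := by
      rw [Subgroup.map_subtype_commutator, hcore.perfect]; exact y.2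
    obtain ⟨z, hz, e⟩ := h1
    exact Subtype.ext e ▸ hz
  obtain ⟨s, hs⟩ := (mem_scalars_iff c).1 (CfsgLib.Geo.Asch.mem_scalars_of_commute hcore.absIrred fun y hy => by
    exact mul_inv_eq_iff_eq_mul.1 (mul_inv_eq_one.1 (congrArg Subtype.val (hfc ⟨y, hy⟩))))
  have hdet : (s : F) ^ 3 = l ^ 2 := by
    have h1 := congrArg Matrix.det hs
    rw [hc, Units.val_mul, det_mul, det_smul, det_one, mul_one, Fintype.card_fin,
      det_one_of_mem (hle (hcore.le (inv_mem x.2))), one_mul] at h1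
    rw [← h1]
    show (dmat l).det = _
    rw [dmat, det_diagonal, Fin.prod_univ_three]
    simp [pow_two]
  have hnorm : (s : F) ^ 6 = 1 := by
    have h1 := congrFun₂ (mem_U.1 hcU) 0 0
    rw [hs, Matrix.mul_apply, Fin.sum_univ_three] at h1
    simp [hσ.qpow.eq_pow] at h1
    linear_combination h1
  exact hl.ne_one (by norm_num) (by
    calc l = l ^ 3 * l := by rw [hl.pow_eq_one, one_mul]
      _ = (l ^ 2) ^ 2 := by ring
      _ = 1 := by rw [← hdet, ← pow_mul]; exact hnorm)

/-- A group of similitudes containing the normaliser but not inside it contains the special unitary group. -/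
theorem bigU {H : Subgroup G3} (hHS : H ≤ Sim σ (Fin 3)) (hN : subgroupNormalizer (H3 hl) ≤ H)
    (hne : ¬ H ≤ subgroupNormalizer (H3 hl)) : SUn σ (Fin 3) ≤ H := by
  classical
  by_cases h2 : p = 2
  · exact absurd (hHS.trans (sim_le_normalizer_two hl hσ h2)) hne
  set L := H ⊓ SUn σ (Fin 3) with hLdef
  set NS := subgroupNormalizer (H3 hl) ⊓ SUn σ (Fin 3) with hNSdef
  have hNL : NS ≤ L := inf_le_inf_right _ hN
  have hLne : ¬ L ≤ subgroupNormalizer (H3 hl) := by
    intro hle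
    have e : L = NS := le_antisymm (le_inf hle inf_le_right) hNL
    refine hne fun g hg => ?_
    have hnorm : ∀ k ∈ NS, ∀ h ∈ H, h * k * h⁻¹ ∈ NS := fun k hk h hh => by
      rw [← e] at hk ⊢
      exact Subgroup.mem_inf.2 ⟨mul_mem (mul_mem hh hk.1) (inv_mem hh), Sim_conj_SU σ _ (hHS hh) hk.2⟩
    have key : ∀ x ∈ H3 hl, InR hl (g * x * g⁻¹) := by
      intro x hx
      have hy : g * x * g⁻¹ ∈ subgroupNormalizer (H3 hl) := (hnorm x ⟨h3_le hl hx, h3_le_SU hl hσ hx⟩ g hg).1
      have hy3 : InR hl ((g * x * g⁻¹) ^ 3) := by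
        rw [conj_pow]
        obtain ⟨v, hv⟩ := exists_rel (h := std hl) hx
        have h3v := hv.pow 3
        rw [v3_three] at h3v
        exact inR_scalar hl ((scalars_normal (ι := Fin 3) (F := F)).conj_mem _ h3v.scalar g)
      have hc : ∀ k ∈ NS,
          InR hl (g * x * g⁻¹ * (k * (g * x * g⁻¹) * k⁻¹) * (g * x * g⁻¹)⁻¹ * (k * (g * x * g⁻¹) * k⁻¹)⁻¹) := by
        intro k hk
        have hk' := (hnorm k hk g⁻¹ (inv_mem hg)).1
        obtain ⟨v, hv⟩ := exists_rel (h := std hl) hx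
        have hw : Rel (std hl) (g⁻¹ * k * g⁻¹⁻¹ * x * (g⁻¹ * k * g⁻¹⁻¹)⁻¹) _ := rel_conj_chi hl hk' hv
        have h0 := ((hv.mul hw).mul hv.inv).mul hw.inv
        rw [add_neg_cancel_comm, add_neg_cancel] at h0
        refine inR_scalar hl ?_
        convert (scalars_normal (ι := Fin 3) (F := F)).conj_mem _ h0.scalar g using 1
        group
      exact inR_of_abelian hl hy hy3 (hc _ ⟨(fG_mem hl).1, q8_le_SU hl hσ (fG_Q8 hl)⟩)
        (hc _ ⟨(gG_mem hl).1, q8_le_SU hl hσ (gG_Q8 hl)⟩)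
    exact mem_normalizer hl (key _ (std hl).aR) (key _ (std hl).bR)
  suffices L = SUn σ (Fin 3) from this.ge.trans inf_le_left
  by_cases h11 : 11 ≤ p
  · exact ((ns_maximal hl hσ h11).2 L hNL inf_le_right).resolve_left fun e => hLne (e.le.trans inf_le_left)
  have h5 : p = 5 := by
    have h3 := three_le_p hl hσ h2
    have := hσ.mod3
    have hp := hσ.prime
    interval_cases p <;> first | rfl | omega | norm_num at hp
  refine five_case hl hσ h5 hNL inf_le_right (fun x hx => Subgroup.mem_inf.2 ⟨?_, ?_⟩) hLne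
  · exact mul_mem (mul_mem (hN (dG_mem hl)) hx.1) (inv_mem (hN (dG_mem hl)))
  · exact Sim_conj_SU σ _ (U_le_Sim _ _ (dG_mem_U hσ hl)) hx.2

end CfsgLib.Geo.NineU
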