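import Cfsg.Agent.Lib.Geo.NineU.Stage

/-!
# Centralisers in unitary overgroups
-/

set_option autoImplicit false
set_option maxHeartbeats 1000000

namespace CfsgLib.Geo.NineU

open Matrix Cfsg.Geo
open CfsgLib.Geo.Extra27 (amat bmat jmat Heis)
open CfsgLib.Geo.SL3.Maximal
open CfsgLib.Geo.Nine
open CfsgLib.Geo.SympNorm (commute_scalar)

variable {F : Type*} [Field F] {l : F} {σ : F ≃+* F} {p : ℕ}

local notation "M3" => Matrix (Fin 3) (Fin 3) F
local notation "G3" => GL (Fin 3) F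
local notation "V3" => ZMod 3 × ZMod 3
local notation "M9" => Matrix I9 I9 F
local notation "G9" => GL I9 F

variable (hl : IsPrimitiveRoot l 3) (hσ : Fld σ p)
include hl hσ
variable [Fintype F] {M : Subgroup (GL I9 F)}

/-- An element supported on one block gives the special unitary group. -/
theorem su_of_split (h : Ctx hl M) (hM : M ≤ Sim σ I9)
    {f : Fin 3 → G3} (hf : (bd f : G9) ∈ M) (h0 : f 0 ∈ scalars (Fin 3) F) (h1 : f 1 ∈ scalars (Fin 3) F)
    {v : V3} (hv : Rel (std hl) (f 2) v) (hv0 : v ≠ 0) : SUn σ I9 ≤ M := by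
  classical
  let E : Subgroup G3 := ((M.comap bd).comap (MonoidHom.mulSingle (fun _ : Fin 3 => G3) 2)) ⊓ specialLinear (Fin 3) F
  have hdiff : ∀ w : V3, w ≠ 0 → ∃ x ∈ E, Rel (std hl) x (w - v) := by
    intro w hw
    obtain ⟨k, hk, hkr⟩ := exists_move hl hv0 hw
    obtain ⟨n, d⟩ := good_of_closure hl hk
    refine ⟨k * f 2 * k⁻¹ * (f 2)⁻¹, Subgroup.mem_inf.2 ⟨?_, ?_⟩, by simpa [sub_eq_add_neg] using (hkr _ hv).mul hv.inv⟩
    · rw [Subgroup.mem_comap, Subgroup.mem_comap]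
      have hm : tA k * bd f * (tA k)⁻¹ * (bd f)⁻¹ ∈ M :=
        mul_mem (mul_mem (mul_mem (h.tA_mem hl n d) hf) (inv_mem (h.tA_mem hl n d))) (inv_mem hf)
      rw [← bd_const, ← map_inv, ← map_inv, ← map_mul, ← map_mul, ← map_mul] at hm
      convert hm using 2
      funext i
      fin_cases i <;> simp [(commute_scalar h0 _).symm.eq, (commute_scalar h1 _).symm.eq]
    · refine MonoidHom.mem_ker.2 ?_
      simp [map_mul]
  have hall : ∀ w : V3, ∃ x ∈ E, Rel (std hl) x w := by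
    intro w
    have key : ∀ u : ZMod 3 × ZMod 3, ∃ p q : ZMod 3 × ZMod 3, p ≠ 0 ∧ q ≠ 0 ∧ p + q = u := by
      clear * -; decide +kernel
    obtain ⟨p, q, hp', hq', e⟩ := key (w + v + v)
    obtain ⟨x, hx, rx⟩ := hdiff p hp'
    obtain ⟨y, hy, ry⟩ := hdiff q hq'
    refine ⟨x * y, mul_mem hx hy, ?_⟩
    convert rx.mul ry using 1
    rw [eq_sub_of_add_eq e]
    abel
  obtain ⟨x, hx, rx⟩ := hall (0, 1)
  obtain ⟨y, hy, ry⟩ := hall (2, 0)
  obtain ⟨cx, hcx, ex⟩ := exists_scalar_wd hl rx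
  obtain ⟨cy, hcy, ey⟩ := exists_scalar_wd hl ry
  rw [wd_a] at ex
  rw [wd_b] at ey
  set z := aG hl * bG hl * (aG hl)⁻¹ * (bG hl)⁻¹ with hz
  have hzE : z ∈ E := by
    have e : x * y * x⁻¹ * y⁻¹ = z := by rw [ex, ey, comm_scalar_mul hl hcx hcy, hz]
    exact e ▸ mul_mem (mul_mem (mul_mem hx hy) (inv_mem hx)) (inv_mem hy)
  have hzv : (z : M3) = l • 1 := by
    rw [hz, Units.val_mul, Units.val_mul, Units.val_mul, comm_ab hl, smul_mul_assoc, smul_mul_assoc,
      mul_assoc (bG hl : M3), Units.mul_inv, mul_one, Units.mul_inv]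
  have hscal : ∀ {c g : G3}, c ∈ scalars (Fin 3) F → (g : M3).det = 1 → c * g ∈ E → g ∈ E := fun {c g} hc hg hcg => by
    obtain ⟨d, hd⟩ := (mem_scalars_iff c).1 hc
    have hd3 : (d : F) ^ 3 = 1 := by
      have := det_one_of_mem (Subgroup.mem_inf.1 hcg).2
      rwa [Units.val_mul, det_mul, hg, mul_one, hd, det_smul, det_one, mul_one, Fintype.card_fin] at this
    obtain ⟨n, -, hn⟩ := Extra27.eq_pow_of_cube hl hd3
    have : c = z ^ n := Units.ext (by rw [hd, Units.val_pow_eq_pow_val, hzv, smul_pow, one_pow, hn])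
    rw [this] at hcg
    simpa using mul_mem (inv_mem (pow_mem hzE n)) hcg
  have hH : H3 hl ≤ E := by
    rw [H3, Subgroup.closure_le]
    rintro g (rfl | rfl)
    · exact hscal hcx (det_aG hl) (ex ▸ hx)
    · exact hscal hcy (det_H3 hl (std hl).bR) (ey ▸ hy)
  refine su_of_blocks hl hσ h hM fun i g hg => ?_
  have := h.shift_mem hl (f := Pi.mulSingle 2 g) (Subgroup.mem_inf.1 (hH hg)).1 (2 - i)
  convert this using 2
  funext j
  show Function.update (1 : Fin 3 → G3) i g j = Function.update (1 : Fin 3 → G3) 2 g (j + (2 - i))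
  have key : ∀ i j : Fin 3, j + (2 - i) = 2 ↔ j = i := by clear * -; decide
  simp [Function.update_apply, key]

/-- The block elements lie in the normaliser, unless the special unitary group is contained. -/
theorem bd_mem_N9 (h : Ctx hl M) (hM : M ≤ Sim σ I9)
    (hno : ¬ SUn σ I9 ≤ M) {f : Fin 3 → G3} (hf : (bd f : G9) ∈ M) : (bd f : G9) ∈ N9 hl := by
  classical
  have hB : ∀ g : Fin 3 → G3, (bd g : G9) ∈ M → ∀ i, g i ∈ subgroupNormalizer (H3 hl) := fun g hg i => by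
    by_contra hne
    exact hno (su_of_block_big hl hσ h hM (h.shift_mem hl hg i) (by simpa using hne))
  have pair2 : ∀ g : Fin 3 → G3, (bd g : G9) ∈ M → g 0 ∈ scalars (Fin 3) F → ∀ v1 v2 : V3,
      Rel (std hl) (g 1) v1 → Rel (std hl) (g 2) v2 → v2 = v1 + v1 := by
    intro g hg g0 v1 v2 r1 r2
    by_contra hne
    obtain ⟨r, hr, hs, -⟩ := h.exists_s hl v1
    refine hno (su_of_split hl hσ h hM (f := g * (![1, r, r * r] : Fin 3 → G3)⁻¹) ?_ ?_ ?_ (v := v2 - (v1 + v1))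
      ?_ (sub_ne_zero.2 hne))
    · rw [map_mul, map_inv]; exact mul_mem hg (inv_mem hs)
    · simpa using g0
    · exact inR_rel hl r1 hr
    · rw [sub_eq_add_neg]; exact r2.mul (hr.mul hr).inv
  have norm0 : ∀ g : Fin 3 → G3, (bd g : G9) ∈ M → ∃ m, m ∈ subgroupNormalizer (H3 hl) ∧ (tA m : G9) ∈ M ∧
      m⁻¹ * g 0 ∈ scalars (Fin 3) F := by
    intro g hg
    obtain ⟨k, hk, e, hkc⟩ := exists_lift hl (chiN hl ⟨g 0, hB g hg 0⟩)
    have hi : InR hl (k⁻¹ * g 0) := by
      refine inR_of_chi hl (mul_mem (inv_mem hk) (hB g hg 0)) ?_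
      show chiN hl (⟨k, hk⟩⁻¹ * ⟨g 0, hB g hg 0⟩) = 1
      rw [map_mul, map_inv, e, inv_mul_cancel]
    obtain ⟨u, hu⟩ := hi
    obtain ⟨c, hc, e'⟩ := exists_scalar_wd hl hu
    obtain ⟨n, d⟩ := good_of_closure hl hkc
    refine ⟨k * wd hl u, mul_mem n (h3_le hl (wd_mem hl u)), h.tA_mem hl (mul_mem n (h3_le hl (wd_mem hl u))) ?_, ?_⟩
    · rw [Units.val_mul, det_mul, det_wd, mul_one, d]
    · rw [_root_.mul_inv_rev, mul_assoc, e', (commute_scalar hc (wd hl u)).eq, inv_mul_cancel_left]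
      exact hc
  have chi12 : ∀ g : Fin 3 → G3, ∀ hg : (bd g : G9) ∈ M,
      chiN hl ⟨g 1, hB g hg 1⟩ = chiN hl ⟨g 2, hB g hg 2⟩ := by
    intro g hg
    obtain ⟨m, hm, hmM, hm0⟩ := norm0 g hg
    set g' : Fin 3 → G3 := (fun _ => m⁻¹) * g with hg'
    have hg'M : (bd g' : G9) ∈ M := by
      rw [hg', map_mul, bd_const, map_inv]; exact mul_mem (inv_mem hmM) hg
    have hb' := hB g' hg'M
    have heq : chiN hl ⟨g' 1, hb' 1⟩ = chiN hl ⟨g' 2, hb' 2⟩ := by
      have hw : ∀ w, av (chiN hl ⟨g' 1, hb' 1⟩) w = av (chiN hl ⟨g' 2, hb' 2⟩) w := by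
        intro w
        obtain ⟨r, hr, hs, -⟩ := h.exists_s hl w
        have hc : (bd (g' * ![1, r, r * r] * g'⁻¹ * (![1, r, r * r] : Fin 3 → G3)⁻¹) : G9) ∈ M := by
          rw [map_mul, map_mul, map_mul, map_inv, map_inv]
          exact mul_mem (mul_mem (mul_mem hg'M hs) (inv_mem hg'M)) (inv_mem hs)
        have e := pair2 _ hc (by simp) _ _ ((rel_av hl (hb' 1) hr).mul hr.inv)
          ((rel_av hl (hb' 2) (hr.mul hr)).mul (hr.mul hr).inv)
        have lin : ∀ A : SL23, av A (w + w) = av A w + av A w := fun A => by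
          simp [av, mul_add]; constructor <;> ring
        rw [lin] at e
        have key : ∀ a b w : ZMod 3 × ZMod 3, a + a + -(w + w) = b + -w + (b + -w) → b = a := by
          clear * -; decide +kernel
        exact key _ _ _ e
      exact av_ext (hw _) (hw _)
    have e : ∀ i, chiN hl ⟨g' i, hb' i⟩ = (chiN hl ⟨m, hm⟩)⁻¹ * chiN hl ⟨g i, hB g hg i⟩ := fun i => by
      rw [← map_inv, ← map_mul]; rfl
    rw [e, e] at heq
    exact mul_left_cancel heq
  have chi_all : ∀ i, chiN hl ⟨f i, hB f hf i⟩ = chiN hl ⟨f 0, hB f hf 0⟩ := by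
    have h12 := chi12 f hf
    have h20 := chi12 _ (h.shift_mem hl hf 1)
    simp only [show (1 : Fin 3) + 1 = 2 by decide, show (2 : Fin 3) + 1 = 0 by decide] at h20
    intro i
    fin_cases i
    · rfl
    · exact h12.trans h20
    · exact h20
  obtain ⟨m, hm, hmM, hm0⟩ := norm0 f hf
  set g : Fin 3 → G3 := (fun _ => m⁻¹) * f with hg
  have hgM : (bd g : G9) ∈ M := by
    rw [hg, map_mul, bd_const, map_inv]; exact mul_mem (inv_mem hmM) hf
  have hgi : ∀ i, InR hl (g i) := by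
    intro i
    refine inR_of_chi hl (hB g hgM i) ?_
    have e : ∀ j, chiN hl ⟨g j, hB g hgM j⟩ = (chiN hl ⟨m, hm⟩)⁻¹ * chiN hl ⟨f j, hB f hf j⟩ := fun j => by
      rw [← map_inv, ← map_mul]; rfl
    have e0 : chiN hl ⟨g 0, hB g hgM 0⟩ = 1 := chi_of_inR hl (inR_scalar hl hm0)
    rw [e] at e0
    rw [e, chi_all, e0]
  obtain ⟨v1, r1⟩ := hgi 1
  obtain ⟨v2, r2⟩ := hgi 2
  have hv := pair2 g hgM hm0 _ _ r1 r2
  obtain ⟨r, hr, hs, hs9⟩ := h.exists_s hl v1
  set c : Fin 3 → G3 := g * (![1, r, r * r] : Fin 3 → G3)⁻¹ with hc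
  have hcM : (bd c : G9) ∈ M := by rw [hc, map_mul, map_inv]; exact mul_mem hgM (inv_mem hs)
  have hcs : ∀ i, c i ∈ scalars (Fin 3) F := by
    intro i
    fin_cases i
    · simpa [hc, hg] using hm0
    · exact inR_rel hl r1 hr
    · exact inR_rel hl r2 (hv ▸ hr.mul hr)
  choose d hd using fun i => (mem_scalars_iff _).1 (hcs i)
  let D : G3 := Matrix.GeneralLinearGroup.mkOfDetNeZero (diagonal fun i => (d i : F))
    (by rw [det_diagonal]; exact Finset.prod_ne_zero_iff.2 fun i _ => (d i).ne_zero)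
  have hδ : (tB D : G9) = bd c := Units.ext (by
    ext x y
    rw [bd_apply, tB_eq, tp_apply, Units.val_one]
    show _ * (diagonal fun i => (d i : F)) x.2 y.2 = _
    by_cases hu : x.2 = y.2
    · rw [if_pos hu, hd, ← hu, diagonal_apply_eq]; simp [mul_comm]
    · rw [if_neg hu, diagonal_apply_ne _ hu, mul_zero])
  have hD : D ∈ subgroupNormalizer (H3 hl) := by
    have hA : (tA D : G9) ∈ M := by
      have := mul_mem (mul_mem (h.sw_mem hl) (hδ ▸ hcM : (tB D : G9) ∈ M)) (inv_mem (h.sw_mem hl))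
      rwa [sw_conj_tB] at this
    exact hB (fun _ => D) (by rwa [bd_const]) 0
  have e : (bd f : G9) = tA m * (tB D * bd ![1, r, r * r]) := by
    rw [hδ, ← bd_const, ← map_mul, ← map_mul]
    congr 1
    rw [hc, inv_mul_cancel_right, hg]
    funext i
    simp
  rw [e]
  exact mul_mem (tp_mem_N9 hl hm (one_mem _)) (mul_mem (tp_mem_N9 hl (one_mem _) hD) hs9)

/-- Centralisers of non-scalar elements lie in the normaliser, unless the special unitary group is contained. -/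
theorem centralizer_le (h : Ctx hl M) (hM : M ≤ Sim σ I9)
    (hno : ¬ SUn σ I9 ≤ M) {x g : G9} (hx : x ∈ R9 hl) (hns : x ∉ scalars I9 F) (hg : g ∈ M)
    (hc : Commute g x) : g ∈ N9 hl := by
  obtain ⟨k, hk, hk9, e⟩ := h.to_tB hl hx hns
  have hc' : Commute (k * g * k⁻¹) (tB (aG hl)) := by
    have h1 : Commute (k * g * k⁻¹) (k * x * k⁻¹) := hc.map (MulAut.conj k).toMonoidHom
    set y := k * x * k⁻¹
    have e' : (tB (aG hl) : G9) = (y * (tB (aG hl))⁻¹)⁻¹ * y := by group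
    rw [e']
    exact ((commute_scalar (inv_mem e) _).symm).mul_right h1
  obtain ⟨f, hf⟩ := exists_bd hl hc'
  have hm : k * g * k⁻¹ ∈ N9 hl := by
    rw [hf]
    exact bd_mem_N9 hl hσ h hM hno (hf ▸ mul_mem (mul_mem hk hg) (inv_mem hk))
  have := mul_mem (mul_mem (inv_mem hk9) hm) hk9
  convert this using 1
  group

end CfsgLib.Geo.NineU
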