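import Cfsg.Agent.Lib.Geo.NineU.Block

/-!
# The commutant of the quaternion group in unitary overgroups, odd characteristic
-/

set_option autoImplicit false
set_option maxHeartbeats 1000000

namespace CfsgLib.Geo.NineU

open Matrix Cfsg.Geo
open scoped Kronecker
open CfsgLib.Geo.Extra27 (amat bmat jmat Heis)
open CfsgLib.Geo.SL3.Maximal
open CfsgLib.Geo.Nine
open CfsgLib.Geo.SympNorm (commute_scalar)

variable {F : Type*} [Field F] {l : F} {σ : F ≃+* F} {p : ℕ}

local notation "M3" => Matrix (Fin 3) (Fin 3) F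
local notation "G3" => GL (Fin 3) F
local notation "V3" => ZMod 3 × ZMod 3
local notation "M9" => Matrix I9 I9 F
local notation "G9" => GL I9 F

theorem pm_mem_Sim (h2 : (2 : F) ≠ 0) {x y : G3} (h : (pm h2 (x, y) : G9) ∈ Sim σ I9) :
    x ∈ Sim σ (Fin 3) ∧ y ∈ Sim σ (Fin 3) := by
  obtain ⟨c, hc⟩ := h
  have sp : (Pp : M3).map σ = Pp ∧ (Pp : M3)ᵀ = Pp ∧ (Pn : M3).map σ = Pn ∧ (Pn : M3)ᵀ = Pn := by
    refine ⟨?_, ?_, ?_, ?_⟩ <;> ext i j <;> fin_cases i <;> fin_cases j <;> simp [Pp, Pn, jmat, map_ofNat]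
  obtain ⟨s1, s2, s3, s4⟩ := sp
  have et : ∀ A B : M3, (A ⊗ₖ B)ᵀ = Aᵀ ⊗ₖ Bᵀ := fun A B => by ext r s; simp
  have em : ∀ A B : M3, (A ⊗ₖ B).map σ = A.map σ ⊗ₖ B.map σ := fun A B => by ext r s; simp
  have ea : ∀ A B : M9, (A + B).map σ = A.map σ + B.map σ := fun A B => by ext r s; simp
  rw [pm_val, transpose_add, et, et, ea, em, em, s1, s2, s3, s4, pmM_mul h2,
    show (c : F) • (1 : M9) = (Pp : M3) ⊗ₖ ((c : F) • (1 : M3)) + (Pn : M3) ⊗ₖ ((c : F) • (1 : M3)) by
      rw [← add_kronecker, (proj_rules h2).2.2.2.2, kronecker_smul, one_kronecker_one]] at hc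
  obtain ⟨e1, e2⟩ := pm_extract h2 hc
  exact ⟨⟨c, e1⟩, ⟨c, e2⟩⟩

variable (hl : IsPrimitiveRoot l 3) (hσ : Fld σ p)
include hl hσ
variable [Fintype F] {M : Subgroup (GL I9 F)}

/-- The kernel of the first component. -/
theorem pm_one_cases (h : Ctx hl M) (hM : M ≤ Sim σ I9)
    (hno : ¬ SUn σ I9 ≤ M) (h2 : (2 : F) ≠ 0) {y : G3} (hy : (pm h2 (1, y) : G9) ∈ M) :
    y = 1 ∨ y = -1 := by
  let K : Subgroup G3 := M.comap ((pm h2).comp (MonoidHom.inr G3 G3))
  have sgn : ∀ y ∈ K, y ∈ scalars (Fin 3) F → y = 1 ∨ y = -1 := by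
    intro y hy hys
    have hc : Commute (pm h2 (1, y) : G9) (tB (aG hl)) := by
      show _ = _
      rw [← pm_diag h2, ← map_mul, ← map_mul, Prod.mk_mul_mk, Prod.mk_mul_mk, one_mul, mul_one,
        (commute_scalar hys (aG hl)).eq]
    have hns : (tB (aG hl) : G9) ∉ scalars I9 F := fun hs => by
      rw [tB_eq] at hs
      exact absurd (Rel.unique (Rel.of_scalar (h := std hl) (tp_scalar hs).2) rel_a) (by decide)
    have hN := centralizer_le hl hσ h hM hno (gen9_mem hl 2) hns hy hc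
    obtain ⟨s, hs⟩ := (mem_scalars_iff y).1 hys
    have hm := (Subgroup.mem_normalizer_iff.1 hN _).1 (gen9_mem hl 0)
    change pm h2 (1, y) * gen9 hl 0 * (pm h2 (1, y))⁻¹ ∈ R9 hl at hm
    have hyM : (y : M3) = (s : F) • 1 := hs
    set g : M3 := (Pp : M3) + (s : F) • (Pn : M3) with hg
    set g' : M3 := (Pp : M3) + ((s : F))⁻¹ • (Pn : M3) with hg'
    obtain ⟨r1, r2, r3, r4, r5⟩ := proj_rules (F := F) h2
    have gg : g * g' = 1 := by
      rw [hg, hg', mul_add, add_mul, add_mul, smul_mul_assoc, mul_smul_comm, smul_mul_smul_comm, r1, r2, r3, r4,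
        smul_zero, smul_zero, mul_inv_cancel₀ s.ne_zero, one_smul, add_zero, zero_add, r5]
    let gU : G3 := ⟨g, g', gg, by
      rw [hg, hg', mul_add, add_mul, add_mul, smul_mul_assoc, mul_smul_comm, smul_mul_smul_comm, r1, r2, r3, r4,
        smul_zero, smul_zero, inv_mul_cancel₀ s.ne_zero, one_smul, add_zero, zero_add, r5]⟩
    have hgU : (pm h2 (1, y) : G9) = tA gU := Units.ext (by
      rw [pm_val, tA_eq, tp_val, Units.val_one, hyM, kronecker_smul, ← smul_kronecker, ← add_kronecker])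
    rw [hgU, gen9, Matrix.cons_val_zero, ← map_inv, ← map_mul, ← map_mul, tA_eq, mem_R9_tp] at hm
    obtain ⟨⟨u, hu⟩, -⟩ := hm
    have E : ((gU * aG hl * gU⁻¹ : G3) : M3) = g * amat l * g' := rfl
    have h1 := hu.1
    rw [E] at h1
    change g * amat l * g' * amat l = SL3.Maximal.lp l u.1 • (amat l * (g * amat l * g')) at h1
    have a00 := congrFun₂ h1 0 0
    have a12 := congrFun₂ h1 1 2
    simp [hg, hg', Pp, Pn, jmat, amat, Matrix.mul_apply, Fin.sum_univ_three] at a00 a12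
    have hlp : SL3.Maximal.lp l u.1 = 1 := by
      field_simp at a00
      have h22 : (1 + 1 : F) ^ 2 ≠ 0 := by rw [one_add_one_eq_two]; exact pow_ne_zero _ h2
      exact mul_left_cancel₀ h22 (by linear_combination -a00)
    rw [hlp] at a12
    have hl3 := hl.pow_eq_one
    have hl2 := sub_sq_ne hl (h3_ne hl)
    have hl1 : l ^ 2 - l ≠ 0 := fun e0 => hl2 (by linear_combination -e0)
    have hs2 : (s : F) ^ 2 = 1 := by
      field_simp at a12
      have key : ((s : F) ^ 2 - 1) * ((l - l ^ 2) * (l ^ 2 - l)) = 0 := by grind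
      exact sub_eq_zero.1 ((mul_eq_zero.1 key).resolve_right (mul_ne_zero hl2 hl1))
    rcases sq_eq_one_iff.1 hs2 with h' | h'
    · exact Or.inl (Units.ext (by rw [hyM, h', one_smul, Units.val_one]))
    · exact Or.inr (Units.ext (by rw [hyM, h', Units.val_neg, neg_smul, one_smul, Units.val_one]))
  have hR : ∀ y ∈ K, InR hl y → y = 1 ∨ y = -1 := by
    intro y hy ⟨v, hv⟩
    refine sgn y hy ?_
    by_cases hv0 : v = 0
    · subst hv0; exact hv.scalar
    exfalso
    obtain ⟨c, hc, e⟩ := exists_scalar_wd hl hv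
    have hns : (tB (wd hl v) : G9) ∉ scalars I9 F := fun hs => by
      rw [tB_eq] at hs
      exact hv0 (Rel.unique (Rel.of_scalar (h := std hl) (tp_scalar hs).2) (rel_wd hl v)).symm
    have hcm : Commute y (wd hl v) := e ▸ (commute_scalar hc _).mul_left (Commute.refl _)
    have hN := centralizer_le hl hσ h hM hno (x := tB (wd hl v))
      (by rw [tB_eq, mem_R9_tp]; exact ⟨inR_scalar hl (one_mem _), inR_wd hl v⟩) hns (g := pm h2 (1, y)) hy (by
        show _ = _
        rw [← pm_diag h2, ← map_mul, ← map_mul, Prod.mk_mul_mk, Prod.mk_mul_mk, one_mul, mul_one, hcm.eq])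
    have hys := (of_pm_mem_N9 hl h2 hN).2
    rw [inv_one, one_mul] at hys
    exact hv0 (hv.unique (Rel.of_scalar hys))
  have hnrm : subgroupNormalizer (H3 hl) ≤ subgroupNormalizer K := by
    intro k hk
    refine Subgroup.mem_normalizer_iff.2 fun z => ?_
    have hkM := h.tB_mem_all hl hk
    show pm h2 (1, z) ∈ M ↔ pm h2 (1, k * z * k⁻¹) ∈ M
    have e : (pm h2 (1, k * z * k⁻¹) : G9) = tB k * pm h2 (1, z) * (tB k)⁻¹ := by
      rw [← pm_diag h2, ← map_inv, ← map_mul, ← map_mul]; simp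
    rw [e, mul_mem_cancel_right (inv_mem hkM), mul_mem_cancel_left hkM]
  have hN1 : ∀ y ∈ K, y ∈ subgroupNormalizer (H3 hl) → y = 1 ∨ y = -1 := by
    intro y hy hyN
    refine hR y hy (inR_of_chi hl hyN (av_ext ?_ ?_))
    all_goals
      have key : ∀ v, av (chiN hl ⟨y, hyN⟩) v = av 1 v := fun v => by
        have hcK : y * wd hl v * y⁻¹ * (wd hl v)⁻¹ ∈ K := by
          rw [mul_assoc, mul_assoc, ← mul_assoc (wd hl v)]
          exact mul_mem hy ((Subgroup.mem_normalizer_iff.1 (hnrm (h3_le hl (wd_mem hl v))) _).1 (inv_mem hy))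
        have hrel := (rel_av hl hyN (rel_wd hl v)).mul (rel_wd hl v).inv
        have hsc : y * wd hl v * y⁻¹ * (wd hl v)⁻¹ ∈ scalars (Fin 3) F := by
          rcases hR _ hcK ⟨_, hrel⟩ with e | e <;> rw [e]
          · exact one_mem _
          · exact SympNorm.neg_mem_scalars (one_mem _)
        have := hrel.unique (Rel.of_scalar hsc)
        rw [add_neg_eq_zero] at this
        rw [this]
        simp [av]
      exact key _
  by_cases hyN : y ∈ subgroupNormalizer (H3 hl)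
  · exact hN1 y hy hyN
  exfalso
  have hyS : y ∈ Sim σ (Fin 3) := (pm_mem_Sim h2 (hM hy)).2
  have hex : 3 = 3 → p ≠ 2 := fun _ e => h2 (two_zero hl hσ e)
  have hbig : SUn σ (Fin 3) ≤ subgroupNormalizer K :=
    (bigU hl hσ (H := subgroupNormalizer K ⊓ Sim σ (Fin 3)) inf_le_right (le_inf hnrm (normalizer_le_Sim hσ hl))
      fun hle => hyN (hle (Subgroup.mem_inf.2 ⟨Subgroup.le_normalizer (show y ∈ K from hy), hyS⟩))).trans inf_le_left
  have hSL : SUn σ (Fin 3) ≤ K := su_le_of_normalized hσ.qpow (card_F hl hσ) le_rfl hex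
    (fun g hg z hz => (Subgroup.mem_normalizer_iff.1 (hbig hg) z).1 hz) (show y ∈ K from hy) hyS
    fun hs => hyN (scalars_le_normalizer hl hs)
  have haK := hR _ (hSL (h3_le_SU hl hσ (std hl).aR)) ⟨_, rel_a⟩
  have hs : aG hl ∈ scalars (Fin 3) F := by
    rcases haK with e | e <;> (change aG hl = _ at e; rw [e])
    · exact one_mem _
    · exact SympNorm.neg_mem_scalars (one_mem _)
  exact absurd (Rel.unique (Rel.of_scalar (h := std hl) hs) rel_a) (by decide)

/-- The commutant lies in the normaliser. -/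
theorem pm_mem_N9 (h : Ctx hl M) (hM : M ≤ Sim σ I9)
    (hno : ¬ SUn σ I9 ≤ M) (h2 : (2 : F) ≠ 0) {x y : G3} (hxy : (pm h2 (x, y) : G9) ∈ M) :
    (pm h2 (x, y) : G9) ∈ N9 hl := by
  let X : Subgroup G3 := (M.comap (pm h2)).map (MonoidHom.fst G3 G3)
  have hXN : subgroupNormalizer (H3 hl) ≤ X := fun k hk =>
    ⟨(k, k), by show pm h2 (k, k) ∈ M; rw [pm_diag]; exact h.tB_mem_all hl hk, rfl⟩
  by_cases hx : x ∈ subgroupNormalizer (H3 hl)
  · have hm : (pm h2 (1, x⁻¹ * y) : G9) ∈ M := by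
      have := mul_mem (inv_mem (h.tB_mem_all hl hx)) hxy
      rw [← pm_diag h2, ← map_inv, ← map_mul] at this
      simpa using this
    rcases pm_one_cases hl hσ h hM hno h2 hm with e | e <;> rw [inv_mul_eq_iff_eq_mul] at e <;> subst e
    · rw [mul_one, pm_diag]; exact tp_mem_N9 hl (one_mem _) hx
    · rw [mul_neg, mul_one, pm_neg hl]
      exact tp_mem_N9 hl (jEl_mem (std hl) (h3_ne hl)).1 hx
  exfalso
  have hXS : X ≤ Sim σ (Fin 3) := by
    rintro _ ⟨⟨a, b⟩, hab, rfl⟩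
    exact (pm_mem_Sim h2 (hM hab)).1
  have hbig := bigU hl hσ hXS hXN fun hle => hx (hle ⟨(x, y), hxy, rfl⟩)
  obtain ⟨⟨x', y'⟩, hm, e⟩ := hbig (dD3_mem_SU hσ hl)
  change x' = dD3 hl at e
  subst e
  change pm h2 (dD3 hl, y') ∈ M at hm
  have hxa : Commute (dD3 hl) (aG hl) := Units.ext (by
    show (diagonal ![-1, -1, 1] : M3) * amat l = amat l * diagonal ![-1, -1, 1]
    rw [amat, diagonal_mul_diagonal, diagonal_mul_diagonal]
    simp [mul_comm])
  have hK : (pm h2 (1, y' * aG hl * y'⁻¹ * (aG hl)⁻¹) : G9) ∈ M := by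
    have ha := h.tB_mem_all hl (h3_le hl (std hl).aR : aG hl ∈ _)
    have := mul_mem (mul_mem (mul_mem hm ha) (inv_mem hm)) (inv_mem ha)
    rw [pm_conj_tB hl, ← pm_diag h2 (aG hl), ← map_inv, ← map_mul] at this
    simpa [hxa.eq] using this
  have hcy : Commute y' (aG hl) := by
    rcases pm_one_cases hl hσ h hM hno h2 hK with e | e
    · exact mul_inv_eq_iff_eq_mul.1 (mul_inv_eq_one.1 e)
    · exfalso
      rw [mul_inv_eq_iff_eq_mul] at e
      have hd := congrArg (fun g : G3 => (g : M3).det) e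
      simp only [Units.val_mul, det_mul, Units.val_neg, Units.val_one, neg_mul, one_mul, det_neg, Fintype.card_fin] at hd
      rw [det_aG, mul_one, ← det_mul, ← Units.val_mul, mul_inv_cancel, Units.val_one, det_one] at hd
      exact h2 (by linear_combination hd)
  have hns : (tB (aG hl) : G9) ∉ scalars I9 F := fun hs => by
    rw [tB_eq] at hs
    exact absurd (Rel.unique (Rel.of_scalar (h := std hl) (tp_scalar hs).2) rel_a) (by decide)
  have hN := centralizer_le hl hσ h hM hno (gen9_mem hl 2) hns hm (by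
    show _ = _
    show pm h2 (dD3 hl, y') * tB (aG hl) = tB (aG hl) * pm h2 (dD3 hl, y')
    rw [← pm_diag h2, ← map_mul, ← map_mul, Prod.mk_mul_mk, Prod.mk_mul_mk, hxa.eq, hcy.eq])
  exact dD3_not_mem hl h2 ((Subgroup.mem_normalizer_iff.1 (of_pm_mem_N9 hl h2 hN).1 _).1 (std hl).bR)

/-- The shape of an element commuting with the quaternion group on the first factor. -/
theorem commutant_form_odd (h : Ctx hl M) (hM : M ≤ Sim σ I9)
    (hno : ¬ SUn σ I9 ≤ M) (h2 : (2 : F) ≠ 0) {g : G9} (hg : g ∈ M) (h1 : Commute g (tA (fG hl)))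
    (h1' : Commute g (tA (gG hl))) :
    ∃ x ∈ subgroupNormalizer (H3 hl), g = tB x ∨ g = tp (jG hl, x) := by
  obtain ⟨x, y, rfl⟩ := exists_pm hl h2 h1 h1'
  obtain ⟨hx, hs⟩ := of_pm_mem_N9 hl h2 (pm_mem_N9 hl hσ h hM hno h2 hg)
  have hm : (pm h2 (1, x⁻¹ * y) : G9) ∈ M := by
    have := mul_mem (inv_mem (h.tB_mem_all hl hx)) hg
    rw [← pm_diag h2, ← map_inv, ← map_mul] at this
    simpa using this
  refine ⟨x, hx, ?_⟩
  rcases pm_one_cases hl hσ h hM hno h2 hm with e | e <;> rw [inv_mul_eq_iff_eq_mul] at e <;> subst e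
  · left; rw [mul_one, pm_diag]
  · right; rw [mul_neg, mul_one, pm_neg hl]

end CfsgLib.Geo.NineU
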