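import Cfsg.Agent.Lib.Geo.NineU.Commutant

/-!
# The commutant of the quaternion group over the field of four elements
-/

set_option autoImplicit false
set_option maxHeartbeats 1000000

namespace CfsgLib.Geo.NineU

open Matrix Cfsg.Geo
open scoped Kronecker
open CfsgLib.Geo.Extra27 (amat bmat jmat Heis)
open CfsgLib.Geo.SL3.Maximal
open CfsgLib.Geo.Nine
open CfsgLib.Geo.SympNorm (commute_scalar)

variable {F : Type*} [Field F] {l : F} {σ : F ≃+* F} {p : ℕ}

local notation "M3" => Matrix (Fin 3) (Fin 3) F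
local notation "G3" => GL (Fin 3) F
local notation "V3" => ZMod 3 × ZMod 3
local notation "M9" => Matrix I9 I9 F
local notation "G9" => GL I9 F

/-- The nilpotent part of the involution. -/
def Nj : Matrix (Fin 3) (Fin 3) F := !![0, 0, 0; 0, 1, 1; 0, 1, 1]

/-- The matrices of the commutant. -/
def jn (A B : Matrix (Fin 3) (Fin 3) F) : Matrix I9 I9 F := (1 : Matrix (Fin 3) (Fin 3) F) ⊗ₖ A + (Nj : Matrix (Fin 3) (Fin 3) F) ⊗ₖ B

theorem Nj_sq (t2 : (2 : F) = 0) : (Nj : M3) * Nj = 0 := by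
  ext i j
  fin_cases i <;> fin_cases j <;> simp [Nj, Matrix.mul_apply, Fin.sum_univ_three] <;> linear_combination t2

theorem jn_mul (t2 : (2 : F) = 0) (A B A' B' : M3) : jn A B * jn A' B' = jn (A * A') (A * B' + B * A') := by
  rw [jn, jn, jn, mul_add, add_mul, add_mul, ← mul_kronecker_mul, ← mul_kronecker_mul, ← mul_kronecker_mul,
    ← mul_kronecker_mul, Nj_sq t2, zero_kronecker, mul_one, mul_one, one_mul, kronecker_add]
  abel

theorem jn_one : jn (1 : M3) 0 = (1 : M9) := by rw [jn, kronecker_zero, add_zero, one_kronecker_one]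

theorem jn_extract {A B A' B' : M3} (e : jn A B = jn A' B') : A = A' ∧ B = B' := by
  refine ⟨Matrix.ext fun u v => ?_, Matrix.ext fun u v => ?_⟩
  · simpa [jn, Nj] using congrFun₂ e ((0, u) : I9) ((0, v) : I9)
  · simpa [jn, Nj] using congrFun₂ e ((1, u) : I9) ((2, v) : I9)

theorem jn_sim (t2 : (2 : F) = 0) {y : G9} {A B : M3} (hy : (y : M9) = jn A B) (h : y ∈ Sim σ I9) :
    ∃ c : Fˣ, Aᵀ * A.map σ = (c : F) • 1 ∧ Aᵀ * B.map σ + Bᵀ * A.map σ = 0 := by
  obtain ⟨c, hc⟩ := h
  have sp : (Nj : M3).map σ = Nj ∧ (Nj : M3)ᵀ = Nj := by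
    refine ⟨?_, ?_⟩ <;> ext i j <;> fin_cases i <;> fin_cases j <;> simp [Nj]
  have et : ∀ X Y : M3, (X ⊗ₖ Y)ᵀ = Xᵀ ⊗ₖ Yᵀ := fun X Y => by ext r s; simp
  have em : ∀ X Y : M3, (X ⊗ₖ Y).map σ = X.map σ ⊗ₖ Y.map σ := fun X Y => by ext r s; simp
  have ea : ∀ X Y : M9, (X + Y).map σ = X.map σ + Y.map σ := fun X Y => by ext r s; simp
  have e1 : ((jn A B : M9))ᵀ = jn Aᵀ Bᵀ := by rw [jn, jn, transpose_add, et, et, transpose_one, sp.2]
  have e2 : (jn A B).map σ = jn (A.map σ) (B.map σ) := by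
    rw [jn, jn, ea, em, em, sp.1, Matrix.map_one σ (map_zero σ) (map_one σ)]
  have e3 : (c : F) • (1 : M9) = jn ((c : F) • (1 : M3)) 0 := by
    rw [jn, kronecker_zero, add_zero, kronecker_smul, one_kronecker_one]
  rw [hy, e1, e2, jn_mul t2, e3] at hc
  obtain ⟨a, b⟩ := jn_extract hc
  exact ⟨c, a, by rw [← b]⟩

theorem tB_val (x : G3) : ((tB x : G9) : M9) = jn (x : M3) 0 := by
  rw [jn, kronecker_zero, add_zero, tB_eq, tp_val, Units.val_one]

variable (hl : IsPrimitiveRoot l 3)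
include hl

theorem commutant_two {X : M3} (t2 : (2 : F) = 0) (hf : X * fmat l = fmat l * X) (hg : X * gmat l = gmat l * X) :
    X = (X 1 1 + X 1 2) • (1 : M3) + X 1 2 • (Nj : M3) := by
  have h3 := h3_ne hl
  have hne : (l - l ^ 2)⁻¹ ≠ 0 := inv_ne_zero (sub_sq_ne hl h3)
  have hj : X * jmat = jmat * X := by
    rw [← fmat_sq hl h3, ← mul_assoc, hf, mul_assoc, hf, ← mul_assoc]
  have hD : dmat (l ^ 2) * X * dmat l * fmat l = fmat l * (dmat (l ^ 2) * X * dmat l) := by
    have e := congrArg (fun Z => dmat (l ^ 2) * Z * dmat l) hg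
    simp only [gmat, mul_assoc, (dmat_inv hl).1, mul_one] at e
    simpa [mul_assoc, (dmat_inv hl).1, ← mul_assoc (dmat (l ^ 2)) (dmat l)] using e
  set W : M3 := !![1, 1, 1; 1, l, l ^ 2; 1, l ^ 2, l] with hW
  have hWX : ∀ Z : M3, Z * fmat l = fmat l * Z → Z * W = W * Z := fun Z e => by
    rw [fmat, mul_smul_comm, smul_mul_assoc] at e
    exact (smul_right_injective M3 hne e : _)
  have eW := hWX X hf
  have eD := hWX _ hD
  have hm : (-1 : F) = 1 := by linear_combination -t2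
  have j01 := congrFun₂ hj 0 1
  have j10 := congrFun₂ hj 1 0
  have j11 := congrFun₂ hj 1 2
  have j12 := congrFun₂ hj 1 1
  have w01 := congrFun₂ eW 0 1
  have w10 := congrFun₂ eW 1 0
  have w11 := congrFun₂ eW 1 1
  have d11 := congrFun₂ eD 1 1
  simp [hW, jmat, dmat, Matrix.mul_apply, Matrix.vecMul, dotProduct, Fin.sum_univ_three]
    at j01 j10 j11 j12 w01 w10 w11 d11
  have hp := hl.pow_eq_one
  have hg' := geom hl
  ext i j
  fin_cases i <;> fin_cases j <;> simp [Nj] <;> grind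

variable [Finite F]

theorem exists_jn (t2 : (2 : F) = 0) {g : G9} (hf : Commute g (tA (fG hl))) (hg : Commute g (tA (gG hl))) :
    ∃ A B : M3, (g : M9) = jn A B := by
  let S : Fin 3 → Fin 3 → M3 := fun u v => Matrix.of fun j j' => (g : M9) (j, u) (j', v)
  have slice : ∀ x : G3, Commute g (tA x) → ∀ u v, S u v * (x : M3) = (x : M3) * S u v := by
    intro x e u v
    ext j j'
    have := congrArg (fun k : G9 => (k : M9) (j, u) (j', v)) e.eq
    simpa [S, tA_eq, tp_apply, Matrix.mul_apply, Fintype.sum_prod_type, one_apply, mul_comm] using this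
  refine ⟨Matrix.of fun u v => S u v 1 1 + S u v 1 2, Matrix.of fun u v => S u v 1 2, ?_⟩
  ext r c
  have := congrFun₂ (commutant_two hl t2 (X := S r.2 c.2) (fG_val hl ▸ slice _ hf _ _) (gG_val hl ▸ slice _ hg _ _))
    r.1 c.1
  simp only [Matrix.add_apply, Matrix.smul_apply, smul_eq_mul] at this
  simp only [jn, Matrix.add_apply, kroneckerMap_apply, Matrix.of_apply]
  rw [mul_comm ((1 : M3) r.1 c.1), mul_comm ((Nj : M3) r.1 c.1)]
  exact this

theorem jn_mem_R9 (t2 : (2 : F) = 0) {y : G9} (hy : y ∈ R9 hl) {A B : M3} (e : (y : M9) = jn A B) : B = 0 := by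
  obtain ⟨c, hc, v, w, ey⟩ := R9_cases hl hy
  obtain ⟨d, hd⟩ := (mem_scalars_iff c).1 hc
  have hfJ : Commute (fG hl : M3) (Nj : M3) := by
    have e' : (Nj : M3) = 1 + jmat := by
      ext i j; fin_cases i <;> fin_cases j <;> simp [Nj, jmat] <;> linear_combination t2
    rw [e']
    refine (Commute.one_right _).add_right ?_
    rw [fG_val, ← fmat_sq hl (h3_ne hl)]; exact (Commute.refl _).mul_right (Commute.refl _)
  have hcomm : Commute y (tA (fG hl)) := by
    refine Units.ext ?_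
    simp only [Units.val_mul, e, jn, tA_eq, tp_val, Units.val_one, add_mul, mul_add, ← mul_kronecker_mul, mul_one,
      one_mul, hfJ.eq]
  rw [ey] at hcomm
  have hv : v = 0 := by
    refine commute_fG_rel hl (rel_wd hl v) ?_
    have h1 := ((commute_scalar (inv_mem hc) (tA (fG hl)))).mul_left hcomm
    rw [inv_mul_cancel_left, tp_eq] at h1
    have h3 := h1.mul_left (commute_tA_tB (fG hl) (wd hl w)⁻¹).symm
    rw [map_inv, mul_inv_cancel_right] at h3
    refine (Units.ext (Matrix.ext fun j j' => ?_) : fG hl * wd hl v = wd hl v * fG hl)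
    simpa [tA_eq, tp_apply, Matrix.mul_apply, Fintype.sum_prod_type, one_apply] using
      (congrArg (fun g : G9 => (g : M9) ((j, 0) : I9) ((j', 0) : I9)) h3.eq).symm
  subst hv
  obtain ⟨c0, hc0⟩ := (mem_scalars_iff _).1 (Rel.scalar (h := std hl) (rel_wd hl (0 : V3)))
  have e2 : jn A B = jn (((d : F) * c0) • (wd hl w : M3)) 0 := by
    rw [← e, ey, Units.val_mul, tp_val, hd, hc0, jn, kronecker_zero, add_zero, kronecker_smul]
    simp [smul_kronecker, smul_smul, mul_comm]
  exact (jn_extract e2).2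

omit [Finite F] in
theorem fourier {B : M3} (h3 : (3 : F) ≠ 0)
    (hB : ∀ i j : Fin 3, ¬ (i = 0 ∧ j = 0) → (B * (amat l ^ (i : ℕ) * bmat ^ (j : ℕ))).trace = 0) :
    B = B 0 0 • (1 : M3) := by
  have hp := hl.pow_eq_one
  have hg := geom hl
  have e1 := hB 1 0 (by decide); have e2 := hB 2 0 (by decide)
  have b0 := hB 0 1 (by decide); have b1 := hB 1 1 (by decide); have b2 := hB 2 1 (by decide)
  have c0 := hB 0 2 (by decide); have c1 := hB 1 2 (by decide); have c2 := hB 2 2 (by decide)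
  simp [amat, bmat, diagonal_pow, pow_two, Matrix.trace, Matrix.mul_apply, Fin.sum_univ_three, diagonal,
    Matrix.vecMul, dotProduct] at e1 e2 b0 b1 b2 c0 c1 c2
  ext i j
  fin_cases i <;> fin_cases j <;> simp <;> grind

variable (hσ : Fld σ p)
include hσ
variable [Fintype F] {M : Subgroup (GL I9 F)}

/-- The nilpotent part of an element of the kernel is trivial or the identity. -/
theorem jn_one_cases (h : Ctx hl M) (hM : M ≤ Sim σ I9) (hno : ¬ SUn σ I9 ≤ M) (h2 : p = 2) {B : M3} {y : G9}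
    (hy : y ∈ M) (hyB : (y : M9) = jn 1 B) : B = 0 ∨ B = 1 := by
  classical
  have t2 := two_zero hl hσ h2
  let K : Set M3 := {X | ∃ z ∈ M, (z : M9) = jn 1 X}
  have hadd : ∀ {X Y : M3}, X ∈ K → Y ∈ K → X + Y ∈ K := by
    rintro X Y ⟨z, hz, ez⟩ ⟨z', hz', ez'⟩
    exact ⟨z * z', mul_mem hz hz', by rw [Units.val_mul, ez, ez', jn_mul t2, one_mul, one_mul, mul_one, add_comm]⟩
  have hconj : ∀ {n : G3}, n ∈ subgroupNormalizer (H3 hl) → ∀ {X : M3}, X ∈ K →
      (n : M3) * X * ((n⁻¹ : G3) : M3) ∈ K := by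
    rintro n hn X ⟨z, hz, ez⟩
    refine ⟨tB n * z * tB n⁻¹, mul_mem (mul_mem (h.tB_mem_all hl hn) hz) (h.tB_mem_all hl (inv_mem hn)), ?_⟩
    rw [Units.val_mul, Units.val_mul, tB_val, tB_val, ez, jn_mul t2, jn_mul t2]
    simp
  have hdiag : ∀ {X : M3}, X ∈ K → X 0 0 = X 1 1 ∧ X 1 1 = X 2 2 := by
    intro X hX
    have ha : aG hl ∈ subgroupNormalizer (H3 hl) := h3_le hl (std hl).aR
    have hD := hadd (hadd hX (hconj ha hX)) (hconj (mul_mem ha ha) hX)
    set D := X + (aG hl : M3) * X * (((aG hl)⁻¹ : G3) : M3) +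
      ((aG hl * aG hl : G3) : M3) * X * (((aG hl * aG hl)⁻¹ : G3) : M3) with hDdef
    have hai : (((aG hl)⁻¹ : G3) : M3) = diagonal ![1, l ^ 2, l] := by
      refine Units.inv_eq_of_mul_eq_one_right ?_
      show amat l * diagonal ![1, l ^ 2, l] = 1
      rw [amat, diagonal_mul_diagonal, ← diagonal_one]
      congr 1; funext i; fin_cases i <;> simp <;> linear_combination hl.pow_eq_one
    have hDv : D = diagonal ![X 0 0, X 1 1, X 2 2] := by
      rw [hDdef, _root_.mul_inv_rev, Units.val_mul, Units.val_mul, hai]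
      show X + amat l * X * _ + amat l * amat l * X * _ = _
      have hp := hl.pow_eq_one
      have hg := geom hl
      ext i j
      fin_cases i <;> fin_cases j <;> simp [amat, Matrix.mul_apply, Fin.sum_univ_three, diagonal] <;> grind
    obtain ⟨z, hz, ez⟩ := hD
    have hcz : Commute z (tB (aG hl)) := Units.ext (by
      rw [Units.val_mul, Units.val_mul, ez, tB_val, jn_mul t2, jn_mul t2, hDv]
      show jn (1 * amat l) (1 * 0 + diagonal ![X 0 0, X 1 1, X 2 2] * amat l) =
        jn (amat l * 1) (amat l * diagonal ![X 0 0, X 1 1, X 2 2] + 0 * 1)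
      rw [one_mul, mul_one, one_mul, zero_add, zero_mul, add_zero, amat, diagonal_mul_diagonal, diagonal_mul_diagonal]
      simp [mul_comm])
    have hns : (tB (aG hl) : G9) ∉ scalars I9 F := fun hs => by
      rw [tB_eq] at hs
      exact absurd (Rel.unique (Rel.of_scalar (h := std hl) (tp_scalar hs).2) rel_a) (by decide)
    have hN := centralizer_le hl hσ h hM hno (gen9_mem hl 2) hns hz hcz
    have hm := (Subgroup.mem_normalizer_iff.1 hN _).1 (gen9_mem hl 3)
    change z * tB (bG hl) * z⁻¹ ∈ R9 hl at hm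
    have hzi : ((z⁻¹ : G9) : M9) = jn 1 D := Units.inv_eq_of_mul_eq_one_right (by
      rw [ez, jn_mul t2, one_mul, one_mul, mul_one,
        show D + D = 0 by ext i j; rw [Matrix.add_apply, Matrix.zero_apply]; linear_combination D i j * t2, jn_one])
    have h0 := jn_mem_R9 hl t2 hm (A := (bG hl : M3)) (B := (bG hl : M3) * D + D * (bG hl : M3)) (by
      rw [Units.val_mul, Units.val_mul, ez, tB_val, hzi, jn_mul t2, jn_mul t2]
      simp)
    have c := congrFun₂ h0 1 0
    have d := congrFun₂ h0 2 1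
    have dg3 : (diagonal ![X 0 0, X 1 1, X 2 2] : M3) = !![X 0 0, 0, 0; 0, X 1 1, 0; 0, 0, X 2 2] := by
      ext i j; fin_cases i <;> fin_cases j <;> simp [diagonal]
    rw [hDv, dg3] at c d
    change (((bmat : M3) * !![X 0 0, 0, 0; 0, X 1 1, 0; 0, 0, X 2 2] + !![X 0 0, 0, 0; 0, X 1 1, 0; 0, 0, X 2 2] * bmat : M3)) _ _ = _ at c d
    simp [bmat, Matrix.mul_apply, Fin.sum_univ_three] at c d
    exact ⟨by linear_combination c - X 1 1 * t2, by linear_combination d - X 2 2 * t2⟩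
  have htr : ∀ {X : M3}, X ∈ K → ∀ i j : Fin 3, ¬ (i = 0 ∧ j = 0) →
      (X * (amat l ^ (i : ℕ) * bmat ^ (j : ℕ))).trace = 0 := by
    intro X hX i j hij
    set x : G3 := aG hl ^ (i : ℕ) * bG hl ^ (j : ℕ) with hx
    have hr := ((rel_a (h := std hl)).pow (i : ℕ)).mul ((rel_b (h := std hl)).pow (j : ℕ))
    have key : ∀ i j : Fin 3, ¬ (i = 0 ∧ j = 0) →
        (i : ℕ) • ((0 : ZMod 3), (1 : ZMod 3)) + (j : ℕ) • ((2 : ZMod 3), (0 : ZMod 3)) ≠ 0 := by
      clear * -; decide +kernel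
    obtain ⟨k, hk, hkr⟩ := exists_move hl (key i j hij) (show ((0 : ZMod 3), (1 : ZMod 3)) ≠ 0 by decide)
    have hkN := (good_of_closure hl hk).1
    obtain ⟨c, hc⟩ := (mem_scalars_iff _).1 (inR_rel hl (hkr x hr) (rel_a (h := std hl)))
    have hY := hdiag (hconj hkN hX)
    set Y := (k : M3) * X * ((k⁻¹ : G3) : M3) with hYdef
    have hval : (k : M3) * ((x : M3) * ((k⁻¹ : G3) : M3)) = (c : F) • amat l := by
      rw [← mul_assoc, ← Units.val_mul, ← Units.val_mul,
        show k * x * k⁻¹ = k * x * k⁻¹ * (aG hl)⁻¹ * aG hl by group, Units.val_mul]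
      show ((k * x * k⁻¹ * (std hl).a⁻¹ : G3) : M3) * (aG hl : M3) = _
      rw [hc, smul_mul_assoc, one_mul]; rfl
    have e : (X * (x : M3)).trace = (Y * ((k : M3) * ((x : M3) * ((k⁻¹ : G3) : M3)))).trace := by
      rw [hYdef, mul_assoc ((k : M3) * X), ← mul_assoc ((k⁻¹ : G3) : M3) (k : M3), Units.inv_mul, one_mul,
        mul_assoc (k : M3), trace_mul_comm (k : M3), mul_assoc, mul_assoc, Units.inv_mul, mul_one]
    show (X * ((amat l : M3) ^ (i : ℕ) * bmat ^ (j : ℕ))).trace = 0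
    rw [show (amat l : M3) ^ (i : ℕ) * bmat ^ (j : ℕ) = (x : M3) by
      rw [hx, Units.val_mul, Units.val_pow_eq_pow_val, Units.val_pow_eq_pow_val]; rfl, e, hval, mul_smul_comm,
      Matrix.trace_smul, Matrix.trace, Fin.sum_univ_three]
    have hg := geom hl
    simp [amat, diagonal, Matrix.mul_apply, Fin.sum_univ_three]
    grind
  have hBs := fourier hl (h3_ne hl) (htr ⟨y, hy, hyB⟩)
  set β := B 0 0 with hβ
  obtain ⟨c, hc1, hc2⟩ := jn_sim t2 hyB (hM hy)
  have hb := congrFun₂ hc2 0 0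
  rw [hBs] at hb
  simp [Matrix.mul_apply, Fin.sum_univ_three, one_apply, apply_ite σ] at hb
  rw [hσ.qpow.eq_pow, h2] at hb
  have : β * (β + 1) = 0 := by linear_combination hb
  rcases mul_eq_zero.1 this with e | e
  · left; rw [hBs, e, zero_smul]
  · right
    rw [hBs, show β = 1 by linear_combination e - t2, one_smul]

/-- The shape of an element commuting with the quaternion group on the first factor. -/
theorem commutant_form_two (h : Ctx hl M) (hM : M ≤ Sim σ I9) (hno : ¬ SUn σ I9 ≤ M) (h2 : p = 2) {g : G9}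
    (hg : g ∈ M) (h1 : Commute g (tA (fG hl))) (h1' : Commute g (tA (gG hl))) :
    ∃ x ∈ subgroupNormalizer (H3 hl), g = tB x ∨ g = tp (jG hl, x) := by
  classical
  have t2 := two_zero hl hσ h2
  obtain ⟨A, B, e⟩ := exists_jn hl t2 h1 h1'
  obtain ⟨c, hc, -⟩ := jn_sim t2 e (hM hg)
  have hd : A.det ≠ 0 := fun hd => by
    have := congrArg Matrix.det hc
    rw [det_mul, det_transpose, hd, zero_mul, det_smul, det_one, mul_one] at this
    exact pow_ne_zero _ c.ne_zero this.symm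
  set x : G3 := Matrix.GeneralLinearGroup.mkOfDetNeZero A hd with hx
  have hxv : (x : M3) = A := rfl
  have hxN : x ∈ subgroupNormalizer (H3 hl) := sim_le_normalizer_two hl hσ h2 ⟨c, by rw [hxv]; exact hc⟩
  have hz : tB x⁻¹ * g ∈ M := mul_mem (h.tB_mem_all hl (inv_mem hxN)) hg
  have hzv : ((tB x⁻¹ * g : G9) : M9) = jn 1 (((x⁻¹ : G3) : M3) * B) := by
    rw [Units.val_mul, e, tB_val, jn_mul t2, zero_mul, add_zero, ← hxv, Units.inv_mul]
  refine ⟨x, hxN, ?_⟩
  have hB : B = A * (((x⁻¹ : G3) : M3) * B) := by rw [← mul_assoc, ← hxv, Units.mul_inv, one_mul]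
  rcases jn_one_cases hl hσ h hM hno h2 hz hzv with e0 | e0 <;> rw [e0] at hB
  · left
    exact Units.ext (by rw [e, tB_val, hxv, hB, mul_zero])
  · right
    refine Units.ext ?_
    have hj : (jmat : M3) = 1 + Nj := by
      ext i j; fin_cases i <;> fin_cases j <;> simp [Nj, jmat] <;> linear_combination -t2
    rw [e, tp_val, jG_val, hxv, hB, mul_one, hj, add_kronecker, jn]

end CfsgLib.Geo.NineU
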