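import Cfsg.Agent.Lib.Geo.Nine.Commutant
import Cfsg.Agent.Lib.Geo.Asch.UnitNine

/-!
# The unitary structure on the nine coordinates
-/

set_option autoImplicit false

namespace CfsgLib.Geo.NineU

open Matrix Cfsg.Geo
open scoped Kronecker
open CfsgLib.Geo.Extra27 (amat bmat jmat)
open CfsgLib.Geo.SL3.Maximal
open CfsgLib.Geo.Nine
open CfsgLib.Geo.Asch (IsQPow)

variable {F : Type*} [Field F]

/-- The field with `p ^ 2` elements, `p` a prime congruent to two modulo three, with its involution. -/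
structure Fld (σ : F ≃+* F) (p : ℕ) : Prop where
  prime : p.Prime
  mod3 : p % 3 = 2
  qpow : IsQPow σ p
  card : Nat.card F = p ^ 2

section Groups

variable (σ : F ≃+* F) (ι : Type) [Fintype ι] [DecidableEq ι]

/-- The unitary group of the identity form. -/
def U : Subgroup (GL ι F) where
  carrier := {g | (g : Matrix ι ι F)ᵀ * (g : Matrix ι ι F).map σ = 1}
  one_mem' := by simp
  mul_mem' {a b} ha hb := by
    show ((a * b : GL ι F) : Matrix ι ι F)ᵀ * ((a * b : GL ι F) : Matrix ι ι F).map σ = 1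
    rw [Units.val_mul, transpose_mul, Matrix.map_mul, mul_assoc, ← mul_assoc (a : Matrix ι ι F)ᵀ,
      show (a : Matrix ι ι F)ᵀ * (a : Matrix ι ι F).map σ = 1 from ha, one_mul]
    exact hb
  inv_mem' {a} ha := by
    have h := mul_eq_one_comm.1 (show (a : Matrix ι ι F)ᵀ * (a : Matrix ι ι F).map σ = 1 from ha)
    show ((a⁻¹ : GL ι F) : Matrix ι ι F)ᵀ * ((a⁻¹ : GL ι F) : Matrix ι ι F).map σ = 1
    calc _ = ((a⁻¹ : GL ι F) : Matrix ι ι F)ᵀ * 1 * ((a⁻¹ : GL ι F) : Matrix ι ι F).map σ := by rw [mul_one]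
      _ = ((a⁻¹ : GL ι F) : Matrix ι ι F)ᵀ * ((a : Matrix ι ι F).map σ * (a : Matrix ι ι F)ᵀ) *
          ((a⁻¹ : GL ι F) : Matrix ι ι F).map σ := by rw [h]
      _ = _ := ?_
    have e1 : (a : Matrix ι ι F).map σ * ((a⁻¹ : GL ι F) : Matrix ι ι F).map σ = 1 := by
      rw [← Matrix.map_mul, Units.mul_inv, Matrix.map_one σ (map_zero σ) (map_one σ)]
    have e2 : ((a⁻¹ : GL ι F) : Matrix ι ι F)ᵀ * (a : Matrix ι ι F)ᵀ = 1 := by
      rw [← transpose_mul, Units.mul_inv, transpose_one]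
    have e3 : (a : Matrix ι ι F)ᵀ = ((a⁻¹ : GL ι F) : Matrix ι ι F).map σ := by
      calc _ = ((a⁻¹ : GL ι F) : Matrix ι ι F).map σ * (a : Matrix ι ι F).map σ * (a : Matrix ι ι F)ᵀ := by
            rw [← Matrix.map_mul, Units.inv_mul, Matrix.map_one σ (map_zero σ) (map_one σ), one_mul]
        _ = _ := by rw [mul_assoc, h, mul_one]
    rw [h, mul_one, ← e3, ← transpose_mul, Units.mul_inv, transpose_one]

variable {σ ι} in
theorem mem_U {g : GL ι F} : g ∈ U σ ι ↔ (g : Matrix ι ι F)ᵀ * (g : Matrix ι ι F).map σ = 1 := Iff.rfl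

/-- The similitudes of the identity form. -/
def Sim : Subgroup (GL ι F) where
  carrier := {g | ∃ c : Fˣ, (g : Matrix ι ι F)ᵀ * (g : Matrix ι ι F).map σ = (c : F) • 1}
  one_mem' := ⟨1, by simp⟩
  mul_mem' {a b} ha hb := by
    obtain ⟨c, hc⟩ := ha
    obtain ⟨d, hd⟩ := hb
    refine ⟨c * d, ?_⟩
    rw [Units.val_mul, transpose_mul, Matrix.map_mul, mul_assoc, ← mul_assoc (a : Matrix ι ι F)ᵀ, hc,
      smul_mul_assoc, one_mul, mul_smul_comm, hd, smul_smul, Units.val_mul]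
  inv_mem' {a} ha := by
    obtain ⟨c, hc⟩ := ha
    refine ⟨c⁻¹, ?_⟩
    set A := (a : Matrix ι ι F).map σ
    set B := ((a⁻¹ : GL ι F) : Matrix ι ι F).map σ
    have hAB : B * A = 1 := by
      rw [← Matrix.map_mul, Units.inv_mul, Matrix.map_one σ (map_zero σ) (map_one σ)]
    have hBA : A * B = 1 := mul_eq_one_comm.1 hAB
    have hat : (a : Matrix ι ι F)ᵀ = (c : F) • B := by
      rw [← one_mul B, ← smul_mul_assoc, ← hc, mul_assoc, hBA, mul_one]
    have : B = (↑c⁻¹ : F) • (a : Matrix ι ι F)ᵀ := by rw [hat, smul_smul, Units.inv_mul, one_smul]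
    rw [this, mul_smul_comm, ← transpose_mul, Units.mul_inv, transpose_one]

variable {σ ι} in
theorem mem_Sim {g : GL ι F} :
    g ∈ Sim σ ι ↔ ∃ c : Fˣ, (g : Matrix ι ι F)ᵀ * (g : Matrix ι ι F).map σ = (c : F) • 1 := Iff.rfl

/-- The special unitary group. -/
abbrev SUn : Subgroup (GL ι F) := U σ ι ⊓ specialLinear ι F

theorem U_le_Sim : U σ ι ≤ Sim σ ι := fun g hg => ⟨1, by rw [Units.val_one, one_smul]; exact hg⟩

theorem scalars_le_Sim [Nonempty ι] : scalars ι F ≤ Sim σ ι := by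
  intro g hg
  obtain ⟨c, hc⟩ := (mem_scalars_iff g).1 hg
  refine ⟨c * Units.map (σ : F →* F) c, ?_⟩
  rw [hc, transpose_smul, transpose_one, Matrix.smul_one_eq_diagonal,
    Matrix.diagonal_map (map_zero σ), Matrix.diagonal_mul_diagonal, Matrix.smul_one_eq_diagonal]
  congr 1

theorem Sim_conj_SU {g x : GL ι F} (hg : g ∈ Sim σ ι) (hx : x ∈ SUn σ ι) : g * x * g⁻¹ ∈ SUn σ ι := by
  refine Subgroup.mem_inf.2 ⟨?_, (MonoidHom.normal_ker _).conj_mem _ hx.2 g⟩
  obtain ⟨c, hc⟩ := hg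
  obtain ⟨d, hd⟩ := (Sim σ ι).inv_mem ⟨c, hc⟩
  rw [mem_U]
  have hx1 : (x : Matrix ι ι F)ᵀ * (x : Matrix ι ι F).map σ = 1 := hx.1
  have key : (((g⁻¹ : GL ι F) : Matrix ι ι F))ᵀ * (((g⁻¹ : GL ι F) : Matrix ι ι F)).map σ = (d : F) • 1 := hd
  have e : ((g * x * g⁻¹ : GL ι F) : Matrix ι ι F)ᵀ * ((g * x * g⁻¹ : GL ι F) : Matrix ι ι F).map σ =
      ((c : F) * d) • 1 := by
    rw [Units.val_mul, Units.val_mul, transpose_mul, transpose_mul, Matrix.map_mul, Matrix.map_mul]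
    calc _ = ((g⁻¹ : GL ι F) : Matrix ι ι F)ᵀ * ((x : Matrix ι ι F)ᵀ * ((g : Matrix ι ι F)ᵀ * (g : Matrix ι ι F).map σ) *
          (x : Matrix ι ι F).map σ) * ((g⁻¹ : GL ι F) : Matrix ι ι F).map σ := by simp only [mul_assoc]
      _ = _ := by rw [hc, mul_smul_comm, mul_one, smul_mul_assoc, hx1, mul_smul_comm, mul_one, smul_mul_assoc, key,
            smul_smul]
  rcases isEmpty_or_nonempty ι with h | h
  · exact Subsingleton.elim _ _
  have hone : ((g * g⁻¹ : GL ι F) : Matrix ι ι F)ᵀ * ((g * g⁻¹ : GL ι F) : Matrix ι ι F).map σ =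
      ((c : F) * d) • 1 := by
    rw [Units.val_mul, transpose_mul, Matrix.map_mul]
    calc _ = ((g⁻¹ : GL ι F) : Matrix ι ι F)ᵀ * ((g : Matrix ι ι F)ᵀ * (g : Matrix ι ι F).map σ) *
          ((g⁻¹ : GL ι F) : Matrix ι ι F).map σ := by simp only [mul_assoc]
      _ = _ := by rw [hc, mul_smul_comm, mul_one, smul_mul_assoc, key, smul_smul]
  rw [mul_inv_cancel, Units.val_one, transpose_one, Matrix.map_one σ (map_zero σ) (map_one σ), one_mul] at hone
  rw [e, ← hone]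

end Groups

variable {σ : F ≃+* F}

local notation "M3" => Matrix (Fin 3) (Fin 3) F
local notation "G3" => GL (Fin 3) F
local notation "M9" => Matrix I9 I9 F
local notation "G9" => GL I9 F

theorem tp_mem_U {x y : G3} (hx : x ∈ U σ (Fin 3)) (hy : y ∈ U σ (Fin 3)) : (tp (x, y) : G9) ∈ U σ I9 := by
  rw [mem_U] at hx hy ⊢
  rw [tp_val]
  have e1 : ((x : M3) ⊗ₖ (y : M3))ᵀ = (x : M3)ᵀ ⊗ₖ (y : M3)ᵀ := by ext r c; simp
  have e2 : ((x : M3) ⊗ₖ (y : M3)).map σ = (x : M3).map σ ⊗ₖ (y : M3).map σ := by ext r c; simp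
  rw [e1, e2, ← mul_kronecker_mul, hx, hy, one_kronecker_one]

theorem tA_mem_U {x : G3} (hx : x ∈ U σ (Fin 3)) : (tA x : G9) ∈ U σ I9 := tp_mem_U hx (one_mem _)

theorem tB_mem_U {x : G3} (hx : x ∈ U σ (Fin 3)) : (tB x : G9) ∈ U σ I9 := tp_mem_U (one_mem _) hx

theorem bd_transpose_mul (f : Fin 3 → G3) : ((bd f : G9) : M9)ᵀ * ((bd f : G9) : M9).map σ =
    blockDiagonal fun i => (f i : M3)ᵀ * (f i : M3).map σ := by
  rw [show ((bd f : G9) : M9) = blockDiagonal fun i => (f i : M3) from rfl, blockDiagonal_transpose,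
    blockDiagonal_map _ _ (map_zero σ), ← blockDiagonal_mul]

theorem bd_mem_U {f : Fin 3 → G3} (hf : ∀ i, f i ∈ U σ (Fin 3)) : (bd f : G9) ∈ U σ I9 := by
  rw [mem_U, bd_transpose_mul, show (fun i => (f i : M3)ᵀ * (f i : M3).map σ) = 1 from funext hf, blockDiagonal_one]

theorem of_bd_mem_U {f : Fin 3 → G3} (hf : (bd f : G9) ∈ U σ I9) (i : Fin 3) : f i ∈ U σ (Fin 3) := by
  rw [mem_U, bd_transpose_mul, ← blockDiagonal_one] at hf
  exact congrFun (blockDiagonal_injective hf) i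

theorem of_bd_mem_Sim {f : Fin 3 → G3} (hf : (bd f : G9) ∈ Sim σ I9) (i : Fin 3) : f i ∈ Sim σ (Fin 3) := by
  obtain ⟨c, hc⟩ := hf
  refine ⟨c, ?_⟩
  rw [bd_transpose_mul, ← blockDiagonal_one, ← blockDiagonal_smul] at hc
  exact congrFun (blockDiagonal_injective hc) i

theorem pr_mem_U (π : Equiv.Perm I9) : (pr π : G9) ∈ U σ I9 := by
  rw [mem_U]
  ext r c
  rw [Matrix.mul_apply, Finset.sum_eq_single (π r)]
  · simp [pr_apply, one_apply, apply_ite σ]
  · intro b _ hb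
    simp [pr_apply, Equiv.symm_apply_eq, hb]
  · simp

variable {p : ℕ} {l : F}

theorem Fld.sig_root (hσ : Fld σ p) (hl : IsPrimitiveRoot l 3) : σ l = l ^ 2 := by
  obtain ⟨k, hk⟩ : ∃ k, p = 3 * k + 2 := ⟨p / 3, by have := hσ.mod3; omega⟩
  rw [hσ.qpow.eq_pow, hk, pow_add, pow_mul, hl.pow_eq_one, one_pow, one_mul]

variable (hσ : Fld σ p) (hl : IsPrimitiveRoot l 3)
include hσ hl

theorem sig_pow_mul (k : ℕ) : l ^ k * σ (l ^ k) = 1 := by
  rw [map_pow, hσ.sig_root hl, ← mul_pow, ← pow_succ', hl.pow_eq_one, one_pow]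

theorem sig_sq : σ (l ^ 2) = l := by
  rw [map_pow, hσ.sig_root hl, ← pow_mul, show 2 * 2 = 3 + 1 from rfl, pow_add, hl.pow_eq_one, one_mul, pow_one]

theorem dg_mem_U (f : I9 → Fin 3) : (dg hl f : G9) ∈ U σ I9 := by
  rw [mem_U, show ((dg hl f : G9) : M9) = diagonal fun x => l ^ (f x : ℕ) from rfl, diagonal_transpose,
    diagonal_map (map_zero σ), diagonal_mul_diagonal, ← diagonal_one]
  exact congrArg _ (funext fun x => sig_pow_mul hσ hl _)

theorem aG_mem_U : aG hl ∈ U σ (Fin 3) := by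
  rw [mem_U, show ((aG hl : G3) : M3) = amat l from rfl, amat, diagonal_transpose, diagonal_map (map_zero σ),
    diagonal_mul_diagonal, ← diagonal_one]
  congr 1
  funext i
  have := sig_pow_mul hσ hl (i : ℕ)
  fin_cases i <;> simpa using this

theorem bG_mem_U : bG hl ∈ U σ (Fin 3) := by
  rw [mem_U, show ((bG hl : G3) : M3) = bmat from rfl]
  ext i j
  fin_cases i <;> fin_cases j <;> simp [bmat, Matrix.mul_apply, Fin.sum_univ_three]

theorem dG_mem_U : dG hl ∈ U σ (Fin 3) := by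
  rw [mem_U, show ((dG hl : G3) : M3) = dmat l from rfl, dmat, diagonal_transpose, diagonal_map (map_zero σ),
    diagonal_mul_diagonal, ← diagonal_one]
  congr 1
  funext i
  have := sig_pow_mul hσ hl 1
  fin_cases i <;> simp <;> simpa using this

theorem dD3_mem_SU : dD3 hl ∈ SUn σ (Fin 3) := by
  refine Subgroup.mem_inf.2 ⟨?_, MonoidHom.mem_ker.2 (Units.ext ?_)⟩
  · rw [mem_U, show ((dD3 hl : G3) : M3) = diagonal ![-1, -1, 1] from rfl, diagonal_transpose,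
      diagonal_map (map_zero σ), diagonal_mul_diagonal, ← diagonal_one]
    congr 1; funext i; fin_cases i <;> simp
  · show (diagonal ![-1, -1, 1] : M3).det = 1
    simp [det_diagonal, Fin.prod_univ_three]

variable [Finite F]

theorem fG_mem_U : fG hl ∈ U σ (Fin 3) := by
  have hs := sub_sq_ne hl (h3_ne hl)
  have hg := geom hl
  have hl3 := hl.pow_eq_one
  have e1 : σ (l - l ^ 2)⁻¹ = -(l - l ^ 2)⁻¹ := by
    rw [map_inv₀, map_sub, sig_sq hσ hl, hσ.sig_root hl, ← neg_sub l, inv_neg]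
  rw [mem_U, fG_val, fmat, Matrix.transpose_smul]
  ext i j
  simp only [Matrix.mul_apply, Matrix.smul_apply, Matrix.map_apply, smul_eq_mul, map_mul, e1, Fin.sum_univ_three]
  fin_cases i <;> fin_cases j <;> simp [hσ.sig_root hl, sig_sq hσ hl] <;> field_simp <;> grind

theorem jG_mem_U : jG hl ∈ U σ (Fin 3) := by
  rw [← (rels' hl)]
  exact mul_mem (fG_mem_U hσ hl) (fG_mem_U hσ hl)
where
  rels' (hl : IsPrimitiveRoot l 3) : fG hl * fG hl = jG hl := fEl_sq _ _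

theorem gG_mem_U : gG hl ∈ U σ (Fin 3) := by
  rw [gG_eq]
  exact mul_mem (mul_mem (dG_mem_U hσ hl) (fG_mem_U hσ hl)) (inv_mem (dG_mem_U hσ hl))

theorem wd_mem_U (v : ZMod 3 × ZMod 3) : wd hl v ∈ U σ (Fin 3) := by
  have ha : (std hl).a ∈ U σ (Fin 3) := aG_mem_U hσ hl
  have hb : (std hl).b ∈ U σ (Fin 3) := bG_mem_U hσ hl
  exact mul_mem (pow_mem ha _) (pow_mem hb _)

/-- The normaliser of the group of order 27 consists of similitudes. -/
theorem normalizer_le_Sim : subgroupNormalizer (H3 hl) ≤ Sim σ (Fin 3) :=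
  normalizer_le hl (U_le_Sim _ _ (fG_mem_U hσ hl)) (U_le_Sim _ _ (dG_mem_U hσ hl)) (U_le_Sim _ _ (aG_mem_U hσ hl))
    (U_le_Sim _ _ (bG_mem_U hσ hl)) (scalars_le_Sim _ _)

omit [Finite F] in
theorem psi_mem_U (h2 : (2 : F) ≠ 0) {x : G3} (hx : x ∈ U σ (Fin 3)) : (psi h2 x : G9) ∈ U σ I9 := by
  let U9 : Matrix I9 (Fin 3) F := oU
  have hmap : ((psi h2 x : G9) : M9).map σ = 1 + (2⁻¹ : F) • (U9 * ((x : M3).map σ - 1) * U9ᵀ) := by
    rw [psi_val]
    ext r c
    simp [U9, Matrix.mul_apply, oU, one_apply, apply_ite σ, map_sum, map_inv₀, map_ofNat]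
  have htr : ((psi h2 x : G9) : M9)ᵀ = 1 + (2⁻¹ : F) • (U9 * ((x : M3)ᵀ - 1) * U9ᵀ) := by
    rw [psi_val, transpose_add, transpose_one, transpose_smul, transpose_mul, transpose_mul, transpose_transpose,
      transpose_sub, transpose_one, Matrix.mul_assoc]
  rw [mem_U, hmap, htr, ← psiM_mul h2, mem_U.1 hx]
  simp

end CfsgLib.Geo.NineU
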