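import Cfsg.Agent.Lib.Geo.NineU.Final

/-!
# The normaliser of the standard extraspecial group is maximal in the special unitary group
-/

set_option autoImplicit false
set_option maxHeartbeats 1000000

namespace CfsgLib.Geo.NineU

open Matrix Cfsg.Geo
open scoped Kronecker commutatorElement
open CfsgLib.Geo.Nine
open CfsgLib.Geo.SympNorm (commute_scalar)

variable {F : Type*} [Field F] [Fintype F] {l : F} {σ : F ≃+* F} {p : ℕ}

local notation "M9" => Matrix I9 I9 F
local notation "G9" => GL I9 F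

variable (hσ : Fld σ p) (hl : IsPrimitiveRoot l 3)
include hσ hl

/-- Elements of order dividing three in the standard group are unitary. -/
theorem R9_cube_mem_U {y : G9} (hy : y ∈ R9 hl) (h3 : y ^ 3 = 1) : y ∈ U σ I9 := by
  obtain ⟨c, hc, v, w, rfl⟩ := R9_cases hl hy
  refine mul_mem ?_ (tp_mem_U (wd_mem_U hσ hl v) (wd_mem_U hσ hl w))
  have ht : (tp (wd hl v, wd hl w) : G9) ^ 3 = 1 := by
    rw [← map_pow, Prod.pow_mk, (h3_data hl).2.2.2.2 _ (wd_mem hl v), (h3_data hl).2.2.2.2 _ (wd_mem hl w)]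
    exact map_one _
  rw [(commute_scalar hc _).mul_pow, ht, mul_one] at h3
  obtain ⟨d, hd⟩ := (mem_scalars_iff c).1 hc
  have hd3 : (d : F) ^ 3 = 1 := by
    have := congrArg (fun g : G9 => (g : M9) ((0, 0) : I9) ((0, 0) : I9)) h3
    simpa [Units.val_pow_eq_pow_val, hd, smul_pow] using this
  obtain ⟨k, -, hk⟩ := CfsgLib.Geo.Extra27.eq_pow_of_cube hl hd3
  rw [mem_U, hd, ← hk, Matrix.smul_one_eq_diagonal, diagonal_transpose, diagonal_map (map_zero σ),
    diagonal_mul_diagonal, ← diagonal_one]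
  exact congrArg _ (funext fun _ => sig_pow_mul hσ hl k)

theorem gen9_mem_U (k : Fin 4) : (gen9 hl k : G9) ∈ U σ I9 :=
  R9_cube_mem_U hσ hl (gen9_mem hl k) (gen9_cube hl k)

omit hl in
theorem coprime_nine : Nat.Coprime 9 (p - 1) :=
  Nat.Coprime.pow_left 2 ((Nat.prime_three.coprime_iff_not_dvd).2 (by have := hσ.mod3; omega))

omit hl in
theorem sigma_fix_pow {c : F} (h0 : c ≠ 0) (hc : σ c = c) : c ^ (p - 1) = 1 := by
  have h1 : c ^ p = c := by rw [← hσ.qpow.eq_pow, hc]
  have hp := hσ.prime.one_le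
  apply mul_right_cancel₀ h0
  rw [← pow_succ, show p - 1 + 1 = p by omega, h1, one_mul]

/-- The determinant one part of the normaliser is unitary. -/
theorem N9_det_one_le {g : G9} (hg : g ∈ N9 hl) (hd : (g : M9).det = 1) : g ∈ U σ I9 := by
  set K : M9 := ((g : M9).map σ)ᵀ * (g : M9) with hK
  have hdσ : ((g : M9).map σ).det = 1 := by
    rw [← RingEquiv.coe_toRingHom, ← RingHom.mapMatrix_apply, ← RingHom.map_det, hd, map_one]
  have hdK : K.det = 1 := by rw [hK, det_mul, det_transpose, hdσ, hd, one_mul]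
  let k₀ : G9 := Matrix.GeneralLinearGroup.mkOfDetNeZero K (by rw [hdK]; exact one_ne_zero)
  have hcomm : ∀ i, Commute k₀ (gen9 hl i) := by
    intro i
    set x := gen9 hl i with hx
    have hxU : (x : M9)ᵀ * (x : M9).map σ = 1 := gen9_mem_U hσ hl i
    have hyU : g * x * g⁻¹ ∈ U σ I9 :=
      R9_cube_mem_U hσ hl ((Subgroup.mem_normalizer_iff.1 hg x).1 (gen9_mem hl i)) (by
        rw [conj_pow, gen9_cube, mul_one, mul_inv_cancel])
    set y : G9 := g * x * g⁻¹ with hy
    have hyU' : ((y : M9).map σ)ᵀ * (y : M9) = 1 := by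
      simpa using congrArg (fun M : M9 => Mᵀ) (mem_U.1 hyU)
    have e1 : (y : M9) * (g : M9) = (g : M9) * (x : M9) := by
      rw [← Units.val_mul, ← Units.val_mul, hy, inv_mul_cancel_right]
    have hxU' : ((x : M9).map σ)ᵀ * (x : M9) = 1 := by
      simpa using congrArg (fun M : M9 => Mᵀ) hxU
    have e2 : ((x : M9).map σ)ᵀ * K * (x : M9) = K := by
      calc ((x : M9).map σ)ᵀ * K * (x : M9)
          = (((g : M9) * (x : M9)).map σ)ᵀ * ((g : M9) * (x : M9)) := by
            rw [hK, Matrix.map_mul, transpose_mul]; simp only [mul_assoc]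
        _ = ((g : M9).map σ)ᵀ * (((y : M9).map σ)ᵀ * (y : M9)) * (g : M9) := by
            rw [← e1, Matrix.map_mul, transpose_mul]; simp only [mul_assoc]
        _ = K := by rw [hyU', mul_one]
    refine Units.ext ?_
    show K * (x : M9) = (x : M9) * K
    conv_rhs => rw [← e2]
    simp only [← mul_assoc]
    rw [mul_eq_one_comm.1 hxU', one_mul]
  obtain ⟨c, hc⟩ := (mem_scalars_iff k₀).1 (scalar_of_commute_gens hl hcomm)
  change K = (c : F) • (1 : M9) at hc
  have hσc : σ (c : F) = c := by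
    have h1 : Kᵀ.map σ = K := by
      ext r s
      simp [hK, Matrix.mul_apply, hσ.qpow.involutive _, mul_comm]
    have h2 := congrFun₂ h1 ((0, 0) : I9) ((0, 0) : I9)
    simpa [hc] using h2
  have hc9 : (c : F) ^ 9 = 1 := by
    rw [hc, det_smul, det_one, mul_one] at hdK
    simpa using hdK
  have hc1 : (c : F) = 1 := by
    have h := pow_gcd_eq_one.2 ⟨hc9, sigma_fix_pow hσ c.ne_zero hσc⟩
    rwa [coprime_nine hσ, pow_one] at h
  rw [hc1, one_smul, hK] at hc
  exact mem_U.2 (by simpa using congrArg (fun M : M9 => Mᵀ) hc)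

omit hl in
theorem SUn_le_comm : SUn σ I9 ≤ ⁅SUn σ I9, SUn σ I9⁆ := by
  rw [← Subgroup.map_le_map_iff_of_injective (f := (E9 (F := F)).toMonoidHom) (E9 (F := F)).injective,
    Subgroup.map_commutator, SUn_map]
  exact SUn_le_commutator hσ.qpow (by rw [← Nat.card_eq_fintype_card]; exact hσ.card) (by norm_num)
    (fun h => absurd h (by norm_num))

/-- A unitary element of determinant one outside the normaliser. -/
theorem not_le_N9 : ¬ SUn σ I9 ≤ N9 hl := by
  intro hle
  let a : I9 := (0, 0)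
  let b : I9 := (1, 0)
  let t : G9 := pr (Equiv.swap a b)
  have hdet : ((t : G9) : M9).det = -1 := by
    show ((1 : M9).submatrix (Equiv.swap a b).symm id).det = -1
    rw [det_permute, det_one, mul_one, Equiv.symm_swap, Equiv.Perm.sign_swap (by decide)]
    norm_num
  have hmem : -t ∈ SUn σ I9 := by
    refine Subgroup.mem_inf.2 ⟨?_, MonoidHom.mem_ker.2 (Units.ext ?_)⟩
    · rw [mem_U, Units.val_neg, transpose_neg,
        show (-((t : G9) : M9)).map σ = -(((t : G9) : M9).map σ) by ext r s; simp, neg_mul_neg]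
      exact pr_mem_U _
    · rw [Matrix.GeneralLinearGroup.val_det_apply, Units.val_neg, det_neg, hdet]
      norm_num
  have hg := (Subgroup.mem_normalizer_iff.1 (hle hmem) (gen9 hl 0)).1 (gen9_mem hl 0)
  have e : -t * gen9 hl 0 * (-t)⁻¹ = dg hl ((fun x : I9 => x.1) ∘ (Equiv.swap a b).symm) := by
    rw [← pr_conj_dg, ← tA_aG, inv_neg, neg_mul, neg_mul_neg]
    rfl
  rw [e, mem_R9_iff] at hg
  obtain ⟨c, hc⟩ := (mem_scalars_iff _).1 (hg 1)
  set D : G9 := dg hl ((fun x : I9 => x.1) ∘ (Equiv.swap a b).symm) with hD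
  set T : G9 := pr (Equiv.addRight ((1, 0) : I9)) with hT
  have hT' : gen9 hl 1 = T := tA_bG hl
  rw [hT'] at hc
  have h2 : (D : M9) * (T : M9) = (c : F) • ((T : M9) * (D : M9)) := by
    rw [← Units.val_mul, show D * T = D * T * D⁻¹ * T⁻¹ * (T * D) by group, Units.val_mul, hc, smul_mul_assoc,
      one_mul, Units.val_mul]
  have val : ∀ r s : I9, (Equiv.addRight ((1, 0) : I9)).symm r = s →
      l ^ (((Equiv.swap a b).symm r).1 : ℕ) = (c : F) * l ^ (((Equiv.swap a b).symm s).1 : ℕ) := by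
    intro r s hrs
    have h3 := congrFun₂ h2 r s
    rw [Matrix.smul_apply, Matrix.mul_apply, Matrix.mul_apply, Finset.sum_eq_single r (fun m _ hm => by
        rw [hD, dg_apply, if_neg (Ne.symm hm), zero_mul]) (by simp), Finset.sum_eq_single s (fun m _ hm => by
        rw [hD, dg_apply, if_neg hm, mul_zero]) (by simp)] at h3
    rw [hD, hT, dg_apply, if_pos rfl, dg_apply, if_pos rfl, pr_apply, if_pos hrs, mul_one, one_mul, smul_eq_mul] at h3
    simpa using h3
  have v1 := val (1, 0) (0, 0) (by decide)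
  have v2 := val (1, 1) (0, 1) (by decide)
  have s1 : ((Equiv.swap a b).symm ((1, 0) : I9)).1 = 0 := by decide
  have s2 : ((Equiv.swap a b).symm ((0, 0) : I9)).1 = 1 := by decide
  have s3 : ((Equiv.swap a b).symm ((1, 1) : I9)).1 = 1 := by decide
  have s4 : ((Equiv.swap a b).symm ((0, 1) : I9)).1 = 0 := by decide
  simp only [s1, s2, s3, s4, Fin.val_zero, Fin.val_one, pow_zero, pow_one, mul_one] at v1 v2
  rw [← v2] at v1
  exact hl.pow_ne_one_of_pos_of_lt (l := 2) (by norm_num) (by norm_num) (by rw [pow_two]; exact v1.symm)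

/-- The normaliser of the standard group is maximal in the special unitary group. -/
theorem maximal_std : Cfsg.Geo.IsMaximalIn (SUn σ I9) (N9 hl ⊓ SUn σ I9) := by
  classical
  refine ⟨lt_of_le_of_ne inf_le_right fun e => not_le_N9 hσ hl (e.ge.trans inf_le_left), fun M hM hMS => ?_⟩
  have hN : ∀ g ∈ N9 hl, (g : M9).det = 1 → g ∈ M := fun g hg hd =>
    hM (Subgroup.mem_inf.2 ⟨hg, Subgroup.mem_inf.2
      ⟨N9_det_one_le hσ hl hg hd, MonoidHom.mem_ker.2 (Units.ext (by simpa using hd))⟩⟩)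
  by_cases hno : SUn σ I9 ≤ M ⊔ scalars I9 F
  · refine Or.inr (le_antisymm hMS ((SUn_le_comm hσ).trans (Subgroup.commutator_le.2 fun a ha b hb => ?_)))
    haveI := scalars_normal (ι := I9) (F := F)
    obtain ⟨m, hm, u, hu, rfl⟩ := Subgroup.mem_sup_of_normal_right.1 (hno ha)
    obtain ⟨n, hn, w, hw, rfl⟩ := Subgroup.mem_sup_of_normal_right.1 (hno hb)
    have cs : ∀ {c : G9}, c ∈ scalars I9 F → ∀ z, c * z * c⁻¹ = z := fun hc z => by
      rw [(commute_scalar hc z).eq, mul_inv_cancel_right]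
    have e : ⁅m * u, n * w⁆ = ⁅m, n⁆ := by
      rw [commutatorElement_def, commutatorElement_def]
      calc m * u * (n * w) * (m * u)⁻¹ * (n * w)⁻¹ = m * (u * (n * w) * u⁻¹) * m⁻¹ * (n * w)⁻¹ := by group
        _ = m * n * (w * m⁻¹ * w⁻¹) * n⁻¹ := by rw [cs hu]; group
        _ = _ := by rw [cs hw]
    rw [e, commutatorElement_def]
    exact mul_mem (mul_mem (mul_mem hm hn) (inv_mem hm)) (inv_mem hn)
  · exact Or.inl (le_antisymm (fun g hg => ⟨overgroup hl hσ hN hMS hno hg, hMS hg⟩) hM)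

end CfsgLib.Geo.NineU
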