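/-
The geometric maximal subgroups of the unitary group in dimension nine, other than the
normalisers of symplectic type groups.
-/
import Cfsg.Agent.Lib.Geo.UnitMaximal
import Cfsg.Agent.Lib.Geo.UnitDecomp.Matrix
import Cfsg.Agent.Lib.Geo.UnitSubfieldGL
import Cfsg.Agent.Lib.Geo.UnitaryOrthSubfield
import Cfsg.Agent.Lib.Geo.UnitFieldExt.Matrix
import Cfsg.Agent.Lib.Geo.UnitWreath.Final
import Cfsg.Prelude.Def_GeometricClasses

set_option autoImplicit false

namespace CfsgLib.Geo.NineU.Other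

open Cfsg.Geo

variable {F : Type*} [Field F] [Fintype F] {q : ℕ}

/-- Totally singular subspaces. -/
theorem singular (hF : Fintype.card F = q ^ 2) (W : Submodule F (Fin 9 → F)) (hW0 : W ≠ ⊥)
    (hW : IsTotallySingularFor (Cfsg.hermForm 9 F q) W) :
    IsMaximalIn (Cfsg.GU 9 F q ⊓ specialLinear (Fin 9) F)
      (subspaceStabilizer W ⊓ (Cfsg.GU 9 F q ⊓ specialLinear (Fin 9) F)) :=
  CfsgLib.Geo.UnitMax.isMaximalIn_GU hF W (CfsgLib.Geo.UnitMax.isMaximalIn_singular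
    (CfsgLib.Classical.Herm.hermStd_isHerm hF) (by rw [CfsgLib.Classical.Herm.finrank_std]; omega) hW0
    (fun u hu v hv => hW v hv u hu)
    (fun x hx => CfsgLib.Geo.UnitMax.mem_of_orth_orth _ hx))

/-- Non-degenerate subspaces. -/
theorem nondeg (hF : Fintype.card F = q ^ 2) (W : Submodule F (Fin 9 → F)) (hW0 : W ≠ ⊥)
    (hW : IsNondegenerateOn (Cfsg.hermForm 9 F q) W) (hdim : 2 * Module.finrank F W < 9) :
    IsMaximalIn (Cfsg.GU 9 F q ⊓ specialLinear (Fin 9) F)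
      (subspaceStabilizer W ⊓ (Cfsg.GU 9 F q ⊓ specialLinear (Fin 9) F)) := by
  refine CfsgLib.Geo.UnitMax.isMaximalIn_GU hF W (CfsgLib.Geo.UnitMax.isMaximalIn_nondeg
    (CfsgLib.Classical.Herm.hermStd_isHerm hF) (by rw [CfsgLib.Classical.Herm.finrank_std]; omega) hW0
    ?_ (by rwa [CfsgLib.Classical.Herm.finrank_std]))
  intro x hx hy
  by_contra h0
  obtain ⟨⟨v, hv, hv'⟩, -⟩ := hW x hx h0
  exact hv' ((CfsgLib.Classical.Herm.hermStd_apply hF x v).symm.trans (hy v hv))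

/-- Nine orthogonal lines. -/
theorem lines (hF : Fintype.card F = q ^ 2) (D : Fin 9 → Submodule F (Fin 9 → F))
    (hD : IsNondegenerateMDecomposition (Cfsg.hermForm 9 F q) 1 D) :
    IsMaximalIn (Cfsg.GU 9 F q ⊓ specialLinear (Fin 9) F)
      (decompositionStabilizer D ⊓ (Cfsg.GU 9 F q ⊓ specialLinear (Fin 9) F)) :=
  CfsgLib.Geo.UnitDecomp.decomp_maximal hF (by omega) (by omega) hD (by omega)

/-- Three orthogonal three-spaces. -/
theorem planes (hF : Fintype.card F = q ^ 2) (D : Fin 3 → Submodule F (Fin 9 → F))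
    (hD : IsNondegenerateMDecomposition (Cfsg.hermForm 9 F q) 3 D) :
    IsMaximalIn (Cfsg.GU 9 F q ⊓ specialLinear (Fin 9) F)
      (decompositionStabilizer D ⊓ (Cfsg.GU 9 F q ⊓ specialLinear (Fin 9) F)) :=
  CfsgLib.Geo.UnitDecomp.decomp_maximal hF (by omega) (by omega) hD (by omega)

/-- Subfields of degree three of the matrix algebra. -/
theorem fieldExt (hF : Fintype.card F = q ^ 2) (K : Subalgebra F (Matrix (Fin 9) (Fin 9) F))
    (hK : IsFieldSubalgebra 3 K) (hac : IsAdjointClosedFor (Cfsg.hermForm 9 F q) K) :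
    IsMaximalIn (Cfsg.GU 9 F q ⊓ specialLinear (Fin 9) F)
      (subalgebraNormalizer K ⊓ (Cfsg.GU 9 F q ⊓ specialLinear (Fin 9) F)) :=
  CfsgLib.Geo.UnitFieldExt.isMaximalIn_of hF (m := 3) rfl (Or.inl ⟨rfl, Or.inr le_rfl⟩) K hK hac

/-- Subfield groups of odd prime index. -/
theorem subfield (hF : Fintype.card F = q ^ 2) (F₀ : Subfield F) (r : ℕ) (P : Matrix.GeneralLinearGroup (Fin 9) F)
    (hr : r.Prime) (hro : Odd r) (hcard : Fintype.card F = Nat.card F₀ ^ r)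
    (hP : IsFormRationalStructure (Cfsg.hermForm 9 F q) F₀ 1 P) :
    IsMaximalIn (Cfsg.GU 9 F q ⊓ specialLinear (Fin 9) F)
      (subfieldSubgroup F₀ P ⊓ (Cfsg.GU 9 F q ⊓ specialLinear (Fin 9) F)) :=
  CfsgLib.Geo.UnitSub.isMaximalIn_subfield hF (by omega) F₀ hr hro hcard P hP

/-- Subfield groups of orthogonal type. -/
theorem orthSubfield (hF : Fintype.card F = q ^ 2) (hodd : Odd q) (F₀ : Subfield F)
    (P : Matrix.GeneralLinearGroup (Fin 9) F) (hcard : Fintype.card F = Nat.card F₀ ^ 2)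
    (hP : IsFormRationalStructure (Cfsg.hermForm 9 F q) F₀ 1 P) :
    IsMaximalIn (Cfsg.GU 9 F q ⊓ specialLinear (Fin 9) F)
      (subfieldSubgroup F₀ P ⊓ (Cfsg.GU 9 F q ⊓ specialLinear (Fin 9) F)) :=
  CfsgLib.Geo.UnitOrthSub.isMaximalIn_subfield hF (by omega) hodd F₀ hcard P hP

/-- Stabilisers of tensor squares. -/
theorem tensorWreath (hF : Fintype.card F = q ^ 2) (hq : 3 ≤ q) (e : Fin 9 ≃ (Fin 2 → Fin 3))
    (P : Matrix.GeneralLinearGroup (Fin 9) F) (f₁ : (Fin 3 → F) → (Fin 3 → F) → F)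
    (hf₁ : IsUnitaryFormPow q f₁)
    (hT : IsTensorPowerFormStructure (fun x : F => x ^ q) (Cfsg.hermForm 9 F q) f₁ e P) :
    IsMaximalIn (Cfsg.GU 9 F q ⊓ specialLinear (Fin 9) F)
      (tensorWreathSubgroup 3 2 e P ⊓ (Cfsg.GU 9 F q ⊓ specialLinear (Fin 9) F)) :=
  CfsgLib.Geo.UnitWreath.maximal hF le_rfl le_rfl (by omega) e P f₁ hf₁ hT

end CfsgLib.Geo.NineU.Other
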