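import Cfsg.Agent.Lib.Geo.NineU.SUFacts
import Cfsg.Agent.Lib.Geo.UnitDecomp.Matrix

/-!
# Coordinate decompositions in the unitary group on nine coordinates
-/

set_option autoImplicit false
set_option maxHeartbeats 1000000

namespace CfsgLib.Geo.NineU

open Matrix Cfsg.Geo
open CfsgLib.Geo.Nine (I9)
open CfsgLib.Geo.Asch (IsQPow)

variable {F : Type*} [Field F] {σ : F ≃+* F} {p : ℕ}

local notation "G9" => GL I9 F
local notation "M9" => Matrix I9 I9 F

/-- The numbering of the nine indices. -/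
def e9 : I9 ≃ Fin 9 := finProdFinEquiv (m := 3) (n := 3)

/-- The nine coordinates numbered. -/
def E9 : GL I9 F ≃* GL (Fin 9) F := Cfsg.Geo.glReindex e9

theorem E9_apply (g : G9) (r c : Fin 9) :
    ((E9 g : GL (Fin 9) F) : Matrix (Fin 9) (Fin 9) F) r c = (g : M9) (e9.symm r) (e9.symm c) := rfl

theorem E9_val (g : G9) : ((E9 g : GL (Fin 9) F) : Matrix (Fin 9) (Fin 9) F) = Matrix.reindex e9 e9 (g : M9) := rfl

theorem E9_mem_U {g : G9} : (E9 g : GL (Fin 9) F) ∈ U σ (Fin 9) ↔ g ∈ U σ I9 := by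
  rw [mem_U, mem_U]
  have e : ((E9 g : GL (Fin 9) F) : Matrix (Fin 9) (Fin 9) F)ᵀ *
      ((E9 g : GL (Fin 9) F) : Matrix (Fin 9) (Fin 9) F).map σ = Matrix.reindex e9 e9 ((g : M9)ᵀ * (g : M9).map σ) := by
    rw [E9_val, Matrix.transpose_reindex]
    simp only [Matrix.reindex_apply]
    rw [show ((g : M9).submatrix e9.symm e9.symm).map σ = ((g : M9).map σ).submatrix e9.symm e9.symm from rfl,
      Matrix.submatrix_mul_equiv]
  rw [e]
  constructor
  · intro h
    exact (Matrix.reindex e9 e9).injective (h.trans (by simp))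
  · intro h; rw [h]; simp

theorem E9_mem_SL {g : G9} : (E9 g : GL (Fin 9) F) ∈ specialLinear (Fin 9) F ↔ g ∈ specialLinear I9 F := by
  show Matrix.GeneralLinearGroup.det (E9 g) = 1 ↔ Matrix.GeneralLinearGroup.det g = 1
  rw [Units.ext_iff, Units.ext_iff, Matrix.GeneralLinearGroup.val_det_apply, Matrix.GeneralLinearGroup.val_det_apply,
    E9_val, Matrix.det_reindex_self]

theorem SUn_map : (SUn σ I9).map (E9 (F := F)).toMonoidHom = SUn σ (Fin 9) := by
  ext g
  rw [Subgroup.mem_map_equiv]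
  constructor
  · intro h
    have h' := Subgroup.mem_inf.1 h
    exact Subgroup.mem_inf.2 ⟨by simpa using E9_mem_U.2 h'.1, by simpa using E9_mem_SL.2 h'.2⟩
  · intro h
    have h' := Subgroup.mem_inf.1 h
    exact Subgroup.mem_inf.2 ⟨E9_mem_U.1 (by simpa using h'.1), E9_mem_SL.1 (by simpa using h'.2)⟩

variable [Fintype F]

/-- A subgroup containing a coordinate decomposition stabiliser and another element is everything. -/
theorem su_le_of_shape (hσ : Fld σ p) {t k : ℕ} (ht : 2 ≤ t) (hk : 0 < k) (h7 : ¬ (k = 2 ∧ p = 2))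
    (ℓ : I9 → Fin t) (hfib : ∀ i, (Finset.univ.filter fun x => ℓ x = i).card = k) {M : Subgroup G9}
    (hsh : ∀ g ∈ SUn σ I9, ∀ π : Equiv.Perm (Fin t), (∀ r c, (g : M9) r c ≠ 0 → ℓ r = π (ℓ c)) → g ∈ M)
    {b : G9} (hbM : b ∈ M) (hbS : b ∈ SUn σ I9) {r r' c c' : I9} (hr : (b : M9) r c ≠ 0) (hr' : (b : M9) r' c' ≠ 0)
    (hc : ℓ c = ℓ c') (hne : ℓ r ≠ ℓ r') : SUn σ I9 ≤ M := by
  classical
  have hF : Fintype.card F = p ^ 2 := by rw [← Nat.card_eq_fintype_card]; exact hσ.card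
  let D : Fin t → Submodule F (Fin 9 → F) := fun i =>
    { carrier := {v | ∀ y, ℓ (e9.symm y) ≠ i → v y = 0}
      add_mem' := fun {a b} ha hb y hy => by simp [ha y hy, hb y hy]
      zero_mem' := fun y _ => rfl
      smul_mem' := fun c {a} ha y hy => by simp [ha y hy] }
  have memD : ∀ {i v}, v ∈ D i ↔ ∀ y, ℓ (e9.symm y) ≠ i → v y = 0 := Iff.rfl
  have single_mem : ∀ (y : Fin 9) (a : F), Pi.single y a ∈ D (ℓ (e9.symm y)) := fun y a z hz =>
    Pi.single_eq_of_ne (fun e => hz (by rw [e])) _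
  have hdec : IsMDecomposition k D := by
    refine ⟨ht, hk, fun i => ?_, ?_, eq_top_iff.2 fun v _ => ?_⟩
    · let L : D i ≃ₗ[F] ({y : Fin 9 // ℓ (e9.symm y) = i} → F) :=
        { toFun := fun v y => (v : Fin 9 → F) y
          map_add' := fun _ _ => rfl
          map_smul' := fun _ _ => rfl
          invFun := fun w => ⟨fun y => if h : ℓ (e9.symm y) = i then w ⟨y, h⟩ else 0, fun y hy => dif_neg hy⟩
          left_inv := fun v => Subtype.ext (funext fun y => by
            by_cases h : ℓ (e9.symm y) = i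
            · simp [h]
            · simp [h, v.2 y h])
          right_inv := fun w => funext fun y => by simp [y.2] }
      rw [L.finrank_eq, Module.finrank_fintype_fun_eq_card, ← hfib i, ← Fintype.card_subtype]
      exact Fintype.card_congr (e9.symm.subtypeEquiv fun _ => Iff.rfl)
    · refine iSupIndep_def.2 fun i => Submodule.disjoint_def.2 fun v hv hv' => funext fun y => ?_
      by_cases h : ℓ (e9.symm y) = i
      · have hle : (⨆ j, ⨆ (_ : j ≠ i), D j) ≤ LinearMap.ker (LinearMap.proj (R := F) (φ := fun _ : Fin 9 => F) y) :=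
          iSup₂_le fun j hj w hw => LinearMap.mem_ker.2 (hw y (h ▸ hj.symm))
        exact LinearMap.mem_ker.1 (hle hv')
      · exact hv y h
    · rw [← Finset.univ_sum_single v]
      exact Submodule.sum_mem _ fun y _ => Submodule.mem_iSup_of_mem _ (single_mem y _)
  have hD : IsNondegenerateMDecomposition (Cfsg.hermForm 9 F p) k D := by
    refine ⟨hdec, fun i w hw hw0 => ?_, fun i j hij u hu v hv => ?_⟩
    · obtain ⟨y, hy⟩ := Function.ne_iff.1 hw0
      have hyi : ℓ (e9.symm y) = i := by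
        by_contra h; exact hy (hw y h)
      refine ⟨⟨Pi.single y 1, hyi ▸ single_mem y 1, ?_⟩, ⟨Pi.single y 1, hyi ▸ single_mem y 1, ?_⟩⟩
      · rw [CfsgLib.Geo.Asch.hermForm_eq hσ.qpow]
        simpa [dotProduct, Pi.single_apply] using hy
      · rw [CfsgLib.Geo.Asch.hermForm_eq hσ.qpow]
        simpa [dotProduct, Pi.single_apply, apply_ite σ] using hy
    · rw [CfsgLib.Geo.Asch.hermForm_eq hσ.qpow]
      refine Finset.sum_eq_zero fun y _ => ?_
      by_cases h : ℓ (e9.symm y) = i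
      · simp [hv y (h ▸ hij)]
      · simp [hu y h]
  have hmax := CfsgLib.Geo.UnitDecomp.decomp_maximal hF (by norm_num) (fun _ => Or.inr (by norm_num)) hD h7
  rw [GU_eq hσ.qpow, show U σ (Fin 9) ⊓ specialLinear (Fin 9) F = SUn σ (Fin 9) from rfl] at hmax
  have shape : ∀ g : G9, E9 g ∈ decompositionStabilizer D →
      ∃ π : Equiv.Perm (Fin t), ∀ r c, (g : M9) r c ≠ 0 → ℓ r = π (ℓ c) := by
    rintro g ⟨π, hπ⟩
    refine ⟨π, fun r c hrc => ?_⟩
    by_contra hne'
    have h1 : Matrix.toLin' ((E9 g : GL (Fin 9) F) : Matrix (Fin 9) (Fin 9) F) (Pi.single (e9 c) 1) ∈ D (π (ℓ c)) := by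
      rw [← hπ]
      exact Submodule.mem_map_of_mem (by simpa using single_mem (e9 c) 1)
    have h2 := h1 (e9 r) (by simpa using hne')
    rw [Matrix.toLin'_apply, Matrix.mulVec_single] at h2
    simp [E9_apply] at h2
    exact hrc h2
  have hle : decompositionStabilizer D ⊓ SUn σ (Fin 9) ≤ (M ⊓ SUn σ I9).map (E9 (F := F)).toMonoidHom := by
    intro g hg
    obtain ⟨hg1, hg2⟩ := Subgroup.mem_inf.1 hg
    rw [← SUn_map (σ := σ)] at hg2
    obtain ⟨y, hy, rfl⟩ := hg2
    obtain ⟨π, hπ⟩ := shape y hg1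
    exact ⟨y, Subgroup.mem_inf.2 ⟨hsh y hy π hπ, hy⟩, rfl⟩
  rcases hmax.2 ((M ⊓ SUn σ I9).map (E9 (F := F)).toMonoidHom) hle
      (SUn_map (σ := σ) (F := F) ▸ Subgroup.map_mono inf_le_right) with h | h
  · exfalso
    have hb : E9 b ∈ decompositionStabilizer D :=
      (Subgroup.mem_inf.1 (h.le ⟨b, Subgroup.mem_inf.2 ⟨hbM, hbS⟩, rfl⟩)).1
    obtain ⟨π, hπ⟩ := shape b hb
    exact hne ((hπ _ _ hr).trans ((congrArg π hc).trans (hπ _ _ hr').symm))
  · intro g hg
    have : E9 g ∈ (M ⊓ SUn σ I9).map (E9 (F := F)).toMonoidHom := by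
      rw [h, ← SUn_map (σ := σ)]
      exact Subgroup.mem_map_of_mem _ hg
    obtain ⟨y, hy, e⟩ := this
    rw [show y = g from E9.injective e] at hy
    exact hy.1

end CfsgLib.Geo.NineU
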