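import Cfsg.Agent.Lib.Geo.NineU.Big
import Cfsg.Agent.Lib.Geo.NineU.Shape

/-!
# Independent block elements give the special unitary group
-/

set_option autoImplicit false
set_option maxHeartbeats 1000000

namespace CfsgLib.Geo.NineU

open Matrix Cfsg.Geo
open scoped commutatorElement
open CfsgLib.Geo.Extra27 (amat bmat jmat Heis)
open CfsgLib.Geo.SL3.Maximal
open CfsgLib.Geo.Nine
open CfsgLib.Geo.SympNorm (commute_scalar)

variable {F : Type*} [Field F] {l : F} {σ : F ≃+* F} {p : ℕ}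

local notation "M3" => Matrix (Fin 3) (Fin 3) F
local notation "G3" => GL (Fin 3) F
local notation "V3" => ZMod 3 × ZMod 3
local notation "M9" => Matrix I9 I9 F
local notation "G9" => GL I9 F

theorem pr_mul_apply (π : Equiv.Perm I9) (X : G9) (r c : I9) :
    ((pr π * X : G9) : M9) r c = (X : M9) (π.symm r) c := by
  rw [Units.val_mul, Matrix.mul_apply, Finset.sum_eq_single (π.symm r)]
  · simp [pr_apply]
  · intro x _ hx; simp [pr_apply, Ne.symm hx]
  · simp

theorem det_norm {ι : Type} [Fintype ι] [DecidableEq ι] {g : GL ι F} (hg : g ∈ U σ ι) :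
    (g : Matrix ι ι F).det * σ (g : Matrix ι ι F).det = 1 := by
  have h1 := congrArg Matrix.det (mem_U.1 hg)
  rwa [det_mul, det_transpose, det_one, ← RingEquiv.coe_toRingHom, ← RingHom.mapMatrix_apply, ← RingHom.map_det] at h1

/-- The diagonal element with one chosen entry. -/
def Dd (δ : Fˣ) : G3 :=
  Matrix.GeneralLinearGroup.mkOfDetNeZero (diagonal ![(δ : F), 1, 1]) (by simp [det_diagonal, Fin.prod_univ_three])

/-- The diagonal element with two inverse entries. -/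
def Sd (δ : Fˣ) : G3 :=
  Matrix.GeneralLinearGroup.mkOfDetNeZero (diagonal ![(δ : F), (δ⁻¹ : Fˣ), 1])
    (by simp [det_diagonal, Fin.prod_univ_three])

theorem det_Dd (δ : Fˣ) : ((Dd δ : G3) : M3).det = δ := by
  show (diagonal ![(δ : F), 1, 1]).det = _
  simp [det_diagonal, Fin.prod_univ_three]

theorem det_Sd (δ : Fˣ) : ((Sd δ : G3) : M3).det = 1 := by
  show (diagonal ![(δ : F), (δ⁻¹ : Fˣ), 1]).det = _
  simp [det_diagonal, Fin.prod_univ_three]

theorem Dd_mem_U {δ : Fˣ} (hδ : (δ : F) * σ δ = 1) : (Dd δ : G3) ∈ U σ (Fin 3) := by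
  rw [mem_U, show ((Dd δ : G3) : M3) = diagonal ![(δ : F), 1, 1] from rfl, diagonal_transpose,
    diagonal_map (map_zero σ), diagonal_mul_diagonal, ← diagonal_one]
  congr 1; funext i; fin_cases i <;> simp [hδ]

theorem Sd_mem_U {δ : Fˣ} (hδ : (δ : F) * σ δ = 1) : (Sd δ : G3) ∈ U σ (Fin 3) := by
  rw [mem_U, show ((Sd δ : G3) : M3) = diagonal ![(δ : F), (δ⁻¹ : Fˣ), 1] from rfl, diagonal_transpose,
    diagonal_map (map_zero σ), diagonal_mul_diagonal, ← diagonal_one]
  congr 1; funext i; fin_cases i <;> simp [hδ]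
  rw [← mul_inv, hδ, inv_one]

theorem line_eq (δ : Fˣ) :
    (sw * bd (Function.update (1 : Fin 3 → G3) 0 (Sd δ)) * sw⁻¹ : G9) = bd ![Dd δ, Dd δ⁻¹, 1] := Units.ext (by
  ext r c
  rw [sw, pr_conj, bd_apply, bd_apply]
  obtain ⟨j, u⟩ := r
  obtain ⟨j', u'⟩ := c
  fin_cases j <;> fin_cases u <;> fin_cases j' <;> fin_cases u' <;> simp [Dd, Sd, one_apply])

/-- The twisted reflection restricted to a line. -/
def Am (μ ν : F) (h : μ * ν = 1) (h2 : (2 : F) ≠ 0) : G3 :=
  ⟨!![1, 0, 0; 0, (μ + 1) / 2, (1 - μ) / 2; 0, (1 - μ) / 2, (μ + 1) / 2],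
   !![1, 0, 0; 0, (ν + 1) / 2, (1 - ν) / 2; 0, (1 - ν) / 2, (ν + 1) / 2],
   by ext i j; fin_cases i <;> fin_cases j <;> simp [Matrix.mul_apply, Fin.sum_univ_three] <;> grind,
   by ext i j; fin_cases i <;> fin_cases j <;> simp [Matrix.mul_apply, Fin.sum_univ_three] <;> grind⟩

theorem psi_diag_zero (μ ν : F) (h : μ * ν = 1) (h2 : (2 : F) ≠ 0) {e0 : G3}
    (he : (e0 : M3) = diagonal ![μ, 1, 1]) :
    (psi h2 e0 : G9) = sw * bd (Function.update (1 : Fin 3 → G3) 0 (Am μ ν h h2)) * sw⁻¹ := Units.ext (by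
  ext r c
  rw [sw, pr_conj, bd_apply, psi_val, he]
  obtain ⟨j, u⟩ := r
  obtain ⟨j', u'⟩ := c
  fin_cases j <;> fin_cases u <;> fin_cases j' <;> fin_cases u' <;>
    simp [Am, oU, oI, one_apply, Matrix.mul_apply, Fin.sum_univ_three, Prod.ext_iff, diagonal] <;>
    (try field_simp) <;> (try ring))

theorem psi_diag_one_comm (h2 : (2 : F) ≠ 0) (hl : IsPrimitiveRoot l 3) {ν : F} {e1 : G3}
    (he : (e1 : M3) = diagonal ![1, ν, 1]) {f : I9 → Fin 3} (hf : f (1, 1) = 0 ∧ f (2, 2) = 0) :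
    Commute (psi h2 e1 : G9) (dg hl f) := Units.ext (by
  ext r c
  simp only [Units.val_mul]
  rw [show ((dg hl f : G9) : M9) = diagonal fun x => l ^ (f x : ℕ) from rfl, mul_diagonal, diagonal_mul, psi_val, he]
  obtain ⟨hf1, hf2⟩ := hf
  have key : ∀ x : I9, oI x 1 ≠ 0 → x = (1, 1) ∨ x = (2, 2) := by clear * -; decide +kernel
  have hsup : ∀ x : I9, oI x 1 = 0 ∨ f x = 0 := fun x => by
    by_cases hx : oI x 1 = 0
    · exact Or.inl hx
    · rcases key x hx with rfl | rfl <;> exact Or.inr ‹_›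
  rw [Matrix.add_apply, Matrix.smul_apply, smul_eq_mul, one_apply]
  have e : ((oU : Matrix I9 (Fin 3) F) * ((diagonal ![1, ν, 1] : M3) - 1) * (oU : Matrix I9 (Fin 3) F)ᵀ : M9) r c =
      (oI r 1 : F) * (ν - 1) * (oI c 1 : F) := by
    simp [Matrix.mul_apply, Fin.sum_univ_three, oU, diagonal, one_apply]
  rw [e]
  rcases hsup r with h | h <;> rcases hsup c with h' | h' <;> simp only [h, h'] <;>
    by_cases hrc : r = c <;> simp [hrc] <;> subst hrc <;> simp_all)

theorem det_sw'' : ((sw' : G9) : M9).det = 1 := by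
  have : Equiv.Perm.sign (Equiv.prodComm (Fin 3) (Fin 3) : Equiv.Perm I9).symm = -1 := by
    clear * -; decide +kernel
  rw [sw', Units.val_neg, det_neg, sw, show ((pr (Equiv.prodComm (Fin 3) (Fin 3)) : G9) : M9) =
    (1 : M9).submatrix (Equiv.prodComm (Fin 3) (Fin 3) : Equiv.Perm I9).symm id from rfl, det_permute, det_one, this]
  norm_num

theorem det_SL9 {g : G9} (h : g ∈ specialLinear I9 F) : (g : M9).det = 1 := by
  simpa using congrArg Units.val (MonoidHom.mem_ker.1 h)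

variable (hl : IsPrimitiveRoot l 3) (hσ : Fld σ p)
include hl hσ
variable [Fintype F] {M : Subgroup (GL I9 F)}

theorem two_ne (h2 : p ≠ 2) : (2 : F) ≠ 0 := fun e => by
  have hc : ((Fintype.card F : ℕ) : F) = 0 := Nat.cast_card_eq_zero F
  rw [card_F hl hσ, Nat.cast_pow, sq_eq_zero_iff] at hc
  obtain ⟨k, hk⟩ := hσ.prime.odd_of_ne_two h2
  rw [hk, Nat.cast_add, Nat.cast_mul, Nat.cast_ofNat, e, zero_mul, zero_add, Nat.cast_one] at hc
  exact one_ne_zero hc

theorem two_zero (h2 : p = 2) : (2 : F) = 0 := by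
  have hc : ((Fintype.card F : ℕ) : F) = 0 := Nat.cast_card_eq_zero F
  rw [card_F hl hσ, h2, Nat.cast_pow, sq_eq_zero_iff] at hc
  exact_mod_cast hc

theorem sw'_mem_SU : (sw' : G9) ∈ SUn σ I9 := by
  refine Subgroup.mem_inf.2 ⟨?_, MonoidHom.mem_ker.2 (Units.ext (by
    rw [Matrix.GeneralLinearGroup.val_det_apply, Units.val_one]; exact det_sw''))⟩
  have h1 := mem_U.1 (pr_mem_U (σ := σ) (Equiv.prodComm (Fin 3) (Fin 3)))
  rw [mem_U, sw', Units.val_neg, Matrix.transpose_neg,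
    show (-((sw : G9) : M9)).map σ = -(((sw : G9) : M9).map σ) from Matrix.ext fun r c => map_neg σ _, neg_mul_neg]
  exact h1

theorem neg_one_mem (h : Ctx hl M) : (SympNorm.sc (-1) (neg_ne_zero.2 one_ne_zero) : G9) ∈ M :=
  h.sc (SympNorm.sc_mem _ _)

theorem sw'_mem (h : Ctx hl M) : (sw' : G9) ∈ M := by
  have e : (sw' : G9) = SympNorm.sc (-1) (neg_ne_zero.2 one_ne_zero) * sw := Units.ext (by
    simp [sw', SympNorm.sc])
  rw [e]
  exact mul_mem (neg_one_mem hl hσ h) (h.sw_mem hl)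

/-- The three special unitary groups on the blocks give everything. -/
theorem su_of_block_su (h : Ctx hl M)
    (hs : ∀ i : Fin 3, ∀ x ∈ SUn σ (Fin 3), (bd (Function.update (1 : Fin 3 → G3) i x) : G9) ∈ M) :
    SUn σ I9 ≤ M := by
  classical
  have hsall : ∀ s : Fin 3 → G3, (∀ i, s i ∈ SUn σ (Fin 3)) → (bd s : G9) ∈ M := fun s hsU => by
    rw [update_prod hl s, map_mul, map_mul]
    exact mul_mem (mul_mem (hs _ _ (hsU _)) (hs _ _ (hsU _))) (hs _ _ (hsU _))
  have hline : ∀ δ : Fˣ, (δ : F) * σ δ = 1 → (bd ![Dd δ, Dd δ⁻¹, 1] : G9) ∈ M := fun δ hδ => by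
    rw [← line_eq]
    exact mul_mem (mul_mem (h.sw_mem hl) (hs 0 _ (Subgroup.mem_inf.2 ⟨Sd_mem_U hδ,
      MonoidHom.mem_ker.2 (Units.ext (det_Sd δ))⟩))) (inv_mem (h.sw_mem hl))
  have hblocks : ∀ f : Fin 3 → G3, (∀ i, f i ∈ U σ (Fin 3)) → ∏ i, (f i : M3).det = 1 → (bd f : G9) ∈ M := by
    intro f hf hd
    let δ : Fin 3 → Fˣ := fun i => Matrix.GeneralLinearGroup.det (f i)
    have hδ : ∀ i, ((δ i : Fˣ) : F) * σ (δ i : F) = 1 := fun i => det_norm (hf i)
    have hδ01 : ((δ 0 * δ 1 : Fˣ) : F) * σ ((δ 0 * δ 1 : Fˣ) : F) = 1 := by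
      rw [Units.val_mul, map_mul, mul_mul_mul_comm, hδ, hδ, one_mul]
    have hinv : ∀ {u : Fˣ}, (u : F) * σ u = 1 → ((u⁻¹ : Fˣ) : F) * σ ((u⁻¹ : Fˣ) : F) = 1 := fun {u} hu => by
      rw [Units.val_inv_eq_inv_val, map_inv₀, ← mul_inv, hu, inv_one]
    set a : Fin 3 → G3 := ![Dd (δ 0), Dd (δ 0)⁻¹, 1] with ha
    set b : Fin 3 → G3 := fun i => (![Dd (δ 0 * δ 1), Dd (δ 0 * δ 1)⁻¹, 1] : Fin 3 → G3) (i + 2) with hb
    have haM : (bd a : G9) ∈ M := hline _ (hδ 0)
    have hbM : (bd b : G9) ∈ M := h.shift_mem hl (hline _ hδ01) 2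
    have hab : ∀ i, a i * b i ∈ U σ (Fin 3) := by
      intro i
      fin_cases i <;> simp [a, b] <;>
        first
          | exact Dd_mem_U (hδ 0)
          | exact Dd_mem_U (hinv hδ01)
          | exact mul_mem (Dd_mem_U (hinv (hδ 0))) (Dd_mem_U hδ01)
    have hdet : ∀ i, Matrix.GeneralLinearGroup.det (a i * b i) = δ i := by
      have hd' : δ 0 * δ 1 * δ 2 = 1 := Units.ext (by
        rw [Fin.prod_univ_three] at hd
        simpa [δ] using hd)
      have dD : ∀ u : Fˣ, Matrix.GeneralLinearGroup.det (Dd u : G3) = u := fun u => Units.ext (det_Dd u)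
      intro i
      fin_cases i <;> simp [a, b, dD]
      rw [← _root_.mul_inv_rev, inv_eq_of_mul_eq_one_right]
      simpa using hd'
    have hs' := hsall (fun i => (a i * b i)⁻¹ * f i) fun i => Subgroup.mem_inf.2 ⟨mul_mem (inv_mem (hab i)) (hf i),
      MonoidHom.mem_ker.2 (by rw [map_mul, map_inv, hdet]; exact inv_mul_cancel (δ i))⟩
    have e : f = a * b * fun i => (a i * b i)⁻¹ * f i := by funext i; simp [Pi.mul_apply]; group
    rw [e, map_mul, map_mul]
    exact mul_mem (mul_mem haM hbM) hs'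
  have aff3 : ∀ π : Equiv.Perm (Fin 3), ∀ a b : Fin 3, π (a + b) + π 0 = π a + π b := by clear * -; decide +kernel
  refine su_le_of_shape hσ (t := 3) (k := 3) (by norm_num) (by norm_num) (by norm_num) (fun x => x.2)
    (by intro i; fin_cases i <;> rfl) (fun g hg π hπ => ?_) (sw'_mem hl hσ h) (sw'_mem_SU hl hσ)
    (r := (0, 0)) (c := (0, 0)) (r' := (0, 1)) (c' := (1, 0))
    (by rw [sw', Units.val_neg, Matrix.neg_apply, sw, pr_apply]; simp)
    (by rw [sw', Units.val_neg, Matrix.neg_apply, sw, pr_apply]; simp) rfl (by decide)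
  let ρ : Equiv.Perm I9 := Equiv.prodCongr (Equiv.refl _) π
  have hρ : IsAff ρ := fun x y => Prod.ext (by show x.1 + y.1 + 0 = x.1 + y.1; abel) (aff3 π _ _)
  have hρM : (pr ρ : G9) ∈ M := h.pr_mem hl hρ
  obtain ⟨hgU, hgS⟩ := Subgroup.mem_inf.1 hg
  set g' : G9 := (pr ρ)⁻¹ * g with hg'
  have hent : ∀ r c, (g' : M9) r c = (g : M9) (ρ r) c := fun r c => by
    rw [hg', ← map_inv, pr_mul_apply]; rfl
  have hdiag : ∀ r c, r.2 ≠ c.2 → (g' : M9) r c = 0 := fun r c hrc => by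
    by_contra hne
    rw [hent] at hne
    exact hrc (π.injective (hπ _ _ hne))
  have hgU' : g' ∈ U σ I9 := mul_mem (inv_mem (pr_mem_U ρ)) hgU
  suffices g' ∈ M by
    rw [show g = pr ρ * g' by rw [hg']; group]
    exact mul_mem hρM this
  have hd1 : (g' : M9).det = 1 ∨ (g' : M9).det = -1 := by
    rw [hg', Units.val_mul, det_mul, ← map_inv, det_SL9 hgS, mul_one]
    exact det_pr _
  obtain ⟨z, hzM, hzU, hzd⟩ : ∃ z : G9, z ∈ scalars I9 F ∧ z ∈ U σ I9 ∧ (z : M9).det * (g' : M9).det = 1 := by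
    rcases hd1 with e | e
    · exact ⟨1, one_mem _, one_mem _, by rw [Units.val_one, det_one, e, one_mul]⟩
    · refine ⟨SympNorm.sc (-1) (neg_ne_zero.2 one_ne_zero), SympNorm.sc_mem _ _, ?_, ?_⟩
      · rw [mem_U]
        ext r c
        simp [SympNorm.sc, Matrix.mul_apply, one_apply, apply_ite σ]
      · show ((-1 : F) • (1 : M9)).det * _ = 1
        rw [det_smul, det_one, mul_one, e, Fintype.card_prod]; norm_num
  have hcomm : Commute (z * g') (tB (aG hl)) := by
    refine ((commute_scalar hzM _)).mul_left (Units.ext ?_)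
    rw [tB_aG]
    ext r c
    simp only [Units.val_mul]
    show ((g' : M9) * (diagonal fun x : I9 => l ^ (x.2 : ℕ))) r c = ((diagonal fun x : I9 => l ^ (x.2 : ℕ)) * (g' : M9)) r c
    rw [mul_diagonal, diagonal_mul]
    by_cases hrc : r.2 = c.2
    · rw [hrc, mul_comm]
    · simp [hdiag r c hrc]
  obtain ⟨f, hf⟩ := exists_bd hl hcomm
  have hfM : (bd f : G9) ∈ M := hblocks f (fun i => of_bd_mem_U (hf ▸ mul_mem hzU hgU') i) (by
    rw [← det_bd, ← hf, Units.val_mul, det_mul, hzd])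
  rw [show g' = z⁻¹ * (z * g') by group, hf]
  exact mul_mem (h.sc (inv_mem hzM)) hfM

/-- A block element outside the small normaliser gives everything. -/
theorem su_of_block_big (h : Ctx hl M) (hM : M ≤ Sim σ I9) {f₀ : Fin 3 → G3} (hf₀ : (bd f₀ : G9) ∈ M)
    (hne : f₀ 0 ∉ subgroupNormalizer (H3 hl)) : SUn σ I9 ≤ M := by
  classical
  have h2 : p ≠ 2 := fun e => hne (sim_le_normalizer_two hl hσ e (of_bd_mem_Sim (hM hf₀) 0))
  have hex : 3 = 3 → p ≠ 2 := fun _ => h2
  let P : Subgroup G3 := (M.comap bd).map (Pi.evalMonoidHom (fun _ : Fin 3 => G3) 0)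
  have memc : ∀ k : G3, k ∈ subgroupNormalizer (H3 hl) → (k : M3).det ^ 3 = 1 → k ∈ P := fun k hk dk =>
    ⟨fun _ => k, Subgroup.mem_comap.2 ((bd_const (F := F) k).symm ▸ h.tA_mem hl hk dk), rfl⟩
  have hN : subgroupNormalizer (H3 hl) ≤ P := Nine.normalizer_le hl
    (memc _ (fG_mem hl).1 (by simp [det_one_of_mem (fG_mem hl).2])) (memc _ (dG_mem hl) (det_dG hl))
    (memc _ (h3_le hl (std hl).aR) (by rw [show ((aG hl : G3) : M3).det = 1 from det_H3 hl (std hl).aR, one_pow]))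
    (memc _ (h3_le hl (std hl).bR) (by rw [show ((bG hl : G3) : M3).det = 1 from det_H3 hl (std hl).bR, one_pow]))
    fun c hc => ⟨fun _ => c, Subgroup.mem_comap.2 ((bd_const (F := F) c).symm ▸ h.sc (tA_scalars hc)), rfl⟩
  have hPS : P ≤ Sim σ (Fin 3) := by
    rintro _ ⟨f, hf, rfl⟩
    exact of_bd_mem_Sim (hM hf) 0
  have hP : SUn σ (Fin 3) ≤ P := bigU hl hσ hPS hN fun hle => hne (hle ⟨f₀, hf₀, rfl⟩)
  have hall : ∀ (k : Fin 3) (x : G3), x ∈ SUn σ (Fin 3) → ∃ f, (bd f : G9) ∈ M ∧ f k = x := fun k x hx => by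
    obtain ⟨f, hf, e⟩ := hP hx
    exact ⟨_, h.shift_mem hl (f := f) hf (-k), by simpa using e⟩
  have hK : ∀ i k : Fin 3, i ≠ k → ∀ x ∈ SUn σ (Fin 3),
      ∃ f, (bd f : G9) ∈ M ∧ f i ∈ scalars (Fin 3) F ∧ f k = x := by
    intro i k hik
    let E : Subgroup (Fin 3 → G3) :=
      M.comap bd ⊓ (scalars (Fin 3) F).comap (Pi.evalMonoidHom (fun _ : Fin 3 => G3) i)
    let K : Subgroup G3 := E.map (Pi.evalMonoidHom (fun _ : Fin 3 => G3) k)
    have hKn : ∀ g ∈ SUn σ (Fin 3), ∀ y ∈ K, g * y * g⁻¹ ∈ K := by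
      rintro g hg _ ⟨f, hf, rfl⟩
      obtain ⟨g', hg', rfl⟩ := hall k g hg
      refine ⟨g' * f * g'⁻¹, Subgroup.mem_inf.2 ⟨?_, ?_⟩, rfl⟩
      · rw [Subgroup.mem_comap, map_mul, map_mul, map_inv]
        exact mul_mem (mul_mem hg' hf.1) (inv_mem hg')
      · exact (scalars_normal (ι := Fin 3) (F := F)).conj_mem _ hf.2 (g' i)
    set e := ((k - i : Fin 3) : ℕ) with he
    set r := fG hl * aG hl ^ e * (fG hl)⁻¹ * (aG hl ^ e)⁻¹ with hr
    have hfM : (tA (fG hl) : G9) ∈ M := h.tA_mem hl (fG_mem hl).1 (by simp [det_one_of_mem (fG_mem hl).2])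
    have hrK : r ∈ K := by
      refine ⟨(fun _ => fG hl) * (fun j => aG hl ^ ((j - i : Fin 3) : ℕ)) * (fun _ => fG hl)⁻¹ *
        (fun j => aG hl ^ ((j - i : Fin 3) : ℕ))⁻¹, Subgroup.mem_inf.2 ⟨?_, ?_⟩, rfl⟩
      · rw [Subgroup.mem_comap, map_mul, map_mul, map_mul, map_inv, map_inv, bd_const]
        exact mul_mem (mul_mem (mul_mem hfM (h.sa_mem hl i).1) (inv_mem hfM)) (inv_mem (h.sa_mem hl i).1)
      · rw [Subgroup.mem_comap]
        show fG hl * aG hl ^ ((i - i : Fin 3) : ℕ) * (fG hl)⁻¹ * (aG hl ^ ((i - i : Fin 3) : ℕ))⁻¹ ∈ _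
        simp
    have ha : aG hl ∈ SUn σ (Fin 3) := h3_le_SU hl hσ (std hl).aR
    have hfS : fG hl ∈ SUn σ (Fin 3) := q8_le_SU hl hσ (fG_Q8 hl)
    have hrS : r ∈ SUn σ (Fin 3) := mul_mem (mul_mem (mul_mem hfS (pow_mem ha e)) (inv_mem hfS)) (inv_mem (pow_mem ha e))
    have hns : r ∉ scalars (Fin 3) F := fun hs => by
      have h1 := (rel_a (h := std hl)).pow e
      have h3 := (rel_av hl (fG_mem hl).1 h1).mul h1.inv
      rw [chi_fG] at h3
      have := h3.unique (Rel.of_scalar hs)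
      have key : ∀ i k : Fin 3, i ≠ k →
          av cf (((k - i : Fin 3) : ℕ) • ((0 : ZMod 3), (1 : ZMod 3))) + -(((k - i : Fin 3) : ℕ) • ((0 : ZMod 3), (1 : ZMod 3))) ≠ 0 := by
        clear * -; decide +kernel
      exact key i k hik this
    intro x hx
    obtain ⟨f, hf, e'⟩ := su_le_of_normalized hσ.qpow (card_F hl hσ) le_rfl hex hKn hrK
      (U_le_Sim _ _ hrS.1) hns hx
    exact ⟨f, hf.1, hf.2, e'⟩
  refine su_of_block_su hl hσ h fun i x hx => ?_
  let E1 : Subgroup G3 := (M.comap bd).comap (MonoidHom.mulSingle (fun _ : Fin 3 => G3) 1)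
  have hx1 : x ∈ E1 := by
    refine (Subgroup.commutator_le.2 fun a ha b hb => ?_) (SUn_le_commutator hσ.qpow (card_F hl hσ) le_rfl hex hx)
    obtain ⟨f, hf, hf0, hf1⟩ := hK 0 1 (by decide) a ha
    obtain ⟨f', hf', hf2', hf1'⟩ := hK 2 1 (by decide) b hb
    have hm : (bd ⁅f, f'⁆ : G9) ∈ M := by
      rw [commutatorElement_def, map_mul, map_mul, map_mul, map_inv, map_inv]
      exact mul_mem (mul_mem (mul_mem hf hf') (inv_mem hf)) (inv_mem hf')
    show (bd (Pi.mulSingle 1 ⁅a, b⁆) : G9) ∈ M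
    convert hm using 2
    funext j
    rw [commutatorElement_def, commutatorElement_def]
    fin_cases j
    · simp [(commute_scalar hf0 (f' 0)).eq]
    · simp [hf1, hf1']
    · simp [(commute_scalar hf2' (f 2)).symm.eq]
  have := h.shift_mem hl (f := Pi.mulSingle 1 x) hx1 (1 - i)
  convert this using 2
  funext j
  show Function.update (1 : Fin 3 → G3) i x j = Function.update (1 : Fin 3 → G3) 1 x (j + (1 - i))
  have key : ∀ i j : Fin 3, j + (1 - i) = 1 ↔ j = i := by clear * -; decide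
  simp [Function.update_apply, key]

/-- Independent block elements in odd characteristic. -/
theorem su_of_blocks_odd (h : Ctx hl M) (hM : M ≤ Sim σ I9) (h2 : p ≠ 2)
    (hb : ∀ i : Fin 3, ∀ x ∈ H3 hl, (bd (Function.update (1 : Fin 3 → G3) i x) : G9) ∈ M) : SUn σ I9 ≤ M := by
  classical
  have t2 := two_ne hl hσ h2
  have hbd : ∀ f : Fin 3 → G3, (∀ i, f i ∈ H3 hl) → (bd f : G9) ∈ M := fun f hf => by
    rw [update_prod hl f, map_mul, map_mul]
    exact mul_mem (mul_mem (hb _ _ (hf _)) (hb _ _ (hf _))) (hb _ _ (hf _))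
  set K := M.comap (psi t2) with hK
  have hd : dD3 hl ∈ K := by
    rw [hK, Subgroup.mem_comap, psi_dD3 hl t2]
    exact h.dperm_mem hl (update_bd_eq_pr hl ▸ hb 0 _ (std hl).bR)
  have hnrm : ∀ f : Fin 3 → G3, bd f ∈ M → (∀ j k, (f 2 : M3) (-j) (-k) = (f 1 : M3) j k) →
      f 1 ∈ subgroupNormalizer K := fun f hfM hf => by
    refine Subgroup.mem_normalizer_iff.2 fun x => ?_
    rw [hK, Subgroup.mem_comap, Subgroup.mem_comap, ← psi_conj hl t2 hf, mul_mem_cancel_right (inv_mem hfM),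
      mul_mem_cancel_left hfM]
  have hconst : ∀ k : G3, k ∈ subgroupNormalizer (H3 hl) → (k : M3).det ^ 3 = 1 →
      (∀ i j, (k : M3) (-i) (-j) = (k : M3) i j) → k ∈ subgroupNormalizer K := fun k hk dk hkj =>
    hnrm (fun _ => k) ((bd_const (F := F) k).symm ▸ h.tA_mem hl hk dk) hkj
  have hNS : subgroupNormalizer (H3 hl) ≤ subgroupNormalizer K := by
    refine Nine.normalizer_le hl ?_ ?_ ?_ ?_ fun c hc => Subgroup.mem_normalizer_iff.2 fun x => by
      rw [(commute_scalar hc x).eq, mul_inv_cancel_right]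
    · refine hconst _ (fG_mem hl).1 (by simp [det_one_of_mem (fG_mem hl).2]) ?_
      intro i j; rw [fG_val]
      fin_cases i <;> fin_cases j <;> simp [fmat, show -(1 : Fin 3) = 2 by decide, show -(2 : Fin 3) = 1 by decide]
    · refine hconst _ (dG_mem hl) (det_dG hl) ?_
      intro i j
      show dmat l _ _ = dmat l _ _
      fin_cases i <;> fin_cases j <;> simp [dmat, show -(1 : Fin 3) = 2 by decide, show -(2 : Fin 3) = 1 by decide]
    · refine hnrm ![1, aG hl, aG hl * aG hl] (hbd _ fun i => ?_) ?_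
      · fin_cases i <;> simp <;> first | exact one_mem _ | exact (std hl).aR | exact mul_mem (std hl).aR (std hl).aR
      · intro i j
        show ((amat l * amat l : M3)) _ _ = amat l _ _
        fin_cases i <;> fin_cases j <;> simp [amat, show -(1 : Fin 3) = 2 by decide, show -(2 : Fin 3) = 1 by decide] <;>
          (have := hl.pow_eq_one; grind)
    · refine hnrm ![1, bG hl, bG hl * bG hl] (hbd _ fun i => ?_) ?_
      · fin_cases i <;> simp <;> first | exact one_mem _ | exact (std hl).bR | exact mul_mem (std hl).bR (std hl).bR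
      · intro i j
        show ((bmat * bmat : M3)) _ _ = bmat _ _
        fin_cases i <;> fin_cases j <;> simp [bmat, show -(1 : Fin 3) = 2 by decide, show -(2 : Fin 3) = 1 by decide]
  have hdS := dD3_mem_SU hσ hl
  have hSU : SUn σ (Fin 3) ≤ subgroupNormalizer K := by
    refine (bigU hl hσ (H := subgroupNormalizer K ⊓ Sim σ (Fin 3)) inf_le_right
      (le_inf hNS (normalizer_le_Sim hσ hl)) fun hle => ?_).trans inf_le_left
    exact dD3_not_mem hl t2 ((Subgroup.mem_normalizer_iff.1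
      (hle (Subgroup.mem_inf.2 ⟨Subgroup.le_normalizer hd, U_le_Sim _ _ hdS.1⟩)) _).1 (std hl).bR)
  have hns : dD3 hl ∉ scalars (Fin 3) F := fun hs =>
    dD3_not_mem hl t2 ((Subgroup.mem_normalizer_iff.1 (scalars_le_normalizer hl hs) _).1 (std hl).bR)
  have hKS : SUn σ (Fin 3) ≤ K := su_le_of_normalized hσ.qpow (card_F hl hσ) le_rfl (fun _ => h2)
    (fun g hg y hy => (Subgroup.mem_normalizer_iff.1 (hSU hg) y).1 hy) hd (U_le_Sim _ _ hdS.1) hns
  have hl0 : l ≠ 0 := hl.ne_zero (by norm_num)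
  have h3 : l * l ^ 2 = 1 := by rw [← pow_succ', hl.pow_eq_one]
  have hlσ : l * σ l = 1 := by rw [hσ.sig_root hl, h3]
  set u : Fˣ := Units.mk0 l hl0 with hu
  have hx : Sd u ∈ K := hKS (Subgroup.mem_inf.2 ⟨Sd_mem_U hlσ, MonoidHom.mem_ker.2 (Units.ext (det_Sd u))⟩)
  let e1 : G3 := Matrix.GeneralLinearGroup.mkOfDetNeZero (diagonal ![1, l ^ 2, 1]) (by
    simp [det_diagonal, Fin.prod_univ_three, hl0])
  have hsplit : Sd u = Dd u * e1 := Units.ext (by
    show (diagonal ![(u : F), (u⁻¹ : Fˣ), 1] : M3) = diagonal ![(u : F), 1, 1] * diagonal ![1, l ^ 2, 1]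
    rw [diagonal_mul_diagonal]
    congr 1; funext i; fin_cases i <;> simp [u]
    exact inv_eq_of_mul_eq_one_right h3)
  let φ : I9 → Fin 3 := fun x => if x = (0, 1) then 1 else if x = (0, 0) then 2 else 0
  have hdM : (dg hl φ : G9) ∈ M := h.phase_mem hl hb (by decide)
  let D : G3 := Matrix.GeneralLinearGroup.mkOfDetNeZero (diagonal ![l ^ 2, l, 1]) (by
    simp [det_diagonal, Fin.prod_univ_three, hl0])
  have hdeq : (dg hl φ : G9) = sw * bd (Function.update (1 : Fin 3 → G3) 0 D) * sw⁻¹ := Units.ext (by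
    ext r c
    rw [sw, pr_conj, bd_apply, dg_apply]
    obtain ⟨j, v⟩ := r
    obtain ⟨j', v'⟩ := c
    fin_cases j <;> fin_cases v <;> fin_cases j' <;> fin_cases v' <;> simp [φ, D, one_apply])
  set A := Am l (l ^ 2) h3 t2 with hA
  have hc : (psi t2 (Sd u) * dg hl φ * (psi t2 (Sd u))⁻¹ * (dg hl φ)⁻¹ : G9) ∈ M :=
    mul_mem (mul_mem (mul_mem hx hdM) (inv_mem hx)) (inv_mem hdM)
  have hf0 : (bd (Function.update (1 : Fin 3 → G3) 0 (A * D * A⁻¹ * D⁻¹)) : G9) ∈ M := by
    have hcm := psi_diag_one_comm t2 hl (e1 := e1) (ν := l ^ 2) rfl (f := φ) ⟨rfl, rfl⟩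
    have e : (psi t2 (Sd u) * dg hl φ * (psi t2 (Sd u))⁻¹ * (dg hl φ)⁻¹ : G9) =
        psi t2 (Dd u) * dg hl φ * (psi t2 (Dd u))⁻¹ * (dg hl φ)⁻¹ := by
      rw [hsplit, map_mul, _root_.mul_inv_rev, mul_assoc (psi t2 (Dd u)) (psi t2 e1), hcm.eq]
      group
    rw [e, psi_diag_zero l (l ^ 2) h3 t2 (e0 := Dd u) rfl, hdeq, ← hA] at hc
    have h1 := mul_mem (mul_mem (inv_mem (h.sw_mem hl)) hc) (h.sw_mem hl)
    convert h1 using 1
    have eu : ∀ a b : G3, (Function.update (1 : Fin 3 → G3) 0 (a * b)) =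
        Function.update (1 : Fin 3 → G3) 0 a * Function.update (1 : Fin 3 → G3) 0 b := fun a b => by
      funext j; fin_cases j <;> simp
    have ei : ∀ a : G3, (Function.update (1 : Fin 3 → G3) 0 a⁻¹) = (Function.update (1 : Fin 3 → G3) 0 a)⁻¹ := fun a => by
      funext j; fin_cases j <;> simp
    rw [eu, eu, eu, ei, ei, map_mul, map_mul, map_mul, map_inv, map_inv]
    group
  refine su_of_block_big hl hσ h hM hf0 ?_
  simp only [Function.update_self]
  set S := A * D * A⁻¹ * D⁻¹ with hS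
  intro hSN
  have dg3 : ∀ a b c : F, (diagonal ![a, b, c] : M3) = !![a, 0, 0; 0, b, 0; 0, 0, c] := fun a b c => by
    ext i j; fin_cases i <;> fin_cases j <;> simp [diagonal]
  have hDi : ((D⁻¹ : G3) : M3) = !![l, 0, 0; 0, l ^ 2, 0; 0, 0, 1] := by
    rw [← dg3]
    refine Units.inv_eq_of_mul_eq_one_right ?_
    show (diagonal ![l ^ 2, l, 1] : M3) * diagonal ![l, l ^ 2, 1] = 1
    rw [diagonal_mul_diagonal, ← diagonal_one]
    congr 1; funext i; fin_cases i <;> simp [h3, mul_comm (l ^ 2) l]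
  have hprod : (S : M3) =
      !![1, 0, 0; 0, (l + 1) / 2, (1 - l) / 2; 0, (1 - l) / 2, (l + 1) / 2] * !![l ^ 2, 0, 0; 0, l, 0; 0, 0, 1] *
      !![1, 0, 0; 0, (l ^ 2 + 1) / 2, (1 - l ^ 2) / 2; 0, (1 - l ^ 2) / 2, (l ^ 2 + 1) / 2] *
      !![l, 0, 0; 0, l ^ 2, 0; 0, 0, 1] := by
    rw [hS, Units.val_mul, Units.val_mul, Units.val_mul, hDi]
    congr 2
    exact congrArg _ (dg3 _ _ _)
  have hg := geom hl
  have hl3 := hl.pow_eq_one
  have hval : (S : M3) = !![1, 0, 0; 0, (S : M3) 1 1, (S : M3) 1 2; 0, (S : M3) 2 1, (S : M3) 2 2] := by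
    rw [hprod]
    ext i j
    fin_cases i <;> fin_cases j <;> simp [Matrix.mul_apply, Fin.sum_univ_three, h3, mul_comm (l ^ 2) l]
  have v11 : (S : M3) 1 1 = l ^ 2 * (l + 3) / 4 := by
    rw [hprod]; simp [Matrix.mul_apply, Fin.sum_univ_three]
    have h4 : (4 : F) ≠ 0 := by rw [show (4 : F) = 2 * 2 by norm_num]; exact mul_ne_zero t2 t2
    field_simp
    grind
  have v12 : (S : M3) 1 2 = (l - 1) * (l - l ^ 2) / 4 := by
    rw [hprod]; simp [Matrix.mul_apply, Fin.sum_univ_three]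
    have h4 : (4 : F) ≠ 0 := by rw [show (4 : F) = 2 * 2 by norm_num]; exact mul_ne_zero t2 t2
    field_simp
    grind
  have h4 : (4 : F) ≠ 0 := by rw [show (4 : F) = 2 * 2 by norm_num]; exact mul_ne_zero t2 t2
  have e11 : (S : M3) 1 1 ≠ 0 := by
    rw [v11]
    refine div_ne_zero (mul_ne_zero (pow_ne_zero _ hl0) fun hl3' => ?_) h4
    have h7 : p ≠ 7 := fun e => by have := hσ.mod3; omega
    have hc : ((Fintype.card F : ℕ) : F) = 0 := Nat.cast_card_eq_zero F
    rw [card_F hl hσ, Nat.cast_pow, sq_eq_zero_iff] at hc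
    have h70 : ((7 : ℕ) : F) = 0 := by push_cast; linear_combination hg - (l - 2) * hl3'
    haveI := ringChar.charP F
    have d1 := (CharP.cast_eq_zero_iff F (ringChar F) p).1 hc
    have d2 := (CharP.cast_eq_zero_iff F (ringChar F) 7).1 h70
    have d3 : ringChar F ∣ Nat.gcd p 7 := Nat.dvd_gcd d1 d2
    rw [(Nat.coprime_primes hσ.prime (by norm_num)).2 h7, Nat.dvd_one] at d3
    exact CharP.ringChar_ne_one d3
  have e12 : (S : M3) 1 2 ≠ 0 := by
    rw [v12]
    exact div_ne_zero (mul_ne_zero (sub_ne_zero.2 (hl.ne_one (by norm_num))) (sub_sq_ne hl (h3_ne hl))) h4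
  set y := S * aG hl * S⁻¹ with hy
  obtain ⟨v, hv⟩ := conj_gens hl hSN (x := aG hl) ⟨_, rel_a⟩
  have hyS : (y : M3) * (S : M3) = (S : M3) * amat l := by
    rw [← Units.val_mul, hy, inv_mul_cancel_right, Units.val_mul]; rfl
  have y00 : (y : M3) 0 0 = 1 := by
    have := congrFun₂ hyS 0 0
    rw [hval] at this
    simpa [Matrix.mul_apply, Fin.sum_univ_three, amat] using this
  have h1 := hv.1
  change (y : M3) * amat l = SL3.Maximal.lp l v.1 • (amat l * (y : M3)) at h1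
  have hlp : SL3.Maximal.lp l v.1 = 1 := by
    have := congrFun₂ h1 0 0
    simpa [amat, Matrix.mul_apply, Fin.sum_univ_three, y00] using this.symm
  rw [hlp, one_smul] at h1
  have ydiag : ∀ i j : Fin 3, i ≠ j → (y : M3) i j = 0 := by
    intro i j hij
    have := congrFun₂ h1 i j
    rw [amat, mul_diagonal, diagonal_mul] at this
    have hne : (![1, l, l ^ 2] : Fin 3 → F) j - ![1, l, l ^ 2] i ≠ 0 := by
      have s1 := sub_sq_ne hl (h3_ne hl)
      have s2 : l - 1 ≠ 0 := sub_ne_zero.2 (hl.ne_one (by norm_num))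
      fin_cases i <;> fin_cases j <;> simp at hij ⊢ <;> intro e0 <;> first | exact s1 (by grind) | exact s2 (by grind)
    exact (mul_eq_zero.1 (show (y : M3) i j * ((![1, l, l ^ 2] : Fin 3 → F) j - ![1, l, l ^ 2] i) = 0 by
      rw [mul_sub]; linear_combination this)).resolve_right hne
  have a := congrFun₂ hyS 1 1
  have b := congrFun₂ hyS 1 2
  rw [hval] at a b
  simp [Matrix.mul_apply, Fin.sum_univ_three, amat, ydiag 1 0 (by decide), ydiag 1 2 (by decide)] at a b
  have ha' : (y : M3) 1 1 = l := mul_right_cancel₀ e11 (by linear_combination a)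
  rw [ha'] at b
  exact sub_sq_ne hl (h3_ne hl) (mul_right_cancel₀ e12 (show (l - l ^ 2) * (S : M3) 1 2 = 0 * (S : M3) 1 2 by
    linear_combination b))

/-- Independent block elements over the field of four elements. -/
theorem su_of_blocks_two (h : Ctx hl M) (h2 : p = 2)
    (hb : ∀ i : Fin 3, ∀ x ∈ H3 hl, (bd (Function.update (1 : Fin 3 → G3) i x) : G9) ∈ M) : SUn σ I9 ≤ M := by
  classical
  have t2 := two_zero hl hσ h2
  have hc0 : (pr cyc0 : G9) ∈ M := update_bd_eq_pr hl ▸ hb 0 _ (std hl).bR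
  have hA := h.cyc_mem hl hc0 (0, 0) (0, 1) (1, 0) (by decide) (by clear * -; decide +kernel)
  have hB := h.cyc_mem hl hc0 (0, 0) (1, 0) (0, 1) (by decide) (by clear * -; decide +kernel)
  have hswap0 : (pr (Equiv.swap ((1, 2) : I9) (2, 1)) : G9) ∈ M := by
    rw [show Equiv.swap ((1, 2) : I9) (2, 1) = Equiv.prodComm (Fin 3) (Fin 3) *
      (cyc3 (affFun (0, 0) (0, 1) (1, 0) (0, 0)) (affFun (0, 0) (0, 1) (1, 0) (1, 0)) (affFun (0, 0) (0, 1) (1, 0) (2, 0)) *
       cyc3 (affFun (0, 0) (1, 0) (0, 1) (0, 0)) (affFun (0, 0) (1, 0) (0, 1) (1, 0)) (affFun (0, 0) (1, 0) (0, 1) (2, 0)) *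
       cyc3 (affFun (0, 0) (0, 1) (1, 0) (0, 0)) (affFun (0, 0) (0, 1) (1, 0) (1, 0)) (affFun (0, 0) (0, 1) (1, 0) (2, 0)) *
       cyc3 (affFun (0, 0) (1, 0) (0, 1) (0, 0)) (affFun (0, 0) (1, 0) (0, 1) (1, 0)) (affFun (0, 0) (1, 0) (0, 1) (2, 0)) *
       cyc3 (affFun (0, 0) (0, 1) (1, 0) (0, 0)) (affFun (0, 0) (0, 1) (1, 0) (1, 0)) (affFun (0, 0) (0, 1) (1, 0) (2, 0))) from
      Equiv.ext fun x => by clear * - x; revert x; decide +kernel]
    simp only [map_mul]
    exact mul_mem (h.sw_mem hl) (mul_mem (mul_mem (mul_mem (mul_mem hA hB) hA) hB) hA)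
  have hperm : ∀ π : Equiv.Perm I9, (pr π : G9) ∈ M := by
    have htop : (⊤ : Subgroup (Equiv.Perm I9)) ≤ M.comap pr := by
      rw [← Equiv.Perm.closure_isSwap, Subgroup.closure_le]
      rintro _ ⟨a, b, hab, rfl⟩
      obtain ⟨π, hπ, rfl, rfl⟩ := exists_aff2 (show ((1, 2) : I9) ≠ (2, 1) by decide) hab
      rw [SetLike.mem_coe, Subgroup.mem_comap, Equiv.swap_apply_apply, map_mul, map_mul]
      exact mul_mem (mul_mem (h.pr_mem hl hπ) hswap0) (by rw [map_inv]; exact inv_mem (h.pr_mem hl hπ))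
    exact fun π => htop (Subgroup.mem_top π)
  let Φ : AddSubgroup (I9 → Fin 3) :=
    { carrier := {f | (dg hl f : G9) ∈ M}
      add_mem' := fun {a b} ha hb => by show dg hl (a + b) ∈ M; rw [dg_add]; exact mul_mem ha hb
      zero_mem' := by show dg hl (0 : I9 → Fin 3) ∈ M; exact h.sc (dg_const hl 0)
      neg_mem' := fun {a} ha => by show dg hl (-a) ∈ M; rw [dg_neg]; exact inv_mem ha }
  have hphase : ∀ f : I9 → Fin 3, ∑ x, f x = 0 → f ∈ Φ := by
    intro f hf
    let δ : I9 → I9 → Fin 3 := fun P x => if x = P then 1 else 0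
    have e : f = ∑ P, f P • (fun x => δ P x - δ 0 x) := by
      funext x
      simp only [Finset.sum_apply, Pi.smul_apply, smul_eq_mul, mul_sub, Finset.sum_sub_distrib, ← Finset.sum_mul, hf,
        zero_mul, sub_zero]
      rw [Finset.sum_eq_single x (fun b _ hb => by simp [δ, Ne.symm hb]) (by simp)]
      simp [δ]
    rw [e]
    refine Φ.sum_mem fun P _ => ?_
    have hp : (fun x => δ P x - δ 0 x) ∈ Φ := by
      by_cases hP : P = 0
      · subst hP; convert Φ.zero_mem using 1; funext x; simp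
      · have := h.phase_mem hl hb hP
        show dg hl _ ∈ M
        convert this using 2
        funext x
        by_cases h1 : x = P
        · subst h1; simp [δ, hP]
        · by_cases h0 : x = 0
          · subst h0; simp [δ, h1]; rfl
          · simp [δ, h1, h0]
    have : ∀ k : Fin 3, k • (fun x => δ P x - δ 0 x) ∈ Φ := by
      intro k
      fin_cases k
      · simpa using Φ.zero_mem
      · simpa using hp
      · convert Φ.add_mem hp hp using 1
        funext x; simp only [Pi.smul_apply, Pi.add_apply, smul_eq_mul]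
        have key : ∀ d : Fin 3, (2 : Fin 3) * d = d + d := by clear * -; decide
        exact key _
    exact this _
  have hfS : (tA (fG hl) : G9) ∈ SUn σ I9 := Subgroup.mem_inf.2 ⟨tA_mem_U (fG_mem_U hσ hl),
    MonoidHom.mem_ker.2 (Units.ext (by
      rw [Matrix.GeneralLinearGroup.val_det_apply, tA_eq, det_tp, det_one_of_mem (fG_mem hl).2]; simp))⟩
  refine su_le_of_shape hσ (t := 9) (k := 1) (by norm_num) (by norm_num) (by norm_num) e9
    (by intro i; rw [Finset.card_eq_one]; exact ⟨e9.symm i, by ext x; simp [Equiv.eq_symm_apply]⟩)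
    (fun g hg π hπ => ?_) (h.tA_mem hl (fG_mem hl).1 (by simp [det_one_of_mem (fG_mem hl).2])) hfS
    (r := (0, 0)) (c := (0, 0)) (r' := (1, 0)) (c' := (0, 0))
    (by rw [tA_eq, tp_apply, fG_val]; simp [fmat, sub_sq_ne hl (h3_ne hl)])
    (by rw [tA_eq, tp_apply, fG_val]; simp [fmat, sub_sq_ne hl (h3_ne hl)]) rfl (by decide)
  let ρ : Equiv.Perm I9 := (e9.trans π).trans e9.symm
  obtain ⟨hgU, hgS⟩ := Subgroup.mem_inf.1 hg
  set g' : G9 := (pr ρ)⁻¹ * g with hg'
  have hent : ∀ r c, (g' : M9) r c = (g : M9) (ρ r) c := fun r c => by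
    rw [hg', ← map_inv, pr_mul_apply]; rfl
  have hdiag : ∀ r c, r ≠ c → (g' : M9) r c = 0 := fun r c hrc => by
    by_contra hne
    rw [hent] at hne
    have := hπ _ _ hne
    simp [ρ] at this
    exact hrc this
  have hgU' : g' ∈ U σ I9 := mul_mem (inv_mem (pr_mem_U ρ)) hgU
  suffices g' ∈ M by
    rw [show g = pr ρ * g' by rw [hg']; group]
    exact mul_mem (hperm ρ) this
  have hD : (g' : M9) = diagonal fun x => (g' : M9) x x := by
    ext r c
    by_cases hrc : r = c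
    · subst hrc; simp
    · simp [hrc, hdiag r c hrc]
  have hcube : ∀ x, (g' : M9) x x ^ 3 = 1 := by
    intro x
    have h1 := congrFun₂ (mem_U.1 hgU') x x
    rw [hD, diagonal_transpose, diagonal_map (map_zero σ), diagonal_mul_diagonal, diagonal_apply_eq, one_apply_eq,
      hσ.qpow.eq_pow, h2, ← pow_succ'] at h1
    exact h1
  choose n hn hne using fun x => Extra27.eq_pow_of_cube hl (hcube x)
  let f : I9 → Fin 3 := fun x => ⟨n x, hn x⟩
  have hgf : g' = dg hl f := Units.ext (by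
    rw [hD]
    show _ = diagonal _
    congr 1; funext x
    exact (hne x).symm)
  have hd1 : (g' : M9).det = 1 := by
    rw [hg', Units.val_mul, det_mul, ← map_inv, det_SL9 hgS, mul_one]
    rcases det_pr (F := F) ρ⁻¹ with e | e
    · exact e
    · rw [e]; linear_combination -t2
  rw [hgf]
  refine hphase f ?_
  have h1 : l ^ (∑ x, n x) = 1 := by
    rw [← Finset.prod_pow_eq_pow_sum, ← hd1, hD, det_diagonal]
    exact Finset.prod_congr rfl fun x _ => hne x
  obtain ⟨k, hk⟩ := (hl.pow_eq_one_iff_dvd _).1 h1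
  have key : ∀ s : Finset I9, ((∑ x ∈ s, f x : Fin 3) : ℕ) = (∑ x ∈ s, n x) % 3 := by
    intro s
    induction s using Finset.induction with
    | empty => simp
    | insert a s ha ih => rw [Finset.sum_insert ha, Finset.sum_insert ha, Fin.val_add, ih, Nat.add_mod_mod]
  refine Fin.ext ?_
  rw [key, hk]
  simp

/-- Independent block elements give everything. -/
theorem su_of_blocks (h : Ctx hl M) (hM : M ≤ Sim σ I9)
    (hb : ∀ i : Fin 3, ∀ x ∈ H3 hl, (bd (Function.update (1 : Fin 3 → G3) i x) : G9) ∈ M) : SUn σ I9 ≤ M := by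
  by_cases h2 : p = 2
  · exact su_of_blocks_two hl hσ h h2 hb
  · exact su_of_blocks_odd hl hσ h hM h2 hb

end CfsgLib.Geo.NineU
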