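import Cfsg.Agent.Lib.Geo.NineU.CommutantTwo

/-!
# The two-group of order 128 in unitary overgroups
-/

set_option autoImplicit false
set_option maxHeartbeats 1000000

namespace CfsgLib.Geo.NineU

open Matrix Cfsg.Geo
open scoped Kronecker
open CfsgLib.Geo.Extra27 (amat bmat jmat Heis)
open CfsgLib.Geo.SL3.Maximal
open CfsgLib.Geo.Nine
open CfsgLib.Geo.SympNorm (commute_scalar)

variable {F : Type*} [Field F] {l : F} {σ : F ≃+* F} {p : ℕ}

local notation "M3" => Matrix (Fin 3) (Fin 3) F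
local notation "G3" => GL (Fin 3) F
local notation "V3" => ZMod 3 × ZMod 3
local notation "M9" => Matrix I9 I9 F
local notation "G9" => GL I9 F

/-- The polynomial vanishing on the elements of order four in one factor. -/
def pol (x : Matrix I9 I9 F) : Matrix I9 I9 F := (x + 1) * (x * x + 1)

theorem pol_conj (k x : G9) : pol ((k * x * k⁻¹ : G9) : M9) = (k : M9) * pol (x : M9) * ((k⁻¹ : G9) : M9) := by
  have e1 : ∀ A B : M9, ((k : M9) * A * ((k⁻¹ : G9) : M9)) * ((k : M9) * B * ((k⁻¹ : G9) : M9)) =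
      (k : M9) * (A * B) * ((k⁻¹ : G9) : M9) := fun A B => by
    rw [mul_assoc ((k : M9) * A), ← mul_assoc ((k⁻¹ : G9) : M9), ← mul_assoc ((k⁻¹ : G9) : M9), Units.inv_mul, one_mul]
    simp only [mul_assoc]
  have e0 : ∀ A : M9, (k : M9) * A * ((k⁻¹ : G9) : M9) + 1 = (k : M9) * (A + 1) * ((k⁻¹ : G9) : M9) := fun A => by
    rw [mul_add, add_mul, mul_one, Units.mul_inv]
  rw [pol, pol, Units.val_mul, Units.val_mul, e1, e0, e0, e1]

variable (hl : IsPrimitiveRoot l 3)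
include hl
variable [Finite F]

theorem Q8_pow_four {q : G3} (hq : q ∈ Q8 hl) : q * q * (q * q) = 1 := by
  have e := chQ_pow hl ⟨q, hq⟩
  rw [← map_pow, ← map_one (chQ hl)] at e
  have := congrArg Subtype.val (chQ_injective hl e)
  calc q * q * (q * q) = q ^ 4 := by simp only [pow_succ, pow_zero, one_mul, mul_assoc]
    _ = 1 := this

theorem Q8_sq {q : G3} (hq : q ∈ Q8 hl) : q * q = 1 ∨ q * q = jG hl := by
  rcases trace_Q8 hl (mul_mem hq hq) with ⟨e, -⟩ | ⟨e, -⟩ | ⟨e, -⟩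
  · exact Or.inl e
  · exact Or.inr e
  · exact absurd (Q8_pow_four hl hq) e

theorem Q8_invol {q : G3} (hq : q ∈ Q8 hl) (h : q * q = 1) : q = 1 ∨ q = jG hl := by
  rcases trace_Q8 hl hq with ⟨e, -⟩ | ⟨e, -⟩ | ⟨e, -⟩
  · exact Or.inl e
  · exact Or.inr e
  · exact absurd h e

theorem gen_sq {t : G3} (ht : t ∈ ({fG hl, gG hl} : Set G3)) : t * t = jG hl ∧ (t : M3).trace = 1 := by
  have htQ : t ∈ Q8 hl := Subgroup.subset_closure ht
  have hsq : t * t = jG hl := by
    rcases ht with rfl | rfl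
    · exact (rels hl).1
    · exact (rels hl).2.1
  refine ⟨hsq, ?_⟩
  have hne : jG hl ≠ 1 := fun e => jEl_not_scalar (std hl) (by rw [show jEl (std hl) = 1 from e]; exact one_mem _)
  rcases trace_Q8 hl htQ with ⟨e, -⟩ | ⟨e, -⟩ | ⟨-, e⟩
  · rw [e, one_mul] at hsq; exact absurd hsq.symm hne
  · rw [e, (rels hl).2.2.2] at hsq; exact absurd hsq.symm hne
  · exact e

theorem jG_two (t2 : (2 : F) = 0) : (jG hl : M3) = 1 + Nj := by
  rw [jG_val]
  ext i j; fin_cases i <;> fin_cases j <;> simp [Nj, jmat] <;> linear_combination -t2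

theorem Q8_mul_Nj (t2 : (2 : F) = 0) {q : G3} (hq : q ∈ Q8 hl) : (q : M3) * Nj = Nj := by
  let S : Subgroup G3 :=
    { carrier := {A | (A : M3) * Nj = Nj}
      one_mem' := by simp
      mul_mem' := fun {a b} ha hb => by
        show ((a * b : G3) : M3) * Nj = Nj
        rw [Units.val_mul, mul_assoc, hb, ha]
      inv_mem' := fun {a} ha => by
        show ((a⁻¹ : G3) : M3) * Nj = Nj
        conv_lhs => rw [← show (a : M3) * Nj = Nj from ha]
        rw [← mul_assoc, Units.inv_mul, one_mul] }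
  have hle : Q8 hl ≤ S := by
    rw [Q8, Subgroup.closure_le]
    have hf : fG hl ∈ S := by
      show (fG hl : M3) * Nj = Nj
      have hs := inv_mul_cancel₀ (sub_sq_ne hl (h3_ne hl))
      have hg := geom hl
      rw [fG_val, fmat, smul_mul_assoc]
      ext i j; fin_cases i <;> fin_cases j <;> simp [Nj, Matrix.mul_apply, Fin.sum_univ_three] <;> grind
    rintro x (rfl | rfl)
    · exact hf
    · show (gG hl : M3) * Nj = Nj
      have hd : (dmat (l ^ 2) : M3) * Nj = l ^ 2 • Nj := by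
        ext i j; fin_cases i <;> fin_cases j <;> simp [dmat, Nj, diagonal_mul]
      have hd' : (dmat l : M3) * Nj = l • Nj := by
        ext i j; fin_cases i <;> fin_cases j <;> simp [dmat, Nj, diagonal_mul]
      have hf' : (fmat l : M3) * Nj = Nj := fG_val hl ▸ hf
      rw [gG_val, gmat, mul_assoc, hd, mul_smul_comm, mul_assoc, hf', hd', smul_smul, ← pow_succ, hl.pow_eq_one, one_smul]
  exact hle hq

/-- The shapes satisfying the polynomial in characteristic two. -/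
theorem four_two (t2 : (2 : F) = 0) {x : G9} (hx : x ∈ S0 hl) (hp : pol (x : M9) = 0) (h1 : x * x ≠ 1) :
    ∃ q ∈ Q8 hl, q * q ≠ 1 ∧ (x = tA q ∨ x = tB q) := by
  have two : ∀ A : M3, A + A = 0 := fun A => by
    ext i j; rw [Matrix.add_apply, Matrix.zero_apply]; linear_combination A i j * t2
  have nine : ∀ A : M9, A + A = 0 := fun A => by
    ext i j; rw [Matrix.add_apply, Matrix.zero_apply]; linear_combination A i j * t2
  set N : M3 := Nj with hN
  have hNN : N * N = 0 := Nj_sq t2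
  have hjv : (jG hl : M3) = 1 + N := jG_two hl t2
  have hj0 : (jG hl * jG hl : G3) = 1 := (rels hl).2.2.2
  have NN0 : N ⊗ₖ N ≠ 0 := fun e => by
    have := congrFun₂ e ((1, 1) : I9) ((1, 1) : I9)
    simp [N, Nj] at this
  have one' : (tp ((1 : G3), (1 : G3)) : G9) = 1 := map_one tp
  obtain ⟨q, hq, q', hq', rfl | rfl⟩ := hx
  · have e2 : (tp (q, q') : G9) * tp (q, q') = tp (q * q, q' * q') := by rw [← map_mul]; rfl
    rcases Q8_sq hl hq with s | s <;> rcases Q8_sq hl hq' with s' | s'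
    · exact absurd (by rw [e2, s, s', one']) h1
    · rcases Q8_invol hl hq s with rfl | rfl
      · exact ⟨q', hq', by rw [s']; intro e; exact h1 (by rw [e2, s, s', e, one']), Or.inr rfl⟩
      · exfalso
        set P : M3 := (q' : M3) + 1 with hP
        have hqv : (q' : M3) = P + 1 := by rw [hP, add_assoc, two, add_zero]
        have hPN : P * N = 0 := by rw [hP, add_mul, one_mul, Q8_mul_Nj hl t2 hq', two]
        rw [pol, ← Units.val_mul, e2, hj0, s', tp_val, tp_val, Units.val_one, hjv, hqv] at hp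
        simp only [add_kronecker, kronecker_add, one_kronecker_one] at hp
        have e : ((1 : M3) ⊗ₖ P + N ⊗ₖ P + (1 + N ⊗ₖ (1 : M3)) + 1) * (1 + (1 : M3) ⊗ₖ N + 1) = N ⊗ₖ N := by
          rw [show (1 : M3) ⊗ₖ P + N ⊗ₖ P + (1 + N ⊗ₖ (1 : M3)) + 1 = (1 : M3) ⊗ₖ P + N ⊗ₖ P + N ⊗ₖ (1 : M3) + ((1 : M9) + 1) by abel,
            show (1 : M9) + (1 : M3) ⊗ₖ N + 1 = (1 : M3) ⊗ₖ N + ((1 : M9) + 1) by abel, nine, add_zero, add_zero]
          simp only [add_mul, ← mul_kronecker_mul, hPN, kronecker_zero, zero_add, one_mul, mul_one]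
        exact NN0 (e.symm.trans hp)
    · rcases Q8_invol hl hq' s' with rfl | rfl
      · exact ⟨q, hq, by rw [s]; intro e; exact h1 (by rw [e2, s, s', e, one']), Or.inl rfl⟩
      · exfalso
        set P : M3 := (q : M3) + 1 with hP
        have hqv : (q : M3) = P + 1 := by rw [hP, add_assoc, two, add_zero]
        have hPN : P * N = 0 := by rw [hP, add_mul, one_mul, Q8_mul_Nj hl t2 hq, two]
        rw [pol, ← Units.val_mul, e2, hj0, s, tp_val, tp_val, Units.val_one, hjv, hqv] at hp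
        simp only [add_kronecker, kronecker_add, one_kronecker_one] at hp
        have e : (P ⊗ₖ (1 : M3) + 1 + (P ⊗ₖ N + (1 : M3) ⊗ₖ N) + 1) * (1 + N ⊗ₖ (1 : M3) + 1) = N ⊗ₖ N := by
          rw [show P ⊗ₖ (1 : M3) + 1 + (P ⊗ₖ N + (1 : M3) ⊗ₖ N) + 1 =
              P ⊗ₖ (1 : M3) + P ⊗ₖ N + (1 : M3) ⊗ₖ N + ((1 : M9) + 1) by abel,
            show (1 : M9) + N ⊗ₖ (1 : M3) + 1 = N ⊗ₖ (1 : M3) + ((1 : M9) + 1) by abel, nine, add_zero, add_zero]
          simp only [add_mul, ← mul_kronecker_mul, hPN, zero_kronecker, zero_add, one_mul, mul_one]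
        exact NN0 (e.symm.trans hp)
    · exfalso
      set P : M3 := (q : M3) + 1 with hP
      set P' : M3 := (q' : M3) + 1 with hP'
      have hqv : (q : M3) = P + 1 := by rw [hP, add_assoc, two, add_zero]
      have hqv' : (q' : M3) = P' + 1 := by rw [hP', add_assoc, two, add_zero]
      have hPN : P * N = 0 := by rw [hP, add_mul, one_mul, Q8_mul_Nj hl t2 hq, two]
      have hPN' : P' * N = 0 := by rw [hP', add_mul, one_mul, Q8_mul_Nj hl t2 hq', two]
      have hPP : P * P = N := by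
        rw [hP, add_mul, mul_add, mul_one, one_mul, ← Units.val_mul, s, hjv,
          show (1 : M3) + N + (q : M3) + ((q : M3) + 1) = N + ((q : M3) + (q : M3)) + ((1 : M3) + 1) by abel, two, two,
          add_zero, add_zero]
      rw [pol, ← Units.val_mul, e2, s, s', tp_val, tp_val, hjv, hqv, hqv'] at hp
      simp only [add_kronecker, kronecker_add, one_kronecker_one] at hp
      rw [show P ⊗ₖ P' + (1 : M3) ⊗ₖ P' + (P ⊗ₖ (1 : M3) + 1) + 1 =
            P ⊗ₖ P' + P ⊗ₖ (1 : M3) + (1 : M3) ⊗ₖ P' + ((1 : M9) + 1) by abel,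
        show (1 : M9) + N ⊗ₖ (1 : M3) + ((1 : M3) ⊗ₖ N + N ⊗ₖ N) + 1 =
            (1 : M3) ⊗ₖ N + N ⊗ₖ (1 : M3) + N ⊗ₖ N + ((1 : M9) + 1) by abel, nine, add_zero, add_zero] at hp
      simp only [add_mul, mul_add, ← mul_kronecker_mul, hPN, hPN', zero_kronecker, kronecker_zero, zero_add, add_zero,
        one_mul, mul_one] at hp
      have h3 := congrArg (fun A => (P ⊗ₖ (1 : M3)) * A) hp
      simp only [mul_add, ← mul_kronecker_mul, hPP, hPN, zero_kronecker, add_zero, one_mul, mul_zero] at h3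
      exact NN0 h3
  · exfalso
    have e2 : (sw' * tp (q, q') : G9) * (sw' * tp (q, q')) = tp (q' * q, q * q') := by
      rw [← mul_assoc, sw'_conj', ← map_mul]; rfl
    set r := q * q' with hr
    have hrQ : r ∈ Q8 hl := mul_mem hq hq'
    set y : G9 := sw' * tp (1, r) with hy
    have ey : (sw' * tp (q, q') : G9) = tA q' * y * (tA q')⁻¹ ∨ (sw' * tp (q, q') : G9) = (tA q)⁻¹ * y * tA q := by
      right
      rw [hy, show (tA q : G9)⁻¹ * (sw' * tp (1, r)) * tA q = (tA q)⁻¹ * sw' * (tp (1, r) * tA q) by group, tA_eq,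
        ← map_inv, show (tp ((q, 1)⁻¹ : G3 × G3) : G9) * sw' = sw' * tp (1, q⁻¹) by
          rw [sw'_comm]; congr 2, mul_assoc, ← map_mul, ← map_mul]
      simp [hr]
    obtain ⟨k, hk⟩ : ∃ k : G9, (sw' * tp (q, q') : G9) = k * y * k⁻¹ := by
      rcases ey with e | e
      · exact ⟨_, e⟩
      · exact ⟨(tA q)⁻¹, by rw [inv_inv]; exact e⟩
    have hpy : pol (y : M9) = 0 := by
      rw [hk, pol_conj] at hp
      have := congrArg (fun A => ((k⁻¹ : G9) : M9) * A * (k : M9)) hp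
      simpa [mul_assoc] using this
    have hy2 : y * y = tp (r, r) := by
      rw [hy, ← mul_assoc, sw'_conj', ← map_mul]; simp
    have hr4 : (tp (r, r) : G9) * tp (r, r) = 1 := by
      have h4 : ((y * y : G9) : M9) * ((y * y : G9) : M9) = 1 := by
        have h0 : ((y : M9) * y + 1) * ((y : M9) * y + 1) = 0 := by
          have := congrArg (fun A => ((y : M9) + 1) * A) hpy
          simp only [pol, mul_zero, ← mul_assoc] at this
          rwa [show ((y : M9) + 1) * ((y : M9) + 1) = (y : M9) * y + 1 by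
            rw [add_mul, mul_add, mul_one, one_mul,
              show (y : M9) * y + y + (y + 1) = (y : M9) * y + 1 + ((y : M9) + y) by abel, nine, add_zero]] at this
        rw [add_mul, mul_add, mul_one, one_mul, ← Units.val_mul, ← Units.val_mul,
          show ((y * y * (y * y) : G9) : M9) + ((y * y : G9) : M9) + (((y * y : G9) : M9) + 1) =
            ((y * y * (y * y) : G9) : M9) + 1 + (((y * y : G9) : M9) + ((y * y : G9) : M9)) by abel, nine, add_zero,
          Units.val_mul] at h0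
        calc _ = ((y * y : G9) : M9) * ((y * y : G9) : M9) + (1 + 1) := by rw [nine, add_zero]
          _ = 1 := by rw [← add_assoc, h0, zero_add]
      rw [← hy2]
      exact Units.ext h4
    have hrr : r * r = 1 := by
      rw [← map_mul, Prod.mk_mul_mk] at hr4
      obtain ⟨hs, -⟩ := tp_scalar (hr4 ▸ one_mem (scalars I9 F) : (tp (r * r, r * r) : G9) ∈ scalars I9 F)
      rcases Q8_sq hl hrQ with s | s
      · exact s
      · rw [s] at hs; exact absurd hs (jEl_not_scalar (std hl))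
    rcases Q8_invol hl hrQ hrr with s | s
    · refine h1 ?_
      rw [hk, show k * y * k⁻¹ * (k * y * k⁻¹) = k * (y * y) * k⁻¹ by group, hy2, s, one']
      group
    · have e3 := congrFun₂ hpy ((1, 1) : I9) ((1, 1) : I9)
      rw [pol, add_mul, one_mul, ← Units.val_mul y y, hy2, s, tp_val, hjv, Matrix.add_apply, Matrix.mul_apply] at e3
      simp only [hy, s, sw', Units.val_mul, neg_mul, Units.val_neg, tp_val, hjv, Units.val_one] at e3
      simp [sw, Matrix.mul_apply, pr_apply, N, Nj, one_apply, Fintype.sum_prod_type, Fin.sum_univ_three,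
        kroneckerMap_apply, Prod.ext_iff] at e3
      exact one_ne_zero (show (1 : F) = 0 by linear_combination e3 + 4 * t2)

omit hl [Finite F] in
theorem rank_conj (k : G9) (A : M9) : ((k : M9) * A * ((k⁻¹ : G9) : M9)).rank = A.rank := by
  rw [Matrix.rank_mul_eq_left_of_isUnit_det _ _ ((Matrix.isUnit_iff_isUnit_det _).1 (k⁻¹).isUnit),
    Matrix.rank_mul_eq_right_of_isUnit_det _ _ ((Matrix.isUnit_iff_isUnit_det _).1 k.isUnit)]

/-- The only conjugate of the central involution in characteristic two. -/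
theorem iso_two (t2 : (2 : F) = 0) {k : G9} (hx : k * tp (jG hl, jG hl) * k⁻¹ ∈ S0 hl) :
    k * tp (jG hl, jG hl) * k⁻¹ = tp (jG hl, jG hl) := by
  have nine : ∀ A : M9, A + A = 0 := fun A => by
    ext i j; rw [Matrix.add_apply, Matrix.zero_apply]; linear_combination A i j * t2
  have hjv : (jG hl : M3) = 1 + Nj := jG_two hl t2
  have hj0 : (jG hl * jG hl : G3) = 1 := (rels hl).2.2.2
  have hm : ((-1 : F)) = 1 := by linear_combination -t2
  set x := k * tp (jG hl, jG hl) * k⁻¹ with hxd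
  have big : 4 ≤ ((x : M9) + 1).rank := by
    have e : (x : M9) + 1 = (k : M9) * (((tp (jG hl, jG hl) : G9) : M9) + 1) * ((k⁻¹ : G9) : M9) := by
      rw [mul_add, add_mul, mul_one, Units.mul_inv, hxd, Units.val_mul, Units.val_mul]
    rw [e, rank_conj]
    let T : M9 := ((tp (jG hl, jG hl) : G9) : M9) + 1
    let w : Fin 4 → I9 := ![(0, 1), (1, 0), (1, 1), (1, 2)]
    have h1 : T.submatrix w w = 1 := by
      ext i j
      simp only [T, tp_val, hjv, submatrix_apply, Matrix.add_apply, kroneckerMap_apply, w]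
      fin_cases i <;> fin_cases j <;> simp [Nj, one_apply, Prod.ext_iff] <;> grind
    have h2 := Matrix.rank_submatrix_le T w w
    rw [h1, Matrix.rank_one, Fintype.card_fin] at h2
    exact h2
  have small : ∀ (y : G9) (C : Matrix I9 (Fin 3) F) (R : Matrix (Fin 3) I9 F), (y : M9) + 1 = C * R →
      ∀ k' : G9, x ≠ k' * y * k'⁻¹ := by
    intro y C R e k' he
    rw [he, Units.val_mul, Units.val_mul, show (k' : M9) * y * ((k'⁻¹ : G9) : M9) + 1 =
      (k' : M9) * ((y : M9) + 1) * ((k'⁻¹ : G9) : M9) by rw [mul_add, add_mul, mul_one, Units.mul_inv],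
      rank_conj, e] at big
    have := (big.trans (Matrix.rank_mul_le_left C R)).trans (Matrix.rank_le_card_width C)
    simp at this
  have castn : ∀ a b : ℕ, a % 2 = b % 2 → (a : F) = b := fun a b hab => by
    rw [← Nat.mod_add_div a 2, ← Nat.mod_add_div b 2, hab]
    push_cast
    rw [t2, zero_mul, zero_mul]
  let pairs : Fin 3 → Finset I9 := ![{(0, 1), (1, 0)}, {(0, 2), (2, 0)}, {(1, 2), (2, 1)}]
  have hx2 : x * x = 1 := by
    rw [hxd, show k * tp (jG hl, jG hl) * k⁻¹ * (k * tp (jG hl, jG hl) * k⁻¹) =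
      k * (tp (jG hl, jG hl) * tp (jG hl, jG hl)) * k⁻¹ by group, ← map_mul, Prod.mk_mul_mk, hj0,
      show (tp ((1 : G3), (1 : G3)) : G9) = 1 from map_one tp]
    group
  have hone : ∀ {q : G3}, q ∈ Q8 hl → q ∈ scalars (Fin 3) F → q = 1 := by
    intro q hq hs
    have e : chQ hl ⟨q, hq⟩ = 1 := chi_of_inR hl (inR_scalar hl hs)
    rw [← map_one (chQ hl)] at e
    exact congrArg Subtype.val (chQ_injective hl e)
  obtain ⟨q, hq, q', hq', e | e⟩ := hx
  · rw [e, ← map_mul, Prod.mk_mul_mk] at hx2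
    obtain ⟨a, b⟩ := tp_scalar (hx2 ▸ one_mem (scalars I9 F) : (tp (q * q, q' * q') : G9) ∈ scalars I9 F)
    rcases Q8_invol hl hq (hone (mul_mem hq hq) a) with rfl | rfl <;>
      rcases Q8_invol hl hq' (hone (mul_mem hq' hq') b) with rfl | rfl
    · exfalso
      refine small 1 0 0 ?_ 1 ?_
      · rw [Units.val_one, Matrix.zero_mul]; exact nine 1
      · rw [e, show (tp ((1 : G3), (1 : G3)) : G9) = 1 from map_one tp]; group
    · exfalso
      refine small (tp (1, jG hl)) (Matrix.of fun r i => if r.1 = i ∧ r.2 ≠ 0 then 1 else 0)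
        (Matrix.of fun i c => if c.1 = i ∧ c.2 ≠ 0 then 1 else 0) ?_ 1 (by rw [e]; group)
      ext r c
      obtain ⟨a, b⟩ := r; obtain ⟨a', b'⟩ := c
      rw [tp_val, hjv, Units.val_one]
      fin_cases a <;> fin_cases b <;> fin_cases a' <;> fin_cases b' <;>
        simp [Nj, one_apply, Matrix.mul_apply, Fin.sum_univ_three] <;> grind
    · exfalso
      refine small (tp (jG hl, 1)) (Matrix.of fun r i => if r.2 = i ∧ r.1 ≠ 0 then 1 else 0)
        (Matrix.of fun i c => if c.2 = i ∧ c.1 ≠ 0 then 1 else 0) ?_ 1 (by rw [e]; group)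
      ext r c
      obtain ⟨a, b⟩ := r; obtain ⟨a', b'⟩ := c
      rw [tp_val, hjv, Units.val_one]
      fin_cases a <;> fin_cases b <;> fin_cases a' <;> fin_cases b' <;>
        simp [Nj, one_apply, Matrix.mul_apply, Fin.sum_univ_three] <;> grind
    · exact e
  · exfalso
    have e2 : (sw' * tp (q, q') : G9) * (sw' * tp (q, q')) = tp (q' * q, q * q') := by
      rw [← mul_assoc, sw'_conj', ← map_mul]; rfl
    rw [e, e2] at hx2
    obtain ⟨-, b⟩ := tp_scalar (hx2 ▸ one_mem (scalars I9 F) : (tp (q' * q, q * q') : G9) ∈ scalars I9 F)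
    have hinv : q' = q⁻¹ := (inv_eq_of_mul_eq_one_right (hone (mul_mem hq hq') b)).symm
    refine small sw' (Matrix.of fun r i => ((if r ∈ pairs i then 1 else 0 : ℕ) : F))
      (Matrix.of fun i c => ((if c ∈ pairs i then 1 else 0 : ℕ) : F)) ?_ (tA q)⁻¹ ?_
    · ext r c
      have key : ∀ r c : I9, ((if (Equiv.prodComm (Fin 3) (Fin 3)).symm r = c then 1 else 0) + (if r = c then 1 else 0) : ℕ) % 2 =
          (∑ i, (if r ∈ pairs i then 1 else 0) * (if c ∈ pairs i then 1 else 0)) % 2 := by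
        clear * -; decide +kernel
      rw [Matrix.add_apply, sw', Units.val_neg, Matrix.neg_apply, Matrix.mul_apply, sw, pr_apply, one_apply]
      have e3 := castn _ _ (key r c)
      push_cast at e3
      rw [show -(if (Equiv.prodComm (Fin 3) (Fin 3)).symm r = c then (1 : F) else 0) =
        (if (Equiv.prodComm (Fin 3) (Fin 3)).symm r = c then (1 : F) else 0) by
        split_ifs <;> first | linear_combination -t2 | simp]
      simpa using e3
    · rw [inv_inv, e, tA_eq, ← map_inv, show (tp ((q, 1)⁻¹ : G3 × G3) : G9) * sw' = sw' * tp (1, q⁻¹) by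
        rw [sw'_comm]; congr 2, mul_assoc, ← map_mul, hinv]
      congr 2
      simp

variable (hσ : Fld σ p)
include hσ
variable [Fintype F]

/-- Conjugates of the elements of order four on the first factor. -/
theorem four_tA {t : G3} (ht : t ∈ ({fG hl, gG hl} : Set G3)) {k : G9} (hx : k * tA t * k⁻¹ ∈ S0 hl) :
    ∃ q ∈ Q8 hl, q * q ≠ 1 ∧ (k * tA t * k⁻¹ = tA q ∨ k * tA t * k⁻¹ = tB q) := by
  obtain ⟨htt, htr⟩ := gen_sq hl ht
  by_cases h2 : p = 2
  · have t2 := two_zero hl hσ h2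
    refine four_two hl t2 hx ?_ ?_
    · have h0 : pol ((tA t : G9) : M9) = 0 := by
        have htN : (t : M3) * Nj = Nj := Q8_mul_Nj hl t2 (Subgroup.subset_closure ht)
        rw [pol, ← Units.val_mul, ← map_mul, htt, tA_eq, tA_eq, tp_val, tp_val, jG_two hl t2, Units.val_one,
          add_kronecker, one_kronecker_one]
        ext r c
        rw [Matrix.zero_apply]
        have e : ((t : M3) ⊗ₖ (1 : M3) + 1) * (1 + (Nj : M3) ⊗ₖ (1 : M3) + 1) =
            ((1 : M9) + 1) * ((t : M3) ⊗ₖ (1 : M3) + 1 + (Nj : M3) ⊗ₖ (1 : M3)) := by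
          rw [show (1 : M9) + (Nj : M3) ⊗ₖ (1 : M3) + 1 = (Nj : M3) ⊗ₖ (1 : M3) + ((1 : M9) + 1) by abel, mul_add,
            add_mul, ← mul_kronecker_mul, htN, mul_one, one_mul]
          simp only [mul_add, add_mul, mul_one, one_mul]
          abel
        rw [e, Matrix.mul_apply]
        refine Finset.sum_eq_zero fun i _ => ?_
        rw [Matrix.add_apply, ← two_mul, t2, zero_mul, zero_mul]
      rw [pol_conj, h0, mul_zero, zero_mul]
    · intro e
      have e1 : (tA (t * t) : G9) = 1 := by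
        rw [map_mul]
        calc tA t * tA t = k⁻¹ * (k * tA t * k⁻¹ * (k * tA t * k⁻¹)) * k := by group
          _ = 1 := by rw [e]; group
      rw [htt, tA_eq] at e1
      exact jEl_not_scalar (std hl) (tp_scalar (e1 ▸ one_mem (scalars I9 F) : (tp (jG hl, (1 : G3)) : G9) ∈ scalars I9 F)).1
  · refine trace_three hl (two_ne hl hσ h2) hx ?_
    rw [Units.val_mul, Units.val_mul, trace_mul_comm, ← mul_assoc, Units.inv_mul, one_mul, tA_eq, trace_tp, htr,
      Units.val_one, Matrix.trace_one]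
    simp

/-- Conjugates of the elements of order four on the second factor. -/
theorem four_tB {t : G3} (ht : t ∈ ({fG hl, gG hl} : Set G3)) {k : G9} (hx : k * tB t * k⁻¹ ∈ S0 hl) :
    ∃ q ∈ Q8 hl, q * q ≠ 1 ∧ (k * tB t * k⁻¹ = tA q ∨ k * tB t * k⁻¹ = tB q) := by
  have e : k * tB t * k⁻¹ = k * sw * tA t * (k * sw)⁻¹ := by
    rw [← sw_conj_tA]; group
  rw [e] at hx ⊢
  exact four_tA hl hσ ht hx

/-- The only conjugate of the central involution. -/
theorem iso_tau {k : G9} (hx : k * tp (jG hl, jG hl) * k⁻¹ ∈ S0 hl) :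
    k * tp (jG hl, jG hl) * k⁻¹ = tp (jG hl, jG hl) := by
  by_cases h2 : p = 2
  · exact iso_two hl (two_zero hl hσ h2) hx
  refine involution_trace_one hl (two_ne hl hσ h2) hx ?_ ?_
  · rw [show k * tp (jG hl, jG hl) * k⁻¹ * (k * tp (jG hl, jG hl) * k⁻¹) =
      k * (tp (jG hl, jG hl) * tp (jG hl, jG hl)) * k⁻¹ by group, ← map_mul, Prod.mk_mul_mk, (rels hl).2.2.2,
      show (tp ((1 : G3), (1 : G3)) : G9) = 1 from map_one tp]
    group
  · rw [Units.val_mul, Units.val_mul, trace_mul_comm, ← mul_assoc, Units.inv_mul, one_mul, trace_tp, jG_val,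
      Matrix.trace, Fin.sum_univ_three]
    simp [jmat]

variable {M : Subgroup (GL I9 F)}

/-- The shape of an element commuting with the quaternion group on the first factor. -/
theorem commutant_form (h : Ctx hl M) (hM : M ≤ Sim σ I9) (hno : ¬ SUn σ I9 ≤ M) {g : G9}
    (hg : g ∈ M) (h1 : Commute g (tA (fG hl))) (h1' : Commute g (tA (gG hl))) :
    ∃ x ∈ subgroupNormalizer (H3 hl), g = tB x ∨ g = tp (jG hl, x) := by
  by_cases h2 : p = 2
  · exact commutant_form_two hl hσ h hM hno h2 hg h1 h1'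
  · exact commutant_form_odd hl hσ h hM hno (two_ne hl hσ h2) hg h1 h1'

/-- An element preserving the quaternion groups on both factors sends the first factor to itself. -/
theorem side_image (h : Ctx hl M) (hM : M ≤ Sim σ I9)
    (hno : ¬ SUn σ I9 ≤ M) {k : G9} (hk : k ∈ M)
    (hB : ∀ t ∈ ({fG hl, gG hl} : Set G3), ∃ q ∈ Q8 hl, k * tB q * k⁻¹ = tB t)
    (hA : ∀ t ∈ ({fG hl, gG hl} : Set G3), ∃ q ∈ Q8 hl, k * tA q * k⁻¹ = tA t)
    {z : G3} (hz : z ∈ H3 hl) : ∃ x, InR hl x ∧ k * tA z * k⁻¹ = tA x := by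
  have hzN := h3_le hl hz
  set y := k * tA z * k⁻¹ with hy
  have hyM : sw * y * sw⁻¹ ∈ M :=
    mul_mem (mul_mem (h.sw_mem hl) (mul_mem (mul_mem hk (h.tA_mem_all hl hzN)) (inv_mem hk))) (inv_mem (h.sw_mem hl))
  have hcom : ∀ t ∈ ({fG hl, gG hl} : Set G3), Commute (sw * y * sw⁻¹) (tA t) := by
    intro t ht
    obtain ⟨q, -, e⟩ := hB t ht
    rw [← sw_conj_tB t]
    refine Commute.map ?_ (MulAut.conj sw).toMonoidHom
    rw [← e]
    exact (commute_tA_tB z q).map (MulAut.conj k).toMonoidHom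
  obtain ⟨x, hx, e | e⟩ := commutant_form hl hσ h hM hno hyM (hcom _ (Set.mem_insert _ _))
    (hcom _ (Set.mem_insert_of_mem _ rfl))
  swap
  · exfalso
    obtain ⟨v, hv⟩ := exists_rel (h := std hl) hz
    have hz3 := hv.pow 3
    rw [v3_three] at hz3
    have hsc : (sw * y * sw⁻¹) ^ 3 ∈ scalars I9 F := by
      rw [conj_pow]
      refine (scalars_normal (ι := I9) (F := F)).conj_mem _ ?_ sw
      rw [hy, conj_pow, ← map_pow]
      exact (scalars_normal (ι := I9) (F := F)).conj_mem _ (tA_scalars hz3.scalar) k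
    rw [e, ← map_pow, Prod.pow_mk, pow_succ, pow_two, (rels hl).2.2.2, one_mul] at hsc
    exact jEl_not_scalar (std hl) (tp_scalar hsc).1
  have e' : y = tA x := by
    rw [← sw_conj_tA] at e
    exact mul_left_cancel (mul_right_cancel e)
  refine ⟨x, ?_, e'⟩
  obtain ⟨v, hv⟩ := exists_rel (h := std hl) hz
  have hx3 : InR hl (x ^ 3) := by
    refine inR_scalar hl (tp_scalar (y := 1) ?_).1
    rw [← tA_eq, map_pow, ← e', hy, conj_pow, ← map_pow]
    have hz3 := hv.pow 3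
    rw [v3_three] at hz3
    exact (scalars_normal (ι := I9) (F := F)).conj_mem _ (tA_scalars hz3.scalar) k
  have hcomm : ∀ t ∈ ({fG hl, gG hl} : Set G3), InR hl (x * (t * x * t⁻¹) * x⁻¹ * (t * x * t⁻¹)⁻¹) := by
    intro t ht
    obtain ⟨q, hq, eq⟩ := hA t ht
    refine inR_scalar hl (tp_scalar (y := 1) ?_).1
    rw [← tA_eq]
    simp only [map_mul, map_inv, ← e', hy, ← eq]
    have hqz := rel_av hl ((Q8_le hl hq).1) hv
    have h0 := ((hv.mul hqz).mul hv.inv).mul hqz.inv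
    rw [add_neg_cancel_comm, add_neg_cancel] at h0
    convert (scalars_normal (ι := I9) (F := F)).conj_mem _ (tA_scalars h0.scalar) k using 1
    simp only [map_mul, map_inv]
    group
  exact inR_of_abelian hl hx hx3 (hcomm _ (Set.mem_insert _ _)) (hcomm _ (Set.mem_insert_of_mem _ rfl))

/-- An element normalising the two-group and both sides lies in it. -/
theorem fixing_sides (h : Ctx hl M) (hM : M ≤ Sim σ I9) (hno : ¬ SUn σ I9 ≤ M) {k : G9} (hk : k ∈ M)
    (hd : (k : M9).det = 1) {n : ℕ} (hn : k ^ 2 ^ n = 1) (hnorm : ∀ x ∈ S0 hl, k * x * k⁻¹ ∈ S0 hl)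
    (hside : ∀ t ∈ ({fG hl, gG hl} : Set G3), ∃ q ∈ Q8 hl, q * q ≠ 1 ∧ k * tA t * k⁻¹ = tA q) :
    k ∈ S0 hl := by
  classical
  obtain ⟨qf, hqf, hqf2, ef⟩ := hside _ (Set.mem_insert _ _)
  obtain ⟨qg, hqg, hqg2, eg⟩ := hside _ (Set.mem_insert_of_mem _ rfl)
  have hncfg : ¬ Commute (fG hl) (gG hl) := by
    intro hc
    have e : chQ hl (⟨fG hl, fG_Q8 hl⟩ * ⟨gG hl, gG_Q8 hl⟩) = chQ hl (⟨gG hl, gG_Q8 hl⟩ * ⟨fG hl, fG_Q8 hl⟩) :=
      congrArg (chQ hl) (Subtype.ext hc.eq)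
    rw [map_mul, map_mul, (chQ_vals hl).1, (chQ_vals hl).2.1] at e
    exact absurd e (by clear * -; decide +kernel)
  have hnc' : ¬ Commute qf qg := by
    intro hc
    refine hncfg ?_
    have e1 : Commute (k * tA (fG hl) * k⁻¹) (k * tA (gG hl) * k⁻¹) := by
      rw [ef, eg]; exact hc.map tA
    have e2 := e1.map (MulAut.conj k⁻¹).toMonoidHom
    simp only [MulEquiv.coe_toMonoidHom, MulAut.conj_apply, inv_inv, ← mul_assoc, inv_mul_cancel, one_mul,
      inv_mul_cancel_right] at e2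
    exact tA_injective ((map_mul tA _ _).trans (e2.eq.trans (map_mul tA _ _).symm))
  have hBf : ∀ t ∈ ({fG hl, gG hl} : Set G3), ∃ q ∈ Q8 hl, q * q ≠ 1 ∧ k * tB t * k⁻¹ = tB q := by
    intro t ht
    have htQ : t ∈ Q8 hl := Subgroup.subset_closure ht
    have hm : k * tB t * k⁻¹ ∈ S0 hl := hnorm _ (tp_mem_S0 hl (one_mem _) htQ)
    obtain ⟨q, hq, hq2, e | e⟩ := four_tB hl hσ ht hm
    · exfalso
      have hc : ∀ {a b : G3}, k * tA a * k⁻¹ = tA b → Commute q b := fun {a b} eb => by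
        have h1 := (commute_tA_tB a t).symm.map (MulAut.conj k).toMonoidHom
        simp only [MulEquiv.coe_toMonoidHom, MulAut.conj_apply] at h1
        rw [e, eb] at h1
        exact tA_injective ((map_mul tA _ _).trans (h1.eq.trans (map_mul tA _ _).symm))
      exact hq2 (Q8_center hl hq hqf hqg (hc ef) (hc eg) hnc')
    · exact ⟨q, hq, hq2, e⟩
  have back : ∀ (φ : G3 →* G9), (∀ t ∈ ({fG hl, gG hl} : Set G3), ∃ q ∈ Q8 hl, q * q ≠ 1 ∧ k * φ t * k⁻¹ = φ q) →
      ∀ t ∈ ({fG hl, gG hl} : Set G3), ∃ q ∈ Q8 hl, k * φ q * k⁻¹ = φ t := by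
    intro φ hφ t ht
    have hle : ((Q8 hl).map φ).map (MulAut.conj k).toMonoidHom ≤ (Q8 hl).map φ := by
      rw [Subgroup.map_map, Subgroup.map_le_iff_le_comap, Q8, Subgroup.closure_le]
      intro s hs
      obtain ⟨q, hq, -, e⟩ := hφ s hs
      exact ⟨q, hq, e.symm⟩
    haveI : Finite G9 := inferInstance
    have heq := Subgroup.eq_of_le_of_card_ge hle
      (Nat.card_congr (((Q8 hl).map φ).equivMapOfInjective _ (MulAut.conj k).injective).toEquiv).le
    have : φ t ∈ ((Q8 hl).map φ).map (MulAut.conj k).toMonoidHom := by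
      rw [heq]; exact ⟨t, Subgroup.subset_closure ht, rfl⟩
    obtain ⟨_, ⟨q, hq, rfl⟩, e⟩ := this
    exact ⟨q, hq, e⟩
  have hA := back tA hside
  have hB := back tB hBf
  have swM : (sw' : G9) ∈ M := by
    refine h.nn _ ?_ (Or.inl ?_)
    · have e : (sw' : G9) = SympNorm.sc (-1) (neg_ne_zero.2 one_ne_zero) * sw := Units.ext (by
        simp [sw', SympNorm.sc])
      rw [e]
      exact mul_mem (Subgroup.le_normalizer (scalars_le_R9 hl (SympNorm.sc_mem _ _))) (sw_mem_N9 hl)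
    · have : Equiv.Perm.sign (Equiv.prodComm (Fin 3) (Fin 3) : Equiv.Perm I9).symm = -1 := by clear * -; decide +kernel
      rw [sw', Units.val_neg, det_neg, sw, show ((pr (Equiv.prodComm (Fin 3) (Fin 3)) : G9) : M9) =
        (1 : M9).submatrix (Equiv.prodComm (Fin 3) (Fin 3) : Equiv.Perm I9).symm id from rfl, det_permute, det_one, this]
      norm_num
  set k' := sw' * k * sw'⁻¹ with hk'
  have hk'M : k' ∈ M := mul_mem (mul_mem swM hk) (inv_mem swM)
  have cA : ∀ z : G3, (sw' * tA z * sw'⁻¹ : G9) = tB z := fun z => sw'_conj z 1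
  have cB : ∀ z : G3, (sw' * tB z * sw'⁻¹ : G9) = tA z := fun z => sw'_conj 1 z
  have trans : ∀ a b : G9, k * a * k⁻¹ = b → k' * (sw' * a * sw'⁻¹) * k'⁻¹ = sw' * b * sw'⁻¹ := fun a b e => by
    rw [hk', ← e]; group
  have hA' : ∀ t ∈ ({fG hl, gG hl} : Set G3), ∃ q ∈ Q8 hl, k' * tA q * k'⁻¹ = tA t := fun t ht => by
    obtain ⟨q, hq, e⟩ := hB t ht
    exact ⟨q, hq, by simpa only [cA, cB] using trans _ _ e⟩
  have hB' : ∀ t ∈ ({fG hl, gG hl} : Set G3), ∃ q ∈ Q8 hl, k' * tB q * k'⁻¹ = tB t := fun t ht => by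
    obtain ⟨q, hq, e⟩ := hA t ht
    exact ⟨q, hq, by simpa only [cA, cB] using trans _ _ e⟩
  obtain ⟨x, hx, ex⟩ := side_image hl hσ h hM hno hk hB hA (std hl).aR
  obtain ⟨x', hx', ex'⟩ := side_image hl hσ h hM hno hk hB hA (std hl).bR
  obtain ⟨y, hy, ey⟩ := side_image hl hσ h hM hno hk'M hB' hA' (std hl).aR
  obtain ⟨y', hy', ey'⟩ := side_image hl hσ h hM hno hk'M hB' hA' (std hl).bR
  change k * tA (aG hl) * k⁻¹ = tA x at ex
  change k * tA (bG hl) * k⁻¹ = tA x' at ex'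
  change k' * tA (aG hl) * k'⁻¹ = tA y at ey
  change k' * tA (bG hl) * k'⁻¹ = tA y' at ey'
  have hz : aG hl * bG hl * (aG hl)⁻¹ * (bG hl)⁻¹ ∈ scalars (Fin 3) F := by
    refine (mem_scalars_iff _).2 ⟨Units.mk0 l (hl.ne_zero (by norm_num)), ?_⟩
    rw [Units.val_mul, Units.val_mul, Units.val_mul, comm_ab hl, smul_mul_assoc, smul_mul_assoc,
      mul_assoc (bG hl : M3), Units.mul_inv, mul_one, Units.mul_inv]
    rfl
  have comm : ∀ (j : G9) (u u' : G3), j * tA (aG hl) * j⁻¹ = tA u → j * tA (bG hl) * j⁻¹ = tA u' →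
      u * u' * u⁻¹ * u'⁻¹ = aG hl * bG hl * (aG hl)⁻¹ * (bG hl)⁻¹ := fun j u u' e e' => by
    refine tA_injective ?_
    have he : j * tA (aG hl * bG hl * (aG hl)⁻¹ * (bG hl)⁻¹) * j⁻¹ = tA (aG hl * bG hl * (aG hl)⁻¹ * (bG hl)⁻¹) := by
      rw [← (commute_scalar (tA_scalars hz) j).eq, mul_inv_cancel_right]
    rw [← he]
    simp only [map_mul, map_inv, ← e, ← e']
    group
  obtain ⟨g1, hg1, a1, b1⟩ := exists_component hl hx hx' (comm k x x' ex ex')
  obtain ⟨g2, hg2, a2, b2⟩ := exists_component hl hy hy' (comm k' y y' ey ey')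
  have eB : ∀ z w : G3, k' * tA z * k'⁻¹ = tA w → k * tB z * k⁻¹ = tB w := fun z w e => by
    have h1 : sw'⁻¹ * (k' * tA z * k'⁻¹) * sw' = sw'⁻¹ * tA w * sw' := by rw [e]
    rw [inv_eq_of_mul_eq_one_right sw'_sq] at h1
    have c1 : ∀ z : G3, (sw' * tA z * sw' : G9) = tB z := fun z => sw'_conj' z 1
    rw [← c1 z, ← c1 w, ← h1, hk']
    simp only [inv_eq_of_mul_eq_one_right sw'_sq, _root_.mul_inv_rev, mul_assoc]
    simp only [← mul_assoc sw' sw', sw'_sq, one_mul, mul_one]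
  have base : ∀ (g z w : G3), g * z * g⁻¹ * w⁻¹ ∈ scalars (Fin 3) F → g⁻¹ * w * g * z⁻¹ ∈ scalars (Fin 3) F := by
    intro g z w hs
    convert (scalars_normal (ι := Fin 3) (F := F)).conj_mem _ (inv_mem hs) g⁻¹ using 1
    group
  have gA : ∀ z w : G3, k * tA z * k⁻¹ = tA w → g1 * z * g1⁻¹ * w⁻¹ ∈ scalars (Fin 3) F →
      (tp (g1, g2))⁻¹ * k * tA z * ((tp (g1, g2))⁻¹ * k)⁻¹ * (tA z)⁻¹ ∈ scalars I9 F := by
    intro z w e hs
    have e' : (tp (g1, g2))⁻¹ * k * tA z * ((tp (g1, g2))⁻¹ * k)⁻¹ * (tA z)⁻¹ = tA (g1⁻¹ * w * g1 * z⁻¹) := by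
      rw [show (tp (g1, g2))⁻¹ * k * tA z * ((tp (g1, g2))⁻¹ * k)⁻¹ * (tA z)⁻¹ =
        (tp (g1, g2))⁻¹ * (k * tA z * k⁻¹) * tp (g1, g2) * (tA z)⁻¹ by group, e]
      simp only [tA_eq, ← map_inv, ← map_mul]
      congr 1; simp
    rw [e']; exact tA_scalars (base _ _ _ hs)
  have gB : ∀ z w : G3, k * tB z * k⁻¹ = tB w → g2 * z * g2⁻¹ * w⁻¹ ∈ scalars (Fin 3) F →
      (tp (g1, g2))⁻¹ * k * tB z * ((tp (g1, g2))⁻¹ * k)⁻¹ * (tB z)⁻¹ ∈ scalars I9 F := by
    intro z w e hs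
    have e' : (tp (g1, g2))⁻¹ * k * tB z * ((tp (g1, g2))⁻¹ * k)⁻¹ * (tB z)⁻¹ = tB (g2⁻¹ * w * g2 * z⁻¹) := by
      rw [show (tp (g1, g2))⁻¹ * k * tB z * ((tp (g1, g2))⁻¹ * k)⁻¹ * (tB z)⁻¹ =
        (tp (g1, g2))⁻¹ * (k * tB z * k⁻¹) * tp (g1, g2) * (tB z)⁻¹ by group, e]
      simp only [tB_eq, ← map_inv, ← map_mul]
      congr 1; simp
    rw [e']; exact tB_scalars (base _ _ _ hs)
  have hdR : (tp (g1, g2))⁻¹ * k ∈ R9 hl := by
    rw [mem_R9_iff]
    intro i
    fin_cases i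
    · exact gA _ _ ex a1
    · exact gA _ _ ex' b1
    · exact gB _ _ (eB _ _ ey) a2
    · exact gB _ _ (eB _ _ ey') b2
  obtain ⟨c, hc, v, w, e⟩ := R9_cases hl hdR
  set u1 := g1 * wd hl v with hu1d
  set u2 := g2 * wd hl w with hu2d
  have ek : k = c * tp (u1, u2) := by
    rw [inv_mul_eq_iff_eq_mul] at e
    rw [e, ← mul_assoc, ← (commute_scalar hc _).eq, mul_assoc, ← map_mul]
    rfl
  have kA : ∀ z : G3, k * tA z * k⁻¹ = tA (u1 * z * u1⁻¹) := fun z => by
    rw [ek, show c * tp (u1, u2) * tA z * (c * tp (u1, u2))⁻¹ = c * (tp (u1, u2) * tA z * (tp (u1, u2))⁻¹) * c⁻¹ by group,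
      (commute_scalar hc _).eq, mul_inv_cancel_right]
    simp only [tA_eq, ← map_inv, ← map_mul]
    congr 1; simp
  have kB : ∀ z : G3, k * tB z * k⁻¹ = tB (u2 * z * u2⁻¹) := fun z => by
    rw [ek, show c * tp (u1, u2) * tB z * (c * tp (u1, u2))⁻¹ = c * (tp (u1, u2) * tB z * (tp (u1, u2))⁻¹) * c⁻¹ by group,
      (commute_scalar hc _).eq, mul_inv_cancel_right]
    simp only [tB_eq, ← map_inv, ← map_mul]
    congr 1; simp
  have hu1 : u1 ∈ subgroupNormalizer (H3 hl) := mul_mem hg1 (h3_le hl (wd_mem hl v))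
  have hu2 : u2 ∈ subgroupNormalizer (H3 hl) := mul_mem hg2 (h3_le hl (wd_mem hl w))
  have hpk : (tp (u1 ^ 2 ^ n, u2 ^ 2 ^ n) : G9) ∈ scalars I9 F := by
    have e1 := hn
    rw [ek, (commute_scalar hc _).mul_pow, ← map_pow, Prod.pow_mk] at e1
    rw [eq_inv_of_mul_eq_one_right e1]
    exact inv_mem (pow_mem hc _)
  have reduce : ∀ u (hu : u ∈ subgroupNormalizer (H3 hl)), u ^ 2 ^ n ∈ scalars (Fin 3) F →
      u * fG hl * u⁻¹ ∈ Q8 hl → ∃ q ∈ Q8 hl, ∃ s ∈ scalars (Fin 3) F, u = q * s := by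
    intro u hu hus huf
    set A := chiN hl ⟨u, hu⟩ with hA
    have h12 : A ^ 12 = 1 := sl23_cases (P := fun A => A ^ 12 = 1) sl23_twelve_aux A
    have hN : A ^ 2 ^ n = 1 := by
      rw [hA, ← map_pow]; exact chi_of_inR hl (inR_scalar hl hus)
    have hg : Nat.gcd 12 (2 ^ n) ∣ 4 := by
      have h1 : Nat.Coprime (Nat.gcd 12 (2 ^ n)) 3 :=
        Nat.Coprime.coprime_dvd_left (Nat.gcd_dvd_right _ _) (Nat.Coprime.pow_left n (by norm_num))
      exact h1.dvd_of_dvd_mul_right (Nat.gcd_dvd_left 12 (2 ^ n) : _ ∣ 4 * 3)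
    obtain ⟨j, hj⟩ := hg
    have h4 : A ^ 4 = 1 := by rw [hj, pow_mul, pow_gcd_eq_one.2 ⟨h12, hN⟩, one_pow]
    obtain ⟨⟨q, hq⟩, eq⟩ := exists_q hl h4
    have hqN := (Q8_le hl hq).1
    have hr : InR hl (q⁻¹ * u) := by
      refine inR_of_chi hl (mul_mem (inv_mem hqN) hu) ?_
      show chiN hl (⟨q, hqN⟩⁻¹ * ⟨u, hu⟩) = 1
      rw [map_mul, map_inv, ← hA, show chiN hl ⟨q, hqN⟩ = A from eq, inv_mul_cancel]
    obtain ⟨r, hr'⟩ := hr
    set s := q⁻¹ * u with hs
    have hsQ : s * fG hl * s⁻¹ ∈ Q8 hl := by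
      rw [hs, show q⁻¹ * u * fG hl * (q⁻¹ * u)⁻¹ = q⁻¹ * (u * fG hl * u⁻¹) * q by group]
      exact mul_mem (mul_mem (inv_mem hq) huf) hq
    have hsN : s ∈ subgroupNormalizer (H3 hl) := mul_mem (inv_mem hqN) hu
    have hfix : s * fG hl * s⁻¹ = fG hl := by
      refine congrArg Subtype.val (chQ_injective hl (a₁ := ⟨_, hsQ⟩) (a₂ := ⟨_, fG_Q8 hl⟩) ?_)
      show chiN hl ⟨_, _⟩ = chiN hl ⟨fG hl, (fG_mem hl).1⟩
      have e1 : chiN hl ⟨s, hsN⟩ = 1 := chi_of_inR hl ⟨r, hr'⟩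
      rw [show (⟨s * fG hl * s⁻¹, (Q8_le hl hsQ).1⟩ : subgroupNormalizer (H3 hl)) =
        ⟨s, hsN⟩ * ⟨fG hl, (fG_mem hl).1⟩ * ⟨s, hsN⟩⁻¹ from rfl, map_mul, map_mul, map_inv, e1]
      simp
    have hr0 : r = 0 := commute_fG_rel hl hr' (mul_inv_eq_iff_eq_mul.1 hfix).symm
    subst hr0
    exact ⟨q, hq, s, hr'.scalar, by rw [hs]; group⟩
  have huf1 : u1 * fG hl * u1⁻¹ ∈ Q8 hl := tA_injective ((kA _).symm.trans ef) ▸ hqf
  have huf2 : u2 * fG hl * u2⁻¹ ∈ Q8 hl := by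
    obtain ⟨q, hq, -, e3⟩ := hBf _ (Set.mem_insert _ _)
    exact tB_injective ((kB _).symm.trans e3) ▸ hq
  obtain ⟨q1, hq1, s1, hs1, eu1⟩ := reduce u1 hu1 (tp_scalar hpk).1 huf1
  obtain ⟨q2, hq2, s2, hs2, eu2⟩ := reduce u2 hu2 (tp_scalar hpk).2 huf2
  rw [eu1, eu2] at ek
  have ek' : k = c * tp (s1, s2) * tp (q1, q2) := by
    rw [ek, mul_assoc, ← map_mul, Prod.mk_mul_mk, (commute_scalar hs1 q1).eq, (commute_scalar hs2 q2).eq]
  set c' := c * tp (s1, s2) with hc'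
  have hcs : c' ∈ scalars I9 F := mul_mem hc (tp_scalars hl hs1 hs2)
  obtain ⟨d, hd'⟩ := (mem_scalars_iff c').1 hcs
  have hd9 : (d : F) ^ 9 = 1 := by
    have h1 := hd
    rw [ek', Units.val_mul, det_mul, det_tp, det_Q8 hl hq1, det_Q8 hl hq2, hd', det_smul, det_one] at h1
    simpa using h1
  have hq4 : (tp (q1, q2) : G9) ^ 8 = 1 := pow_eight hl (tp_mem_S0 hl hq1 hq2)
  have hdN : (d : F) ^ (2 ^ n * 8) = 1 := by
    have h1 : k ^ (2 ^ n * 8) = 1 := by rw [pow_mul, hn, one_pow]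
    rw [ek', (commute_scalar hcs _).mul_pow, pow_mul' (tp (q1, q2)), hq4, one_pow, mul_one] at h1
    have h3 := congrArg (fun g : G9 => (g : M9) ((0, 0) : I9) ((0, 0) : I9)) h1
    simpa [Units.val_pow_eq_pow_val, hd', smul_pow] using h3
  have hd1 : (d : F) = 1 := by
    have hcop : Nat.Coprime 9 (2 ^ n * 8) := by
      rw [show 2 ^ n * 8 = 2 ^ (n + 3) by rw [pow_add]; rfl]
      exact Nat.Coprime.pow_right _ (by norm_num)
    have := pow_gcd_eq_one.2 ⟨hd9, hdN⟩
    rwa [hcop, pow_one] at this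
  have : c' = 1 := Units.ext (by rw [hd', hd1, one_smul, Units.val_one])
  rw [ek', this, one_mul]
  exact tp_mem_S0 hl hq1 hq2

/-- A two-element normalising the two-group lies in it. -/
theorem normalizing_two_element (h : Ctx hl M) (hM : M ≤ Sim σ I9) (hno : ¬ SUn σ I9 ≤ M) (hS : S0 hl ≤ M) {h₀ : G9} (h0M : h₀ ∈ M)
    (h0d : (h₀ : M9).det = 1) {n : ℕ} (h0n : h₀ ^ 2 ^ n = 1) (hnorm : ∀ x ∈ S0 hl, h₀ * x * h₀⁻¹ ∈ S0 hl) :
    h₀ ∈ S0 hl := by
  have img : ∀ t ∈ ({fG hl, gG hl} : Set G3),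
      ∃ q ∈ Q8 hl, q * q ≠ 1 ∧ (h₀ * tA t * h₀⁻¹ = tA q ∨ h₀ * tA t * h₀⁻¹ = tB q) := fun t ht =>
    four_tA hl hσ ht (hnorm _ (tp_mem_S0 hl (Subgroup.subset_closure ht) (one_mem _)))
  obtain ⟨a, ha, ha2, ea⟩ := img _ (Set.mem_insert _ _)
  obtain ⟨b, hb, hb2, eb⟩ := img _ (Set.mem_insert_of_mem _ rfl)
  have nocom : ∀ A B : G9, Commute A B → h₀ * tA (fG hl) * h₀⁻¹ = A → h₀ * tA (gG hl) * h₀⁻¹ = B → False := by
    intro A B hc eA eB
    rw [← eA, ← eB] at hc
    have e2 := hc.map (MulAut.conj h₀⁻¹).toMonoidHom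
    simp only [MulEquiv.coe_toMonoidHom, MulAut.conj_apply, inv_inv, ← mul_assoc, inv_mul_cancel, one_mul,
      inv_mul_cancel_right] at e2
    have e : chQ hl (⟨fG hl, fG_Q8 hl⟩ * ⟨gG hl, gG_Q8 hl⟩) = chQ hl (⟨gG hl, gG_Q8 hl⟩ * ⟨fG hl, fG_Q8 hl⟩) :=
      congrArg (chQ hl) (Subtype.ext (tA_injective ((map_mul tA _ _).trans (e2.eq.trans (map_mul tA _ _).symm))))
    rw [map_mul, map_mul, (chQ_vals hl).1, (chQ_vals hl).2.1] at e
    exact absurd e (by clear * -; decide +kernel)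
  rcases ea with ea | ea <;> rcases eb with eb | eb
  · refine fixing_sides hl hσ h hM hno h0M h0d h0n hnorm fun t ht => ?_
    rcases ht with rfl | rfl
    exacts [⟨a, ha, ha2, ea⟩, ⟨b, hb, hb2, eb⟩]
  · exact (nocom _ _ (commute_tA_tB a b) ea eb).elim
  · exact (nocom _ _ (commute_tA_tB b a).symm ea eb).elim
  · have hs := sw'_mem_S0 hl
    have cB : ∀ z : G3, (sw' * tB z * sw'⁻¹ : G9) = tA z := fun z => sw'_conj 1 z
    have hnormk : ∀ x ∈ S0 hl, sw' * h₀ * x * (sw' * h₀)⁻¹ ∈ S0 hl := fun x hx => by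
      rw [show sw' * h₀ * x * (sw' * h₀)⁻¹ = sw' * (h₀ * x * h₀⁻¹) * sw'⁻¹ by group]
      exact mul_mem (mul_mem hs (hnorm x hx)) (inv_mem hs)
    have hpow : ∀ j : ℕ, (sw' * h₀) ^ j * (h₀ ^ j)⁻¹ ∈ S0 hl := by
      intro j
      induction j with
      | zero => simp
      | succ j ih =>
        have e' : (sw' * h₀) ^ (j + 1) * (h₀ ^ (j + 1))⁻¹ = sw' * (h₀ * ((sw' * h₀) ^ j * (h₀ ^ j)⁻¹) * h₀⁻¹) := by
          rw [pow_succ', pow_succ']; group
        rw [e']
        exact mul_mem hs (hnorm _ ih)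
    have hn' : (sw' * h₀) ^ 2 ^ (n + 3) = 1 := by
      rw [pow_add, pow_mul]
      have := hpow (2 ^ n)
      rw [h0n, inv_one, mul_one] at this
      exact pow_eight hl this
    have hdet : ((sw' * h₀ : G9) : M9).det = 1 := by
      have hdS : ((sw' : G9) : M9).det = 1 := by
        have : Equiv.Perm.sign (Equiv.prodComm (Fin 3) (Fin 3) : Equiv.Perm I9).symm = -1 := by clear * -; decide +kernel
        rw [sw', Units.val_neg, det_neg, sw, show ((pr (Equiv.prodComm (Fin 3) (Fin 3)) : G9) : M9) =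
          (1 : M9).submatrix (Equiv.prodComm (Fin 3) (Fin 3) : Equiv.Perm I9).symm id from rfl, det_permute, det_one, this]
        norm_num
      rw [Units.val_mul, det_mul, hdS, h0d, one_mul]
    have := fixing_sides hl hσ h hM hno (mul_mem (hS hs) h0M) hdet hn' hnormk fun t ht => by
      rcases ht with rfl | rfl
      · exact ⟨a, ha, ha2, by rw [show sw' * h₀ * tA (fG hl) * (sw' * h₀)⁻¹ =
          sw' * (h₀ * tA (fG hl) * h₀⁻¹) * sw'⁻¹ by group, ea, cB]⟩
      · exact ⟨b, hb, hb2, by rw [show sw' * h₀ * tA (gG hl) * (sw' * h₀)⁻¹ =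
          sw' * (h₀ * tA (gG hl) * h₀⁻¹) * sw'⁻¹ by group, eb, cB]⟩
    simpa using mul_mem (inv_mem hs) this

/-- The two-group is a maximal two-subgroup. -/
theorem two_group_le (h : Ctx hl M) (hM : M ≤ Sim σ I9) (hno : ¬ SUn σ I9 ≤ M) {P : Subgroup G9} (hP : IsPGroup 2 P)
    (hPM : P ≤ M) (hPd : P ≤ specialLinear I9 F) (hSP : S0 hl ≤ P) : P ≤ S0 hl := by
  classical
  haveI : Fact (Nat.Prime 2) := ⟨Nat.prime_two⟩
  haveI : Finite G9 := inferInstance
  haveI := hP.isNilpotent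
  by_contra hne
  have hlt : (S0 hl).subgroupOf P < ⊤ :=
    lt_top_iff_ne_top.2 fun e => hne (Subgroup.subgroupOf_eq_top.1 e)
  obtain ⟨⟨g, hgP⟩, hgN, hgS⟩ := SetLike.exists_of_lt (normalizerCondition_of_isNilpotent _ hlt)
  have hgd : (g : M9).det = 1 := by
    have h1 := congrArg Units.val (MonoidHom.mem_ker.1 (hPd hgP))
    rw [Matrix.GeneralLinearGroup.val_det_apply, Units.val_one] at h1
    exact h1
  refine hgS (Subgroup.mem_subgroupOf.2 ?_)
  obtain ⟨n, hn⟩ := hP ⟨g, hgP⟩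
  refine normalizing_two_element hl hσ h hM hno (hSP.trans hPM) (hPM hgP) hgd
    (n := n) (by simpa using congrArg Subtype.val hn) fun x hx => ?_
  exact Subgroup.mem_subgroupOf.1 ((Subgroup.mem_normalizer_iff.1 hgN ⟨x, hSP hx⟩).1 (Subgroup.mem_subgroupOf.2 hx))

end CfsgLib.Geo.NineU
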